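import Cfsg.Agent.Lib.Recog.OddUnitary.FiveBase

/-!
`U` is not abelian for `q = 5`.
-/

set_option autoImplicit false
set_option linter.unusedSectionVars false
set_option maxHeartbeats 1000000

namespace CfsgLib.Recog.OddUnitary

open MulAction Five

universe u v

/-- Five is prime, for the local use of the field `ZMod 5`. -/
local instance factFiveAbelian : Fact (Nat.Prime 5) := ⟨by norm_num⟩

variable {G : Type u} {Ω : Type v} [Group G] [MulAction G Ω] {a b : Ω} {U : Subgroup G} {p n : ℕ}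
  {j : G} {Z W : Subgroup G} {K E : Type} [Field K] [Field E] {ν : ↥(Hsub G a b) →* Kˣ} {ζ : G → K}
  {Φ : ↥(Hsub G a b) →* Eˣ} {ξ : G → E} {t : G}

theorem nonabelian_five (f : Frame G a b U p n j Z W K E ν ζ Φ ξ) (h1 : f.OneInvol) (h2 : f.Blocks)
    (ht : f.Inv t) (hq : p ^ n = 5) : ∃ x ∈ U, ∃ y ∈ U, x * y ≠ y * x := by
  classical
  by_contra hab
  push Not at hab
  have hE : Nat.card E = 25 := by rw [f.card_frame, hq]; norm_num
  obtain ⟨δ, hδ, hδ5⟩ := exists_delta hE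
  obtain ⟨φ, s, pr⟩ := exists_pairs hE hδ hδ5
  obtain ⟨ψ, hψ⟩ := exists_psi f hq
  let J : ↥(Hsub G a b) := ⟨j, f.j_mem⟩
  have hjinv : j⁻¹ = j := inv_eq_of_mul_eq_one_right f.j_sq
  -- the part fixed by `j`
  have hP : ∀ x ∈ U, x * (j * x * j⁻¹) ∈ Z := by
    intro x hx
    have hj : j * x * j⁻¹ ∈ U := f.conj_U J hx
    rw [f.Z_eq, Subgroup.mem_inf, Subgroup.mem_centralizer_singleton_iff]
    refine ⟨mul_mem hx hj, ?_⟩
    calc x * (j * x * j⁻¹) * j = (j * x * j⁻¹) * x * j := by rw [hab x hx _ hj]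
      _ = j * (x * (j * x * j⁻¹)) := by rw [hjinv]; group
  obtain ⟨ψi, hψi⟩ : ∃ g : K → ZMod 5, ∀ k, ψ (g k) = k := ⟨_, Function.surjInv_eq hψ.2⟩
  let α : G → ZMod 5 := fun x => 3 * ψi (ζ (x * (j * x * j⁻¹)))
  have hαψ : ∀ x, ψ (α x) = ψ 3 * ζ (x * (j * x * j⁻¹)) := fun x => by rw [map_mul, hψi]
  have hmul : ∀ x ∈ U, ∀ y ∈ U, α (x * y) = α x + α y := by
    intro x hx y hy
    refine hψ.1 ?_
    have hj : j * x * j⁻¹ ∈ U := f.conj_U J hx
    have e : x * y * (j * (x * y) * j⁻¹) = x * (j * x * j⁻¹) * (y * (j * y * j⁻¹)) := by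
      calc x * y * (j * (x * y) * j⁻¹) = x * (y * (j * x * j⁻¹)) * (j * y * j⁻¹) := by group
        _ = x * ((j * x * j⁻¹) * y) * (j * y * j⁻¹) := by rw [hab y hy _ hj]
        _ = _ := by group
    rw [map_add, hαψ, hαψ, hαψ, e, f.zeta_add _ (hP x hx) _ (hP y hy)]
    ring
  have hZα : ∀ z ∈ Z, ψ (α z) = ζ z := by
    intro z hz
    rw [hαψ, show j * z * j⁻¹ = z by rw [← f.Z_comm_j hz]; group, f.zeta_add z hz z hz]
    have h3 : ψ 3 * 2 = 1 := by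
      rw [← map_ofNat ψ 2, ← map_mul, show (3 * 2 : ZMod 5) = 1 by decide, map_one]
    linear_combination (ζ z) * h3
  have hshift : ∀ x ∈ U, ∀ z ∈ Z, ψ (α (z * x)) = ζ z + ψ (α x) := fun x hx z hz => by
    rw [hmul z (f.Z_le hz) x hx, map_add, hZα z hz]
  have hconj : ∀ x ∈ U, ∀ k : ↥(Hsub G a b), ψ (α ((k : G) * x * (k : G)⁻¹)) = (ν k : K) * ψ (α x) := by
    intro x hx k
    have e : (k : G) * x * (k : G)⁻¹ * (j * ((k : G) * x * (k : G)⁻¹) * j⁻¹) =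
        (k : G) * (x * (j * x * j⁻¹)) * (k : G)⁻¹ := by
      have hc : j * (k : G) = (k : G) * j := f.comm_H f.j_mem k.2
      have hc' : (k : G)⁻¹ * j⁻¹ = j⁻¹ * (k : G)⁻¹ := by rw [← mul_inv_rev, hc, mul_inv_rev]
      calc (k : G) * x * (k : G)⁻¹ * (j * ((k : G) * x * (k : G)⁻¹) * j⁻¹)
          = (k : G) * x * (k : G)⁻¹ * ((j * (k : G)) * x * ((k : G)⁻¹ * j⁻¹)) := by group
        _ = _ := by rw [hc, hc']; group
    rw [hαψ, hαψ, e, f.zeta_scale k _ (hP x hx)]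
    ring
  have hα : Alpha f ψ α := ⟨hshift, hconj⟩
  -- the norm on the torus
  have hker : ∀ k, ν k = 1 ↔ (Φ k : E) ^ 6 = 1 := fun k => by
    rw [f.nu_ker k, ← f.phi_W k, hq]
  have hN : ∀ k : ↥(Hsub G a b), ∃ T : ZMod 5, T ≠ 0 ∧ (Φ k : E) ^ 6 = φ T := by
    intro k
    obtain ⟨u, hu⟩ := pr.eP_surj (Φ k : E)
    exact ⟨nmP s u, nmP_ne s pr.s_mem u fun e => (Φ k).ne_zero (by rw [← hu, e, pr.eP_zero]),
      by rw [← hu, pr.eP_norm]⟩
  obtain ⟨k1, hk1⟩ : ∃ k : ↥(Hsub G a b), (Φ k : E) ^ 6 = φ 2 := by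
    have hsel : ∀ s : ZMod 5, s = 2 ∨ s = 3 → ∃ c : ZMod 5, c ≠ 0 ∧ nmP s (0, c) = 2 ∧
        cls s (1, 0) = cls s (0, c) := by decide +kernel
    obtain ⟨c, hc0, hcn, hcl⟩ := hsel s pr.s_mem
    obtain ⟨k, hk⟩ := exists_phi f hq pr (v := (0, c)) (r := (1, 0))
      (fun e => hc0 (congrArg Prod.snd e)) (by decide) hcl
    refine ⟨k, ?_⟩
    rw [← hcn, ← pr.eP_norm, hk, mul_pow, pr.eP_norm, show nmP s ((1, 0) : P) = 1 by simp [nmP], map_one, mul_one]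
  obtain ⟨w, hw⟩ := hψ.2 (ν k1 : K)
  have hpow : ∀ (k : ↥(Hsub G a b)) (T : ZMod 5), (Φ k : E) ^ 6 = φ T →
      ∃ i : Fin 4, T = 2 ^ (i : ℕ) ∧ (ν k : K) = ψ (w ^ (i : ℕ)) := by
    intro k T e
    obtain ⟨T', hT', e'⟩ := hN k
    obtain rfl : T' = T := φ.injective (e'.symm.trans e)
    have hgen : ∀ T : ZMod 5, T ≠ 0 → ∃ i : Fin 4, T = 2 ^ (i : ℕ) := by decide +kernel
    obtain ⟨i, hi⟩ := hgen T' hT'
    refine ⟨i, hi, ?_⟩
    have h0 : ν (k * (k1 ^ (i : ℕ))⁻¹) = 1 := by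
      refine (hker _).2 ?_
      rw [map_mul, map_inv, map_pow, Units.val_mul, Units.val_inv_eq_inv_val, Units.val_pow_eq_pow_val,
        mul_pow, inv_pow, ← pow_mul, mul_comm (i : ℕ) 6, pow_mul, hk1, e', hi, map_pow,
        mul_inv_cancel₀ (pow_ne_zero _ ((map_ne_zero φ).2 (by decide)))]
    rw [map_mul, map_inv, mul_inv_eq_one, map_pow] at h0
    rw [h0, Units.val_pow_eq_pow_val, ← hw, map_pow]
  have hw23 : w = 2 ∨ w = 3 := by
    have hw4 : w ≠ 0 := fun e => (ν k1).ne_zero (by rw [← hw, e, map_zero])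
    have hne : w * w ≠ 1 := by
      intro e
      have h0 : ν (k1 * k1) = 1 := Units.ext (by rw [map_mul, Units.val_mul, ← hw, ← map_mul, e, map_one, Units.val_one])
      have h6 := (hker _).1 h0
      rw [map_mul, Units.val_mul, mul_pow, hk1, ← map_mul, ← φ.map_one] at h6
      exact absurd (φ.injective h6) (by decide)
    have key : ∀ w : ZMod 5, w ≠ 0 → w * w ≠ 1 → w = 2 ∨ w = 3 := by decide
    exact key w hw4 hne
  obtain ⟨inv, hinv⟩ : ∃ inv : Bool, val inv 2 = w := by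
    rcases hw23 with e | e
    · exact ⟨false, by rw [e]; rfl⟩
    · exact ⟨true, by rw [e]; decide⟩
  have hν : ∀ (k : ↥(Hsub G a b)) (T : ZMod 5), (Φ k : E) ^ 6 = φ T → (ν k : K) = ψ (val inv T) := by
    intro k T e
    obtain ⟨i, hi, hk⟩ := hpow k T e
    rw [hk, hi, ← hinv]
    congr 1
    cases inv
    · rfl
    · simp only [val, if_true, mul_pow]
  obtain ⟨r1, r2, h, X, hr1, hr2, hX⟩ := exists_config f hq pr h1 ht h2
  obtain ⟨D, hD⟩ := hψ.2 (ν h : K)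
  have hD0 : D ≠ 0 := fun e => (ν h).ne_zero (by rw [← hD, e, map_zero])
  have hchk : chkA s inv (reps r1 r2) D (fun o => -α (X o)) = true := by
    rw [chkA, List.all_eq_true]
    intro i _
    refine oneBase_ok f hq pr h1 ht h2 hα hν hr1 hr2 hX hD i fun q hmem => ?_
    obtain ⟨hyU, -, -, hyα⟩ := pick_spec f hq pr h1 ht h2 hα hν hr1 hr2 hX hD hmem
    have hxU := (hX i).1
    have e := hmul _ hxU _ (mul_mem (inv_mem hxU) hyU)
    rw [mul_inv_cancel_left, hyα] at e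
    simp only [aA]
    linear_combination -e
  rw [not_chkA pr.s_mem inv hr1 hr2 hD0] at hchk
  exact Bool.noConfusion hchk

end CfsgLib.Recog.OddUnitary
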