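import Cfsg.Agent.Lib.Recog.OddUnitary.Defs
import Cfsg.Agent.Lib.Classical.SUCenter
import Cfsg.Agent.S0277

/-!
A group acting on the affine unital with the translations and the inversion is `PSU(3,q)`.
-/

set_option autoImplicit false

namespace CfsgLib.Recog.OddUnitary

open Matrix

universe u v

namespace Model

variable {E : Type} [Field E] {q : ℕ}

/-- What the computations need of the exponent. -/
structure Frob (E : Type) [Field E] (q : ℕ) : Prop where
  add : ∀ x y : E, (x + y) ^ q = x ^ q + y ^ q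
  twice : ∀ x : E, (x ^ q) ^ q = x
  odd : Odd q
  two : (2 : E) ≠ 0

theorem Frob.ne_zero (F : Frob E q) : q ≠ 0 := F.odd.pos.ne'

theorem Frob.sub (F : Frob E q) (x y : E) : (x - y) ^ q = x ^ q - y ^ q := by
  rw [sub_eq_add_neg, F.add, F.odd.neg_pow, ← sub_eq_add_neg]

theorem Frob.half (F : Frob E q) : ((2 : E)⁻¹) ^ q = (2 : E)⁻¹ := by
  rw [inv_pow, show (2 : E) = 1 + 1 from one_add_one_eq_two.symm, F.add, one_pow]

/-- The hyperbolic form. -/
def beta (q : ℕ) (u v : Fin 3 → E) : E := u 0 * v 2 ^ q + u 2 * v 0 ^ q - u 1 * v 1 ^ q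

/-- A translation. -/
def trM (q : ℕ) (a y : E) : Matrix (Fin 3) (Fin 3) E := !![1, a ^ q, y; 0, 1, a; 0, 0, 1]

/-- The inversion. -/
def invM : Matrix (Fin 3) (Fin 3) E := !![0, 0, -1; 0, -1, 0; -1, 0, 0]

/-- The change of basis. -/
def chg (c : E) : Matrix (Fin 3) (Fin 3) E := !![1, 0, (2 : E)⁻¹; c, 0, -(c * (2 : E)⁻¹); 0, c, 0]

theorem det_trM (a y : E) : (trM q a y).det = 1 := by simp [trM, Matrix.det_fin_three]

theorem det_invM : (invM : Matrix (Fin 3) (Fin 3) E).det = 1 := by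
  simp [invM, Matrix.det_fin_three]

theorem beta_trM (F : Frob E q) {a y : E} (h : y + y ^ q = a ^ (q + 1)) (u v : Fin 3 → E) :
    beta q (trM q a y *ᵥ u) (trM q a y *ᵥ v) = beta q u v := by
  simp [beta, trM, Matrix.mulVec, dotProduct, Fin.sum_univ_three, F.add, mul_pow, F.twice]
  rw [pow_succ] at h
  linear_combination (u 2 * v 2 ^ q) * h

theorem beta_invM (F : Frob E q) (u v : Fin 3 → E) :
    beta q (invM *ᵥ u) (invM *ᵥ v) = beta q u v := by
  simp [beta, invM, Matrix.mulVec, dotProduct, Fin.sum_univ_three, F.odd.neg_pow]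
  ring

theorem herm_chg (F : Frob E q) {c : E} (hc : c ^ (q + 1) = -1) (u v : Fin 3 → E) :
    Cfsg.hermForm 3 E q (chg c *ᵥ u) (chg c *ᵥ v) = beta q u v := by
  simp [beta, chg, Cfsg.hermForm, Matrix.mulVec, dotProduct, Fin.sum_univ_three, F.add, mul_pow,
    F.half, F.odd.neg_pow, zero_pow F.ne_zero]
  rw [pow_succ] at hc
  have h2 : (2 : E) * (2 : E)⁻¹ = 1 := mul_inv_cancel₀ F.two
  linear_combination (u 0 * v 0 ^ q - (2 : E)⁻¹ * (u 0 * v 2 ^ q + u 2 * v 0 ^ q) +
    (2 : E)⁻¹ * (2 : E)⁻¹ * (u 2 * v 2 ^ q) + u 1 * v 1 ^ q) * hc +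
    (u 0 * v 2 ^ q + u 2 * v 0 ^ q) * h2

theorem det_chg (F : Frob E q) {c : E} (hc : c ^ (q + 1) = -1) : (chg c).det ≠ 0 := by
  have hc0 : c ≠ 0 := by
    rintro rfl
    rw [zero_pow (Nat.succ_ne_zero q)] at hc
    exact one_ne_zero (neg_eq_zero.1 hc.symm)
  have e : (chg c).det = c * c := by
    simp [chg, Matrix.det_fin_three]
    linear_combination (c * c) * (mul_inv_cancel₀ F.two)
  rw [e]
  exact mul_ne_zero hc0 hc0

/-- Homogeneous coordinates of a point. -/
def hv : Option (E × E) → Fin 3 → E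
  | none => ![1, 0, 0]
  | some v => ![v.2, v.1, 1]

theorem hv_ne_zero : ∀ o : Option (E × E), hv o ≠ 0
  | none => fun h => one_ne_zero (congrFun h 0)
  | some _ => fun h => one_ne_zero (congrFun h 2)

theorem hv_inj {o o' : Option (E × E)} {s : E} (hs : s ≠ 0) (h : hv o = s • hv o') : o = o' := by
  have h0 := congrFun h 0
  have h1 := congrFun h 1
  have h2 := congrFun h 2
  rcases o with _ | ⟨x, y⟩ <;> rcases o' with _ | ⟨x', y'⟩ <;>
    simp [hv] at h0 h1 h2 ⊢
  · exact hs h2.symm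
  · subst h2
    simp only [one_mul] at h0 h1
    exact ⟨h1, h0⟩

theorem trM_hv (a y : E) (v : E × E) : trM q a y *ᵥ hv (some v) = hv (some (trRaw q (a, y) v)) := by
  ext i
  fin_cases i <;> simp [trM, hv, trRaw, Matrix.mulVec, dotProduct, Fin.sum_univ_three] <;> ring

theorem trM_none (a y : E) : trM q a y *ᵥ hv (none : Option (E × E)) = hv none := by
  ext i
  fin_cases i <;> simp [trM, hv, Matrix.mulVec, dotProduct, Fin.sum_univ_three]

theorem invM_none : invM *ᵥ hv (none : Option (E × E)) = (-1 : E) • hv (some (0, 0)) := by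
  ext i
  fin_cases i <;> simp [invM, hv, Matrix.mulVec, dotProduct, Fin.sum_univ_three]

theorem invM_origin : invM *ᵥ hv (some ((0, 0) : E × E)) = (-1 : E) • hv none := by
  ext i
  fin_cases i <;> simp [invM, hv, Matrix.mulVec, dotProduct, Fin.sum_univ_three]

theorem invM_some {v : E × E} (hy : v.2 ≠ 0) :
    invM *ᵥ hv (some v) = (-v.2) • hv (some (invRaw v)) := by
  ext i
  fin_cases i <;> simp [invM, hv, invRaw, Matrix.mulVec, dotProduct, Fin.sum_univ_three] <;>
    field_simp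

variable [Fintype E]

/-- The action of an element of `SU` on vectors. -/
def mv (A : ↥(Cfsg.SU 3 E q)) (v : Fin 3 → E) : Fin 3 → E :=
  (A.1 : Matrix (Fin 3) (Fin 3) E) *ᵥ v

omit [Fintype E] in
theorem mv_mul (A B : ↥(Cfsg.SU 3 E q)) (v : Fin 3 → E) : mv (A * B) v = mv A (mv B v) := by
  simp [mv, Matrix.mulVec_mulVec]

omit [Fintype E] in
theorem mv_one (v : Fin 3 → E) : mv (1 : ↥(Cfsg.SU 3 E q)) v = v := by
  simp [mv]

omit [Fintype E] in
theorem mv_smul (A : ↥(Cfsg.SU 3 E q)) (s : E) (v : Fin 3 → E) : mv A (s • v) = s • mv A v :=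
  Matrix.mulVec_smul _ _ _

omit [Fintype E] in
/-- An isometry of the hyperbolic form, transported to the standard one. -/
theorem exists_lift (F : Frob E q) {c : E} (hc : c ^ (q + 1) = -1) {M : Matrix (Fin 3) (Fin 3) E}
    (hd : M.det = 1) (hb : ∀ u v, beta q (M *ᵥ u) (M *ᵥ v) = beta q u v) :
    ∃ A : ↥(Cfsg.SU 3 E q), ∀ v, mv A (chg c *ᵥ v) = chg c *ᵥ (M *ᵥ v) := by
  let P : GL (Fin 3) E := Matrix.GeneralLinearGroup.mkOfDetNeZero _ (det_chg F hc)
  have hP : (P : Matrix (Fin 3) (Fin 3) E) = chg c := rfl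
  let A0 : Matrix (Fin 3) (Fin 3) E := chg c * M * ((P⁻¹ : GL (Fin 3) E) : Matrix (Fin 3) (Fin 3) E)
  have hPi : ((P⁻¹ : GL (Fin 3) E) : Matrix (Fin 3) (Fin 3) E) * chg c = 1 := by
    rw [← hP, ← Units.val_mul, inv_mul_cancel, Units.val_one]
  have hPi' : chg c * ((P⁻¹ : GL (Fin 3) E) : Matrix (Fin 3) (Fin 3) E) = 1 := by
    rw [← hP, ← Units.val_mul, mul_inv_cancel, Units.val_one]
  have hdet : A0.det = 1 := by
    show det (_ * _ * _) = 1
    rw [det_mul, det_mul, hd, mul_one, ← det_mul, hPi', det_one]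
  have hA : ∀ v, A0 *ᵥ (chg c *ᵥ v) = chg c *ᵥ (M *ᵥ v) := fun v => by
    rw [mulVec_mulVec, mulVec_mulVec, show A0 * chg c = chg c * M by
      simp only [A0, mul_assoc, hPi, mul_one]]
  refine ⟨⟨⟨A0, hdet⟩, fun u v => ?_⟩, hA⟩
  show Cfsg.hermForm 3 E q (A0 *ᵥ u) (A0 *ᵥ v) = Cfsg.hermForm 3 E q u v
  obtain ⟨u', rfl⟩ : ∃ u', chg c *ᵥ u' = u :=
    ⟨((P⁻¹ : GL (Fin 3) E) : Matrix (Fin 3) (Fin 3) E) *ᵥ u, by rw [mulVec_mulVec, hPi', one_mulVec]⟩
  obtain ⟨v', rfl⟩ : ∃ v', chg c *ᵥ v' = v :=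
    ⟨((P⁻¹ : GL (Fin 3) E) : Matrix (Fin 3) (Fin 3) E) *ᵥ v, by rw [mulVec_mulVec, hPi', one_mulVec]⟩
  rw [hA, hA, herm_chg F hc, herm_chg F hc, hb]

section Gamma

variable {G : Type u} {Ω : Type v} [Group G] [MulAction G Ω] (co : Ω → Fin 3 → E)

/-- Pairs with the same action on the points. -/
def pairGroup (q : ℕ) : Subgroup (G × ↥(Cfsg.SU 3 E q)) where
  carrier := {x | ∀ c : Ω, ∃ s : E, s ≠ 0 ∧ mv x.2 (co c) = s • co (x.1 • c)}
  one_mem' := fun c => ⟨1, one_ne_zero, by rw [Prod.snd_one, mv_one, Prod.fst_one, one_smul, one_smul]⟩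
  mul_mem' := fun {x y} hx hy c => by
    obtain ⟨s, hs, h1⟩ := hy c
    obtain ⟨r, hr, h2⟩ := hx (y.1 • c)
    exact ⟨s * r, mul_ne_zero hs hr, by
      rw [Prod.snd_mul, mv_mul, h1, mv_smul, h2, Prod.fst_mul, mul_smul x.1, smul_smul]⟩
  inv_mem' := fun {x} hx c => by
    obtain ⟨s, hs, h⟩ := hx (x.1⁻¹ • c)
    rw [smul_inv_smul] at h
    refine ⟨s⁻¹, inv_ne_zero hs, ?_⟩
    have h' := congrArg (mv x.2⁻¹) h
    rw [← mv_mul, inv_mul_cancel, mv_one, mv_smul] at h'
    rw [Prod.snd_inv, Prod.fst_inv, h', smul_smul, inv_mul_cancel₀ hs, one_smul]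

end Gamma

theorem frob_of_card {p n : ℕ} (hp : p.Prime) (hp2 : p ≠ 2) (hn : 1 ≤ n)
    (hE : Fintype.card E = (p ^ n) ^ 2) : Frob E (p ^ n) := by
  haveI : Fact p.Prime := ⟨hp⟩
  haveI : CharP E p := charP_of_card_eq_prime_pow (f := n * 2) (by rw [hE, ← pow_mul])
  refine ⟨fun x y => add_pow_char_pow x y p n, fun x => ?_, (hp.odd_of_ne_two hp2).pow, fun h => ?_⟩
  · rw [← pow_mul, ← sq, ← hE, FiniteField.pow_card]
  · have h2 : ((2 : ℕ) : E) = 0 := by simpa using h
    rw [CharP.cast_eq_zero_iff E p 2] at h2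
    exact hp2 ((Nat.prime_two.eq_one_or_self_of_dvd p h2).resolve_left hp.ne_one)

theorem exists_norm_neg_one {q : ℕ} (hq : Odd q) (hE : Fintype.card E = q ^ 2) :
    ∃ c : E, c ^ (q + 1) = -1 := by
  obtain ⟨g, hg⟩ := IsCyclic.exists_generator (α := Eˣ)
  obtain ⟨k, hk⟩ := hq
  have hord : orderOf g = (q - 1) * (q + 1) := by
    rw [orderOf_eq_card_of_forall_mem_zpowers hg, Nat.card_units, Nat.card_eq_fintype_card, hE]
    subst hk
    simp only [Nat.add_sub_cancel]
    rw [show (2 * k + 1) ^ 2 = 2 * k * (2 * k + 1 + 1) + 1 by ring, Nat.add_sub_cancel]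
  refine ⟨((g ^ k : Eˣ) : E), ?_⟩
  rw [← Units.val_pow_eq_pow_val, ← pow_mul]
  have hk0 : 0 < k := by
    by_contra h
    have h0 : k = 0 := by omega
    subst h0
    have := Fintype.one_lt_card (α := E)
    rw [hE, hk] at this
    norm_num at this
  have hlt : k * (q + 1) < orderOf g := by
    rw [hord]; subst hk; simp only [Nat.add_sub_cancel]; nlinarith
  have h1 : (g ^ (k * (q + 1))) ≠ 1 := fun e =>
    absurd (Nat.le_of_dvd (by positivity) (orderOf_dvd_of_pow_eq_one e)) (not_le.2 hlt)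
  have hsq : ((g ^ (k * (q + 1)) : Eˣ) : E) ^ 2 = 1 := by
    rw [← Units.val_pow_eq_pow_val, ← pow_mul, show k * (q + 1) * 2 = orderOf g by
      rw [hord]; subst hk; simp only [Nat.add_sub_cancel]; ring, pow_orderOf_eq_one, Units.val_one]
  rcases sq_eq_one_iff.1 hsq with e | e
  · exact absurd (Units.ext e) h1
  · exact e

end Model

open Model in
theorem modelIso : ModelIso.{u, v} := by
  intro G Ω _ _ a b U p n j Z W E _ _ π χ C hI
  classical
  obtain ⟨t, ⟨hta, htb⟩, hti⟩ := hI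
  haveI := C.finite
  haveI := C.finite_pts
  haveI := C.faithful
  haveI := C.simple
  have hE : Fintype.card E = (p ^ n) ^ 2 := by rw [← Nat.card_eq_fintype_card, C.card_E]
  have F : Frob E (p ^ n) := frob_of_card C.prime C.odd C.pos hE
  obtain ⟨k, hk⟩ := exists_norm_neg_one F.odd hE
  let co : Ω → Fin 3 → E := fun c => chg k *ᵥ hv (raw π c)
  let Γ : Subgroup (G × ↥(Cfsg.SU 3 E (p ^ n))) := pairGroup co (p ^ n)
  -- raw coordinates
  have hraw_inj : ∀ c c' : Ω, raw π c = raw π c' → c = c' := fun c c' e =>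
    π.injective (Option.map_injective Subtype.val_injective e)
  have hraw_a : raw π a = none := by rw [raw, C.pi_a]; rfl
  have hraw_some : ∀ c : Ω, c ≠ a → ∃ v : E × E,
      raw π c = some v ∧ v.2 + v.2 ^ (p ^ n) = v.1 ^ ((p ^ n) + 1) := by
    intro c hc
    cases hπ : π c with
    | none => exact absurd (π.injective (hπ.trans C.pi_a.symm)) hc
    | some w => exact ⟨w.1, by rw [raw, hπ]; rfl, w.2⟩
  -- lifts
  have htr : ∀ x y : E, y + y ^ (p ^ n) = x ^ ((p ^ n) + 1) → ∃ A : ↥(Cfsg.SU 3 E (p ^ n)),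
      ∀ v, mv A (chg k *ᵥ v) = chg k *ᵥ (trM (p ^ n) x y *ᵥ v) := fun x y hxy =>
    exists_lift F hk (det_trM x y) (beta_trM F hxy)
  obtain ⟨J, hJ⟩ := exists_lift F hk det_invM (beta_invM F)
  have hU : ∀ u ∈ U, ∃ A, (u, A) ∈ Γ := by
    intro u hu
    have hua : u • a = a := MulAction.mem_stabilizer_iff.1 (C.le hu)
    have hub : u • b ≠ a := fun e => C.ne (smul_left_cancel u (hua.trans e.symm))
    obtain ⟨w, hw, hrel⟩ := hraw_some _ hub
    obtain ⟨A, hA⟩ := htr w.1 w.2 hrel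
    refine ⟨A, fun c => ⟨1, one_ne_zero, ?_⟩⟩
    show mv A (co c) = (1 : E) • co (u • c)
    rw [one_smul]
    show mv A (chg k *ᵥ hv (raw π c)) = chg k *ᵥ hv (raw π (u • c))
    rw [hA]
    by_cases hc : c = a
    · subst hc; rw [hua, hraw_a, trM_none]
    · obtain ⟨v, hv', -⟩ := hraw_some c hc
      rw [C.trans u hu c v w hv' hw, hv', trM_hv]
  have ht : (t, J) ∈ Γ := by
    intro c
    show ∃ s : E, s ≠ 0 ∧ mv J (chg k *ᵥ hv (raw π c)) = s • (chg k *ᵥ hv (raw π (t • c)))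
    rw [hJ]
    by_cases hc : c = a
    · subst hc
      exact ⟨-1, neg_ne_zero.2 one_ne_zero, by
        rw [hta, hraw_a, C.pi_b, invM_none, Matrix.mulVec_smul]⟩
    by_cases hcb : c = b
    · subst hcb
      exact ⟨-1, neg_ne_zero.2 one_ne_zero, by
        rw [htb, hraw_a, C.pi_b, invM_origin, Matrix.mulVec_smul]⟩
    · obtain ⟨v, hv', hrel⟩ := hraw_some c hc
      have hv0 : v ≠ (0, 0) := fun e => hcb (hraw_inj c b (by rw [hv', e, C.pi_b]))
      have hy : v.2 ≠ 0 := by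
        intro e
        rw [e, zero_pow F.ne_zero, add_zero] at hrel
        exact hv0 (Prod.ext (pow_eq_zero_iff (Nat.succ_ne_zero (p ^ n)) |>.1 hrel.symm) e)
      exact ⟨-v.2, neg_ne_zero.2 hy, by
        rw [hti c v hv' hv0, hv', invM_some hy, Matrix.mulVec_smul]⟩
  -- the first projection is onto
  let f : ↥Γ →* G := (MonoidHom.fst G _).comp Γ.subtype
  have hfU : U ≤ f.range := fun u hu => by
    obtain ⟨A, hA⟩ := hU u hu
    exact ⟨⟨(u, A), hA⟩, rfl⟩
  have hft : t ∈ f.range := ⟨⟨(t, J), ht⟩, rfl⟩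
  have hq1 : 1 < (p ^ n) := Nat.one_lt_pow (by have := C.pos; omega) C.prime.one_lt
  have htrans : ∀ c : Ω, ∃ l ∈ f.range, l • a = c := by
    intro c
    by_cases hc : c = a
    · exact ⟨1, one_mem _, by rw [one_smul, hc]⟩
    · obtain ⟨u, hu, -⟩ := C.regular c hc
      exact ⟨(u : G) * t, mul_mem (hfU u.2) hft, by rw [mul_smul, hta]; exact hu⟩
  have hnc : Subgroup.normalClosure (U : Set G) ≤ f.range := by
    rw [Subgroup.normalClosure, Subgroup.closure_le]
    intro x hx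
    rw [Group.mem_conjugatesOfSet_iff] at hx
    obtain ⟨u, hu, hconj⟩ := hx
    obtain ⟨g, rfl⟩ := isConj_iff.1 hconj
    obtain ⟨l, hl, hla⟩ := htrans (g • a)
    have hst : l⁻¹ * g ∈ MulAction.stabilizer G a := by
      rw [MulAction.mem_stabilizer_iff, mul_smul, ← hla, inv_smul_smul]
    have h1 := mul_mem (mul_mem hl (hfU (C.conj_mem _ hst u hu))) (inv_mem hl)
    rwa [show l * (l⁻¹ * g * u * (l⁻¹ * g)⁻¹) * l⁻¹ = g * u * g⁻¹ by group] at h1
  have hcardU : 1 < Nat.card ↥U := by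
    have hc : Nat.card {c : Ω // c ≠ a} ≤ Nat.card ↥U := by
      choose g hg _ using fun c : {c : Ω // c ≠ a} => C.regular c.1 c.2
      exact Nat.card_le_card_of_injective g fun c c' e => Subtype.ext (by rw [← hg c, ← hg c', e])
    haveI := Fintype.ofFinite Ω
    rw [Nat.card_eq_fintype_card, Fintype.card_subtype_compl, Fintype.card_subtype_eq,
      ← Nat.card_eq_fintype_card (α := Ω), C.card_pts, Nat.add_sub_cancel] at hc
    have : (p ^ n) ≤ (p ^ n) ^ 3 := Nat.le_self_pow (by norm_num) (p ^ n)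
    omega
  have hfs : Function.Surjective f := by
    rw [← MonoidHom.range_eq_top, ← top_le_iff]
    refine le_trans (le_of_eq ?_) hnc
    rcases (Subgroup.normalClosure_normal (s := (U : Set G))).eq_bot_or_eq_top with e | e
    · exfalso
      have hb : U = ⊥ := le_bot_iff.1 (fun u hu => e ▸ Subgroup.subset_normalClosure hu)
      rw [hb, Subgroup.card_bot] at hcardU
      exact lt_irrefl _ hcardU
    · exact e.symm
  -- the second projection is injective
  let r : ↥Γ →* ↥(Cfsg.SU 3 E (p ^ n)) := (MonoidHom.snd G _).comp Γ.subtype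
  have hco_inj : ∀ c c' : Ω, ∀ s : E, s ≠ 0 → co c = s • co c' → c = c' := by
    intro c c' s hs e
    refine hraw_inj c c' (hv_inj hs ?_)
    have e' : chg k *ᵥ hv (raw π c) = chg k *ᵥ (s • hv (raw π c')) := by
      rw [Matrix.mulVec_smul]; exact e
    exact Matrix.mulVec_injective_iff_isUnit.2
      ((Matrix.isUnit_iff_isUnit_det _).2 (isUnit_iff_ne_zero.2 (det_chg F hk))) e'
  have hrinj : Function.Injective r := by
    rw [← MonoidHom.ker_eq_bot_iff, eq_bot_iff]
    rintro ⟨⟨g, A⟩, hgA⟩ hx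
    have hA : A = 1 := hx
    subst hA
    refine Subgroup.mem_bot.2 (Subtype.ext (Prod.ext ?_ rfl))
    refine eq_of_smul_eq_smul (α := Ω) fun c => ?_
    obtain ⟨s, hs, h⟩ := hgA c
    rw [mv_one] at h
    rw [show (((1 : ↥Γ) : G × ↥(Cfsg.SU 3 E (p ^ n))).1 : G) = 1 from rfl, one_smul]
    exact (hco_inj c (g • c) s hs h).symm
  -- the centre acts trivially
  have hcen : ∀ A ∈ Subgroup.center (Cfsg.SU 3 E (p ^ n)), ((1 : G), A) ∈ Γ := by
    intro A hA
    let P : GL (Fin 3) E := Matrix.GeneralLinearGroup.mkOfDetNeZero _ (det_chg F hk)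
    obtain ⟨w, hw⟩ : ∃ w, chg k *ᵥ w = mv A (chg k *ᵥ hv none) :=
      ⟨((P⁻¹ : GL (Fin 3) E) : Matrix (Fin 3) (Fin 3) E) *ᵥ mv A (chg k *ᵥ hv none), by
        rw [mulVec_mulVec, show chg k = (P : Matrix (Fin 3) (Fin 3) E) from rfl, ← Units.val_mul,
          mul_inv_cancel, Units.val_one, one_mulVec]⟩
    have hinj : Function.Injective (chg k).mulVec := Matrix.mulVec_injective_iff_isUnit.2
      ((Matrix.isUnit_iff_isUnit_det _).2 (isUnit_iff_ne_zero.2 (det_chg F hk)))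
    have hfix : ∀ x y : E, y + y ^ (p ^ n) = x ^ ((p ^ n) + 1) → trM (p ^ n) x y *ᵥ w = w := by
      intro x y hxy
      obtain ⟨T, hT⟩ := htr x y hxy
      refine hinj ?_
      show chg k *ᵥ (trM (p ^ n) x y *ᵥ w) = chg k *ᵥ w
      rw [← hT, hw, ← mv_mul, Subgroup.mem_center_iff.1 hA T, mv_mul, hT, trM_none]
    have h2 : (2 : E) ≠ 0 := F.two
    have hh := hfix 1 (2 : E)⁻¹ (by
      rw [F.half, one_pow, ← two_mul, mul_inv_cancel₀ h2])
    have hw2 : w 2 = 0 := by
      have := congrFun hh 1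
      simpa [trM, Matrix.mulVec, dotProduct, Fin.sum_univ_three] using this
    have hw1 : w 1 = 0 := by
      have := congrFun hh 0
      simpa [trM, Matrix.mulVec, dotProduct, Fin.sum_univ_three, hw2] using this
    have hws : w = w 0 • hv none := by
      ext i; fin_cases i <;> simp [hv, hw1, hw2]
    set s := w 0 with hs
    have hA0 : mv A (chg k *ᵥ hv none) = s • (chg k *ᵥ hv none) := by
      rw [← hw, hws, Matrix.mulVec_smul]
    have hs0 : s ≠ 0 := by
      intro e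
      rw [e, zero_smul] at hA0
      have h3 := congrArg (mv A⁻¹) hA0
      rw [← mv_mul, inv_mul_cancel, mv_one] at h3
      have h4 : mv A⁻¹ (0 : Fin 3 → E) = 0 := Matrix.mulVec_zero _
      rw [h4] at h3
      exact hv_ne_zero none (hinj (h3.trans (Matrix.mulVec_zero _).symm))
    have hA1 : mv A (chg k *ᵥ hv (some (0, 0))) = s • (chg k *ᵥ hv (some (0, 0))) := by
      have e1 : chg k *ᵥ hv (some ((0, 0) : E × E)) = (-1 : E) • mv J (chg k *ᵥ hv none) := by
        rw [hJ, invM_none, Matrix.mulVec_smul, smul_smul]; simp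
      rw [e1, mv_smul, ← mv_mul, ← Subgroup.mem_center_iff.1 hA J, mv_mul, hA0, mv_smul, smul_comm]
    intro c
    refine ⟨s, hs0, ?_⟩
    rw [one_smul]
    show mv A (chg k *ᵥ hv (raw π c)) = s • (chg k *ᵥ hv (raw π c))
    by_cases hc : c = a
    · subst hc; rw [hraw_a]; exact hA0
    · obtain ⟨⟨x, y⟩, hv', hrel⟩ := hraw_some c hc
      obtain ⟨T, hT⟩ := htr x y hrel
      have e1 : chg k *ᵥ hv (some (x, y)) = mv T (chg k *ᵥ hv (some (0, 0))) := by
        rw [hT, trM_hv]; simp [trRaw]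
      rw [hv', e1, ← mv_mul, ← Subgroup.mem_center_iff.1 hA T, mv_mul, hA1, mv_smul]
  -- orders
  have hstab : Nat.card ↥(MulAction.stabilizer G a) = (p ^ n) ^ 3 * Nat.card ↥(Hsub G a b) := by
    let S := MulAction.stabilizer G a
    have horb : MulAction.orbit ↥S b = {c : Ω | c ≠ a} := by
      ext c
      constructor
      · rintro ⟨g, rfl⟩ e
        have : (g : G) • b = (g : G) • a := e.trans (MulAction.mem_stabilizer_iff.1 g.2).symm
        exact C.ne (smul_left_cancel _ this).symm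
      · intro hc
        obtain ⟨u, hu, -⟩ := C.regular c hc
        exact ⟨⟨(u : G), C.le u.2⟩, hu⟩
    have hfix : Nat.card ↥(MulAction.stabilizer ↥S b) = Nat.card ↥(Hsub G a b) :=
      Nat.card_congr
        { toFun := fun g => ⟨g.1.1, g.1.2, g.2⟩
          invFun := fun g => ⟨⟨g.1, g.2.1⟩, g.2.2⟩
          left_inv := fun g => rfl
          right_inv := fun g => rfl }
    rw [← Nat.card_congr (MulAction.orbitProdStabilizerEquivGroup ↥S b), Nat.card_prod, hfix, horb]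
    congr 1
    haveI := Fintype.ofFinite Ω
    show Nat.card {c : Ω // c ≠ a} = (p ^ n) ^ 3
    rw [Nat.card_eq_fintype_card, Fintype.card_subtype_compl, Fintype.card_subtype_eq,
      ← Nat.card_eq_fintype_card, C.card_pts, Nat.add_sub_cancel]
  have horbG : MulAction.orbit G a = Set.univ := Set.eq_univ_of_forall fun c => by
    obtain ⟨l, -, hl⟩ := htrans c
    exact ⟨l, hl⟩
  have hG : Nat.card G = ((p ^ n) ^ 3 + 1) * ((p ^ n) ^ 3 * Nat.card ↥(Hsub G a b)) := by
    rw [← Nat.card_congr (MulAction.orbitProdStabilizerEquivGroup G a), Nat.card_prod, hstab, horbG,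
      Nat.card_congr (Equiv.Set.univ Ω), C.card_pts]
  have hPSU : Nat.gcd 3 ((p ^ n) + 1) * Nat.card (Cfsg.PSU 3 E (p ^ n)) = Nat.gcd 3 ((p ^ n) + 1) * Nat.card G := by
    have h := CfsgLib.Classical.card_psu_mul hE (n := 3) (by norm_num)
    rw [Cfsg.Agent.S0277.result hE 3] at h
    simp only [Finset.prod_range_succ, Finset.prod_range_zero, one_mul, Nat.even_iff] at h
    norm_num at h
    simp only [← Nat.card_eq_fintype_card] at h
    refine Nat.eq_of_mul_eq_mul_left (show 0 < (p ^ n) + 1 by omega) ?_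
    rw [mul_left_comm, h, hG, show Nat.gcd 3 ((p ^ n) + 1) * (((p ^ n) ^ 3 + 1) * ((p ^ n) ^ 3 * Nat.card ↥(Hsub G a b)))
      = ((p ^ n) ^ 3 + 1) * (p ^ n) ^ 3 * (Nat.gcd 3 ((p ^ n) + 1) * Nat.card ↥(Hsub G a b)) by ring, C.card_H]
    ring
  have hGP : Nat.card G = Nat.card (Cfsg.PSU 3 E (p ^ n)) :=
    Nat.eq_of_mul_eq_mul_left (Nat.gcd_pos_of_pos_left _ (by norm_num)) hPSU.symm
  set ZC := Subgroup.center (Cfsg.SU 3 E (p ^ n)) with hZC
  have hSU : Nat.card ↥(Cfsg.SU 3 E (p ^ n)) = Nat.card G * Nat.card ↥ZC := by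
    rw [hGP]
    exact Subgroup.card_eq_card_quotient_mul_card_subgroup ZC
  have hker : Nat.card ↥ZC ≤ Nat.card ↥f.ker :=
    Nat.card_le_card_of_injective
      (fun A => ⟨⟨((1 : G), A.1), hcen A.1 A.2⟩, rfl⟩)
      fun A B e => Subtype.ext (congrArg (fun x : ↥f.ker => x.1.1.2) e)
  have hΓ : Nat.card ↥Γ = Nat.card G * Nat.card ↥f.ker := by
    rw [Subgroup.card_eq_card_quotient_mul_card_subgroup f.ker,
      Nat.card_congr (QuotientGroup.quotientKerEquivOfSurjective f hfs).toEquiv]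
  have hle := Nat.card_le_card_of_injective r hrinj
  have hkc : Nat.card ↥f.ker = Nat.card ↥ZC := by
    refine le_antisymm ?_ hker
    rw [hΓ, hSU] at hle
    exact Nat.le_of_mul_le_mul_left hle Nat.card_pos
  have hrbij : Function.Bijective r :=
    (Nat.bijective_iff_injective_and_card r).2 ⟨hrinj, by rw [hΓ, hSU, hkc]⟩
  let e := MulEquiv.ofBijective r hrbij
  let φ : ↥(Cfsg.SU 3 E (p ^ n)) →* G := f.comp e.symm.toMonoidHom
  have hφ : Function.Surjective φ := hfs.comp e.symm.surjective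
  have hφk : φ.ker = ZC := by
    refine (Subgroup.eq_of_le_of_card_ge ?_ ?_).symm
    · intro A hA
      rw [MonoidHom.mem_ker]
      have : e.symm A = ⟨((1 : G), A), hcen A hA⟩ := e.symm_apply_eq.2 rfl
      show f (e.symm A) = 1
      rw [this]
      rfl
    · refine le_of_eq ?_
      have h2 := Subgroup.card_eq_card_quotient_mul_card_subgroup φ.ker
      rw [Nat.card_congr (QuotientGroup.quotientKerEquivOfSurjective φ hφ).toEquiv, hSU] at h2
      exact (Nat.eq_of_mul_eq_mul_left Nat.card_pos h2).symm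
  exact ⟨(QuotientGroup.quotientKerEquivOfSurjective φ hφ).symm.trans
    (QuotientGroup.quotientMulEquivOfEq hφk)⟩

end CfsgLib.Recog.OddUnitary
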