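import Cfsg.Agent.Lib.Recog.OddUnitary.LabelBlock
import Cfsg.Agent.Lib.Recog.OddUnitary.Model

/-!
Which scalars are realised by the torus.
-/

set_option autoImplicit false
set_option linter.unusedSectionVars false
set_option linter.style.haveILetI false

namespace CfsgLib.Recog.OddUnitary

open MulAction

universe u v

variable {G : Type u} {Ω : Type v} [Group G] [MulAction G Ω] {a b : Ω} {U : Subgroup G} {p n : ℕ} {j : G}
  {Z W : Subgroup G} {K E : Type} [Field K] [Field E] {ν : ↥(Hsub G a b) →* Kˣ} {ζ : G → K}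
  {Φ : ↥(Hsub G a b) →* Eˣ} {ξ : G → E}

namespace Frame

variable (f : Frame G a b U p n j Z W K E ν ζ Φ ξ)
include f

theorem finite_E : Finite E :=
  Nat.finite_of_card_ne_zero (by rw [f.card_frame]; exact pow_ne_zero _ (pow_ne_zero _ f.prime.ne_zero))

theorem frobE : Model.Frob E (p ^ n) := by
  haveI := f.finite_E
  haveI : Fintype E := Fintype.ofFinite E
  exact Model.frob_of_card f.prime f.odd f.pos (by rw [← Nat.card_eq_fintype_card, f.card_frame])

theorem one_lt_q : 1 < p ^ n := Nat.one_lt_pow (by have := f.pos; omega) f.prime.one_lt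

theorem finite_H : Finite ↥(Hsub G a b) := by
  haveI := f.finite
  infer_instance

theorem phi_pow (h : ↥(Hsub G a b)) : (Φ h : E) ^ Nat.card ↥(Hsub G a b) = 1 := by
  rw [← Units.val_pow_eq_pow_val, ← map_pow, pow_card_eq_one', map_one, Units.val_one]

/-- The torus gives all roots of unity of its order. -/
theorem exists_phi {e : E} (he : e ^ Nat.card ↥(Hsub G a b) = 1) : ∃ h, (Φ h : E) = e := by
  classical
  haveI := f.finite_H
  haveI : Fintype ↥(Hsub G a b) := Fintype.ofFinite _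
  have hpos : 0 < Nat.card ↥(Hsub G a b) := Nat.card_pos
  set S := Polynomial.nthRootsFinset (Nat.card ↥(Hsub G a b)) (1 : E)
  have hsub : (Finset.univ.image fun h => (Φ h : E)) ⊆ S := fun x hx => by
    obtain ⟨h, -, rfl⟩ := Finset.mem_image.1 hx
    exact (Polynomial.mem_nthRootsFinset hpos _).2 (f.phi_pow h)
  have hinj : Function.Injective fun h => (Φ h : E) := fun x y e' => f.phi_inj (Units.ext e')
  have hcard : S.card ≤ (Finset.univ.image fun h => (Φ h : E)).card := by
    rw [Finset.card_image_of_injective _ hinj, Finset.card_univ, ← Nat.card_eq_fintype_card]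
    simp only [S, Polynomial.nthRootsFinset_def]
    exact (Multiset.toFinset_card_le _).trans (Polynomial.card_nthRoots _ _)
  have heq := Finset.eq_of_subset_of_card_le hsub hcard
  have : e ∈ S := (Polynomial.mem_nthRootsFinset hpos _).2 he
  rw [← heq] at this
  obtain ⟨h, -, rfl⟩ := Finset.mem_image.1 this
  exact ⟨h, rfl⟩

theorem even_card_W : Even (Nat.card W) := by
  have h := f.finite
  have := orderOf_dvd_natCard (⟨j, f.j_W⟩ : W)
  rw [Subgroup.orderOf_mk, f.j_ord] at this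
  exact even_iff_two_dvd.2 this

theorem card_H_eq : Nat.card ↥(Hsub G a b) = (p ^ n - 1) * Nat.card W := by
  have hd : 0 < Nat.gcd 3 (p ^ n + 1) := Nat.gcd_pos_of_pos_left _ (by norm_num)
  refine Nat.eq_of_mul_eq_mul_left hd ?_
  rw [f.card_H, mul_left_comm, f.card_W]
  simpa [mul_comm] using Nat.sq_sub_sq (p ^ n) 1

theorem phi_j : (Φ ⟨j, f.j_mem⟩ : E) = -1 := by
  have h2 : (Φ ⟨j, f.j_mem⟩ : E) * (Φ ⟨j, f.j_mem⟩ : E) = 1 := by
    rw [← Units.val_mul, ← map_mul, show (⟨j, f.j_mem⟩ : ↥(Hsub G a b)) * ⟨j, f.j_mem⟩ = 1 from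
      Subtype.ext f.j_sq, map_one, Units.val_one]
  rcases mul_self_eq_one_iff.1 h2 with h | h
  · exact absurd (congrArg Subtype.val (f.phi_inj (a₁ := ⟨j, f.j_mem⟩) (a₂ := 1)
      (Units.ext (by rw [h, map_one, Units.val_one])))) f.j_ne
  · exact h

theorem norm_W {w : ↥(Hsub G a b)} (hw : (w : G) ∈ W) : (Φ w : E) * (Φ w : E) ^ (p ^ n) = 1 := by
  rw [← pow_succ']; exact (f.phi_W w).2 hw

/-- `ε - 1` is a scalar of the torus for `ε ≠ 1` in the image of `W`. -/
theorem exists_sub_one {w : ↥(Hsub G a b)} (hw : (w : G) ∈ W) (hne : w ≠ 1) :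
    ∃ h, (Φ h : E) = (Φ w : E) - 1 := by
  haveI := f.finite
  have hN := f.norm_W hw
  set e : E := (Φ w : E) with he
  have he0 : e - 1 ≠ 0 := by
    intro h0
    exact hne (f.phi_inj (Units.ext (by rw [map_one, Units.val_one, ← he]; linear_combination h0)))
  have h1 : (e - 1) ^ (p ^ n) = -e ^ (p ^ n) * (e - 1) := by
    rw [f.frobE.sub, one_pow]; linear_combination hN
  have h2 : (e - 1) ^ (p ^ n - 1) = -e ^ (p ^ n) := by
    apply mul_right_cancel₀ he0
    rw [← h1, ← pow_succ, Nat.sub_add_cancel f.one_lt_q.le]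
  have h3 : e ^ Nat.card W = 1 := by
    have hg : (w : G) ^ Nat.card W = 1 :=
      (Subgroup.coe_pow W (⟨(w : G), hw⟩ : W) _).symm.trans (congrArg Subtype.val pow_card_eq_one')
    rw [he, ← Units.val_pow_eq_pow_val, ← map_pow,
      show w ^ Nat.card W = 1 from Subtype.ext ((Subgroup.coe_pow _ w _).trans hg), map_one, Units.val_one]
  refine f.exists_phi ?_
  rw [f.card_H_eq, pow_mul, h2, f.even_card_W.neg_pow, ← pow_mul, mul_comm, pow_mul, h3, one_pow]

/-- A norm-one element of trace `-2` in `W` is `j`. -/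
theorem eq_j_of_trace {w : ↥(Hsub G a b)} (hw : (w : G) ∈ W)
    (e : (Φ w : E) + (Φ w : E) ^ (p ^ n) = -2) : (w : G) = j := by
  have hN := f.norm_W hw
  have h : ((Φ w : E) + 1) * ((Φ w : E) + 1) = 0 := by linear_combination (Φ w : E) * e - hN
  have h' : (Φ w : E) = -1 := eq_neg_of_add_eq_zero_left (mul_self_eq_zero.1 h)
  exact congrArg Subtype.val (f.phi_inj (a₁ := w) (a₂ := ⟨j, f.j_mem⟩) (Units.ext (h'.trans f.phi_j.symm)))

/-- Outside `q = 5`, `W` is not `{1, j}`. -/
theorem exists_W (hq : p ^ n ≠ 5) : ∃ w : ↥(Hsub G a b), (w : G) ∈ W ∧ w ≠ 1 ∧ (w : G) ≠ j := by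
  haveI := f.finite
  by_contra! hall
  have hsub : (W : Set G) ⊆ {1, j} := fun x hx => by
    by_cases h : x = 1
    · exact Or.inl h
    · exact Or.inr (hall ⟨x, f.W_le hx⟩ hx (fun e => h (congrArg Subtype.val e)))
  have hle : Nat.card W ≤ 2 := by
    refine (Nat.card_mono (Set.toFinite _) hsub).trans ?_
    rw [Nat.card_coe_set_eq, Set.ncard_pair (Ne.symm f.j_ne)]
  have hd : Nat.gcd 3 (p ^ n + 1) ≤ 3 := Nat.le_of_dvd (by norm_num) (Nat.gcd_dvd_left 3 _)
  have hW := f.card_W
  have h1 := f.one_lt_q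
  have hodd : Odd (p ^ n) := (f.prime.odd_of_ne_two f.odd).pow
  obtain ⟨k, hk⟩ := hodd
  rcases (Nat.dvd_prime Nat.prime_three).1 (Nat.gcd_dvd_left 3 (p ^ n + 1)) with h | h <;> rw [h] at hW
  · omega
  · have := even_iff_two_dvd.1 f.even_card_W
    have : 0 < Nat.card W := Nat.card_pos
    omega

end Frame

end CfsgLib.Recog.OddUnitary
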