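import Cfsg.Agent.Lib.Recog.OddUnitary.Ctx
import Cfsg.Agent.Lib.Recog.OddUnitary.Torus

/-!
The labels in coordinates: blocks are centred and lie on circles (`q ≠ 5`).
-/

set_option autoImplicit false
set_option linter.unusedSectionVars false
set_option linter.style.haveILetI false

namespace CfsgLib.Recog.OddUnitary

open MulAction

universe u v

variable {G : Type u} {Ω : Type v} [Group G] [MulAction G Ω] {a b : Ω} {U : Subgroup G} {p n : ℕ} {j : G}
  {Z W : Subgroup G} {K E : Type} [Field K] [Field E] {π : Ω ≃ Option (Uni E (p ^ n))}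
  {χ : ↥(Hsub G a b) →* Eˣ} {ι : K →+* E} {δ : E} {ν : ↥(Hsub G a b) →* Kˣ} {ζ : G → K} {ξ : G → E} {t : G}

namespace Ctx

variable (C : Ctx G a b U p n j Z W K E π χ ι δ ν ζ ξ t)
include C

theorem nu_lam {k : K} (hk : k ≠ 0) : (ν (C.frame.lam C.inv k) : K) = k * k := by
  obtain ⟨g, hg⟩ := C.frame.nu_surj (Units.mk0 k hk)
  have hg' : (ν g : K) = k := by rw [hg, Units.val_mk0]
  rw [← hg', C.frame.lam_nu, C.frame.nu_Lam, Units.val_mul]

theorem norm_fix {v : E × E} {c : Ω} (hv : raw π c = some v) :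
    (v.1 ^ (p ^ n + 1)) ^ (p ^ n) = v.1 ^ (p ^ n + 1) := by
  rw [← C.raw_eqn hv, C.frob.add, C.frob.twice, add_comm]

/-- Translating a point back to `b` after turning it by `W`. -/
theorem orbit_point {x : G} (hx : x ∈ U) {v : E × E} (hv : raw π (x • b) = some v) {h : ↥(Hsub G a b)}
    (l : C.frame.Lbl t (x • b) 0 h) {w : ↥(Hsub G a b)} (hw : (w : G) ∈ W) (hne : w ≠ 1) :
    ∃ (μ : ↥(Hsub G a b)) (k : K),
      C.frame.Lbl t ((x⁻¹ * ((w : G) * x * (w : G)⁻¹)) • b) k (C.frame.Lam C.inv μ * h) ∧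
      ι (ν μ : K) = 2 - (χ w : E) - (χ w : E) ^ (p ^ n) ∧
      δ * ι k + ι (ν μ : K) * v.2 = v.1 ^ (p ^ n + 1) * (1 - (χ w : E)) := by
  have f := C.frame
  obtain ⟨μ, hμ⟩ := C.frame.exists_sub_one hw hne
  have hN := C.frame.norm_W hw
  have hT : ι (ν μ : K) = 2 - (χ w : E) - (χ w : E) ^ (p ^ n) := by
    rw [C.nu, hμ, pow_succ, C.frob.sub, one_pow]
    linear_combination hN
  have hy : (w : G) * x * (w : G)⁻¹ ∈ U := C.frame.conj_U w hx
  have hvw : raw π (((w : G) * x * (w : G)⁻¹) • b) = some ((χ w : E) * v.1, v.2) := by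
    rw [C.raw_conj w hv, scRaw, (C.frame.phi_W w).2 hw, one_mul]
  have hd := C.raw_diff hx hv hvw
  have hμv := C.raw_conj μ hv
  obtain ⟨z, hz, hzx⟩ := C.frame.xi_eq (C.frame.conj_U μ hx) (mul_mem (inv_mem hx) hy) (by
    rw [C.xi _ (C.frame.conj_U μ hx) _ hμv, C.xi _ (mul_mem (inv_mem hx) hy) _ hd]
    show (χ μ : E) * v.1 = (χ w : E) * v.1 - v.1
    rw [hμ]; ring)
  refine ⟨μ, ζ z, ?_, hT, ?_⟩
  · rw [hzx]
    have := C.frame.lbl_shift C.one C.inv (C.frame.lbl_conj C.one C.inv l μ) hz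
    rwa [mul_zero, add_zero] at this
  · have h2 := C.raw_shift hz hμv
    rw [← hzx, hd, Option.some_inj, Prod.mk.injEq] at h2
    have hu := C.raw_eqn hv
    have h3 := h2.2
    simp only [scRaw] at h3
    rw [← C.nu] at h3
    rw [pow_succ] at hu ⊢
    linear_combination -h3 + hu

/-- Everything follows for the point centred at `0`. -/
theorem centred_zero (hq : p ^ n ≠ 5) {x : G} (hx : x ∈ U) {v : E × E} (hv : raw π (x • b) = some v)
    {h : ↥(Hsub G a b)} (l : C.frame.Lbl t (x • b) 0 h) :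
    v.2 = v.1 ^ (p ^ n + 1) / 2 ∧ ι (ν h : K) * (2 * δ) ^ 2 = (v.1 ^ (p ^ n + 1)) ^ 2 := by
  have h2 : (2 : E) ≠ 0 := C.frob.two
  set N : E := v.1 ^ (p ^ n + 1) with hNdef
  set Δ : E := δ * δ * ι (ν h : K) with hΔ
  set F : E := N / 2 - v.2 with hF
  have hl : ∀ w : ↥(Hsub G a b), (w : G) ∈ W → C.frame.Lbl t (((w : G) * x * (w : G)⁻¹) • b) 0 h := fun w hw => by
    rw [C.frame.H_smul_pt]; exact C.frame.lbl_W C.one C.inv l hw
  set J : ↥(Hsub G a b) := ⟨j, C.frame.j_mem⟩
  have hJ : J ≠ 1 := fun e => C.frame.j_ne (congrArg Subtype.val e)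
  have hJW : (J : G) ∈ W := C.frame.j_W
  obtain ⟨μj, kj, Lj, hTj, hkj⟩ := C.orbit_point hx hv l hJW hJ
  rw [C.frame.phi_j, C.frob.odd.neg_pow, one_pow] at hTj
  have key : ∀ w : ↥(Hsub G a b), (w : G) ∈ W → w ≠ 1 →
      (2 - (χ w : E) - (χ w : E) ^ (p ^ n)) ^ 2 * Δ -
        (N * ((χ w : E) ^ (p ^ n) - (χ w : E)) / 2 + (2 - (χ w : E) - (χ w : E) ^ (p ^ n)) * F) ^ 2 =
      4 * (2 - (χ w : E) - (χ w : E) ^ (p ^ n)) * (Δ - F ^ 2) := by
    intro w hw hne
    obtain ⟨μ, k, L, hT, hk⟩ := C.orbit_point hx hv l hw hne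
    have hc := C.frame.block_translate C.one C.inv l (hl w hw) (hl J hJW) L Lj
    have hn := C.frame.lbl_n_ne C.one C.inv L
    have hnj := C.frame.lbl_n_ne C.one C.inv Lj
    rw [← C.frame.lam_nu C.inv μ, ← C.frame.lam_nu C.inv μj] at hc
    rw [← C.frame.lam_nu C.inv μ] at hn
    rw [← C.frame.lam_nu C.inv μj] at hnj
    have hr := C.frame.ratio_eq C.one C.inv C.blocks (ν μ).ne_zero (ν μj).ne_zero hn hnj hc
    rw [div_eq_div_iff hn hnj, map_mul, map_mul, Units.val_mul, Units.val_mul, C.nu_lam (ν μ).ne_zero,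
      C.nu_lam (ν μj).ne_zero] at hr
    have hr' := congrArg ι hr
    simp only [map_mul, map_sub] at hr'
    set e : E := (χ w : E)
    have hTj' : ι (ν μj : K) = 4 := by rw [hTj]; norm_num
    have hA : δ * ι k = N * (e ^ (p ^ n) - e) / 2 + (2 - e - e ^ (p ^ n)) * F := by
      rw [hT] at hk
      rw [hF]
      field_simp
      linear_combination (2 : E) * hk
    have hAj : δ * ι kj = 4 * F := by
      rw [hTj', C.frame.phi_j] at hkj
      rw [hF]
      field_simp
      linear_combination (2 : E) * hkj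
    rw [hT, hTj'] at hr'
    rw [← hA]
    have h4 : (4 : E) ≠ 0 := by
      rw [show (4 : E) = 2 * 2 by norm_num]; exact mul_ne_zero h2 h2
    refine mul_left_cancel₀ h4 ?_
    have h5 : (δ * ι kj) ^ 2 = 16 * F ^ 2 := by rw [hAj]; ring
    rw [hΔ]
    linear_combination (-(δ * δ)) * hr' - (2 - e - e ^ (p ^ n)) * h5
  obtain ⟨w, hw, hne, hwj⟩ := C.frame.exists_W hq
  set e : E := (χ w : E) with he
  have hN1 : e * e ^ (p ^ n) = 1 := C.frame.norm_W hw
  have hee : e ^ (p ^ n) ≠ e := by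
    intro e'
    rw [e'] at hN1
    rcases mul_self_eq_one_iff.1 hN1 with h1 | h1
    · exact hne (C.frame.phi_inj (Units.ext (by rw [map_one, Units.val_one]; exact h1)))
    · exact hwj (congrArg Subtype.val (C.frame.phi_inj (a₁ := w) (a₂ := J) (Units.ext (h1.trans C.frame.phi_j.symm))))
  have hT0 : 2 - e - e ^ (p ^ n) ≠ 0 := by
    obtain ⟨μ, -, -, hT, -⟩ := C.orbit_point hx hv l hw hne
    rw [he, ← hT]
    exact (map_ne_zero ι).2 (ν μ).ne_zero
  have hwi : ((w⁻¹ : ↥(Hsub G a b)) : G) ∈ W := by rw [Subgroup.coe_inv]; exact inv_mem hw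
  have hei : (χ w⁻¹ : E) = e ^ (p ^ n) := by
    rw [map_inv, Units.val_inv_eq_inv_val]; exact inv_eq_of_mul_eq_one_right hN1
  have e1 := key w hw hne
  have e2 := key w⁻¹ hwi (fun h => hne (inv_eq_one.1 h))
  rw [hei, C.frob.twice] at e2
  rw [← he] at e1
  have hN0 : N ≠ 0 := pow_ne_zero _ fun e' => l.moved (by
    have hz : x ∈ Z := (C.coord.mem_Z x hx).2 fun u hu => by
      rw [hv, Option.some_inj] at hu; rw [← hu]; exact e'
    rw [← C.frame.zz_zeta hz]; exact C.frame.j_pt _)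
  have hF0 : F = 0 := by
    have h3 : (N * (e ^ (p ^ n) - e) * (2 - e - e ^ (p ^ n))) * (2 * F) = 0 := by
      field_simp at e1 e2
      apply mul_left_cancel₀ (mul_ne_zero h2 h2)
      linear_combination e2 - e1
    rcases mul_eq_zero.1 h3 with h4 | h4
    · exact absurd h4 (mul_ne_zero (mul_ne_zero hN0 (sub_ne_zero.2 hee)) hT0)
    · exact (mul_eq_zero.1 h4).resolve_left h2
  refine ⟨(sub_eq_zero.1 hF0).symm, ?_⟩
  rw [hF0] at e1
  field_simp at e1
  have h5 : (e ^ (p ^ n) - e) ^ 2 * (4 * Δ - N ^ 2) = 0 := by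
    linear_combination e1 - 16 * Δ * hN1
  have := (mul_eq_zero.1 h5).resolve_left (pow_ne_zero 2 (sub_ne_zero.2 hee))
  rw [hΔ] at this
  linear_combination this

/-- Moving the centre to `0`. -/
theorem to_zero {c : Ω} {v : E × E} {m : K} {h : ↥(Hsub G a b)} (l : C.frame.Lbl t c m h)
    (hv : raw π c = some v) : ∃ x ∈ U, C.frame.Lbl t (x • b) 0 h ∧
      raw π (x • b) = some (v.1, v.2 - δ * ι m) := by
  obtain ⟨y, hy, -, rfl⟩ := C.frame.exists_moved l.moved
  refine ⟨C.frame.zz (-m) * y, mul_mem (C.frame.zz_U _) hy, ?_, ?_⟩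
  · have := C.frame.lbl_zz C.one C.inv l (-m)
    rwa [neg_add_cancel, smul_smul] at this
  · rw [C.raw_shift (C.frame.zz_mem _) hv, C.frame.zeta_zz, map_neg]
    exact congrArg some (Prod.ext rfl (by ring))

theorem centred (hq : p ^ n ≠ 5) : Centred C.frame π ι δ t := by
  intro c v m h l hv
  obtain ⟨x, hx, l0, hx0⟩ := C.to_zero l hv
  obtain ⟨e1, e2⟩ := C.centred_zero hq hx hx0 l0
  exact ⟨by linear_combination -e1, e2⟩

theorem circles (hq : p ^ n ≠ 5) : Circles C.frame π t := by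
  intro c c' v v' m h l l' hv hv'
  obtain ⟨x, hx, lx, hxv⟩ := C.to_zero l hv
  obtain ⟨x', hx', lx', hxv'⟩ := C.to_zero l' hv'
  obtain ⟨ey, eD⟩ := C.centred_zero hq hx hxv lx
  obtain ⟨ey', eD'⟩ := C.centred_zero hq hx' hxv' lx'
  simp only at ey eD ey' eD'
  set Y : E := v.2 - δ * ι m
  set Y' : E := v'.2 - δ * ι m
  set N : E := v.1 ^ (p ^ n + 1) with hNdef
  set N' : E := v'.1 ^ (p ^ n + 1) with hN'def
  rcases sq_eq_sq_iff_eq_or_eq_neg.1 (eD.symm.trans eD') with hNN | hNN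
  · exact hNN
  exfalso
  have h2 : (2 : E) ≠ 0 := C.frob.two
  have hN0 : N ≠ 0 := by
    intro e'
    rw [e'] at eD
    exact mul_ne_zero ((map_ne_zero ι).2 (ν h).ne_zero) (pow_ne_zero 2 (mul_ne_zero h2 C.delta_ne))
      (eD.trans (by ring))
  by_cases h3 : (3 : E) = 0
  · -- then `W` is transitive on the block
    haveI : Finite E := C.frame.finite_E
    haveI := C.frame.finite
    haveI := C.frame.finite_pts
    have hp3 : p = 3 := by
      have h4 : addOrderOf (1 : E) ∣ 3 :=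
        addOrderOf_dvd_of_nsmul_eq_zero (by rw [nsmul_one]; exact_mod_cast h3)
      have h5 : addOrderOf (1 : E) = 3 := ((Nat.dvd_prime Nat.prime_three).1 h4).resolve_left
        fun e' => one_ne_zero (AddMonoid.addOrderOf_eq_one_iff.1 e')
      have h6 : 3 ∣ Nat.card E := h5 ▸ addOrderOf_dvd_natCard (1 : E)
      rw [C.frame.card_frame] at h6
      exact ((Nat.prime_dvd_prime_iff_eq Nat.prime_three C.frame.prime).1
        (Nat.prime_three.dvd_of_dvd_pow (Nat.prime_three.dvd_of_dvd_pow h6))).symm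
    have hd : Nat.gcd 3 (p ^ n + 1) = 1 := by
      refine (Nat.Prime.coprime_iff_not_dvd Nat.prime_three).2 fun h6 => ?_
      have h7 : 3 ∣ p ^ n := hp3.symm ▸ dvd_pow_self 3 (by have := C.frame.pos; omega)
      omega
    have hW := C.frame.card_W
    rw [hd, one_mul] at hW
    set i := C.frame.iEl (t := t) (0 : K) h
    let S : W → {d : Ω // i • d = d} := fun w =>
      ⟨(w : G) • x • b, C.frame.fix_W C.one C.inv lx w.2⟩
    have hS : Function.Injective S := by
      intro w w' e'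
      have e'' : (w : G) • x • b = (w' : G) • x • b := congrArg Subtype.val e'
      have := C.frame.semireg (⟨w', C.frame.W_le w'.2⟩⁻¹ * ⟨w, C.frame.W_le w.2⟩) lx.moved
        (by rw [Subgroup.coe_mul, Subgroup.coe_inv, mul_smul]; exact inv_smul_eq_iff.2 e'')
      exact Subtype.ext (inv_mul_eq_one.1 (congrArg Subtype.val this)).symm
    haveI : Fintype W := Fintype.ofFinite _
    haveI : Fintype {d : Ω // i • d = d} := Fintype.ofFinite _
    have hbij : Function.Bijective S := (Fintype.bijective_iff_injective_and_card S).2 ⟨hS, by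
      rw [← Nat.card_eq_fintype_card, ← Nat.card_eq_fintype_card, hW, C.blocks i _ lx.invol lx.fixes]⟩
    obtain ⟨w, hw⟩ := hbij.2 ⟨x' • b, lx'.fixes⟩
    have hw' : (w : G) • x • b = x' • b := congrArg Subtype.val hw
    have hr := C.coord.scale ⟨w, C.frame.W_le w.2⟩ (x • b) _ hxv
    rw [hw', hxv', Option.some_inj, scRaw, Prod.mk.injEq] at hr
    apply hN0
    have h7 : N' = N := by rw [hN'def, hr.1, mul_pow, (C.frame.phi_W _).2 w.2, one_mul]
    rw [h7] at hNN
    exact (mul_eq_zero.1 (by linear_combination hNN : (2 : E) * N = 0)).resolve_left h2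
  · have hl : ∀ {y : G}, C.frame.Lbl t (y • b) 0 h → ∀ w : ↥(Hsub G a b), (w : G) ∈ W →
        C.frame.Lbl t (((w : G) * y * (w : G)⁻¹) • b) 0 h := fun {y} ly w hw => by
      rw [C.frame.H_smul_pt]; exact C.frame.lbl_W C.one C.inv ly hw
    set J : ↥(Hsub G a b) := ⟨j, C.frame.j_mem⟩
    have hJ : J ≠ 1 := fun e => C.frame.j_ne (congrArg Subtype.val e)
    obtain ⟨μj, kj, Lj, hTj, hkj⟩ := C.orbit_point hx hxv lx (w := J) C.frame.j_W hJ
    rw [C.frame.phi_j, C.frob.odd.neg_pow, one_pow] at hTj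
    simp only at hkj
    rw [C.frame.phi_j, hTj, ← hNdef, ey] at hkj
    have hkj0 : δ * ι kj = 0 := by
      field_simp at hkj
      exact mul_left_cancel₀ h2 (by linear_combination hkj)
    have key : ∀ w : ↥(Hsub G a b), (w : G) ∈ W →
        ((χ w : E) * (v.1 ^ (p ^ n) * v'.1)) ^ 4 - 3 * N ^ 2 * ((χ w : E) * (v.1 ^ (p ^ n) * v'.1)) ^ 2 + N ^ 4 = 0 := by
      intro w hw
      set y := (w : G) * x' * (w : G)⁻¹ with hy
      have hyU : y ∈ U := C.frame.conj_U w hx'
      have ly : C.frame.Lbl t (y • b) 0 h := hl lx' w hw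
      have hyv : raw π (y • b) = some ((χ w : E) * v'.1, Y') := by
        rw [hy, C.raw_conj w hxv', scRaw, (C.frame.phi_W w).2 hw, one_mul]
      have hne : x ≠ y := by
        intro e'
        rw [← e', hxv, Option.some_inj, Prod.mk.injEq] at hyv
        apply hN0
        have h7 : N = N' := by rw [hNdef, hyv.1, mul_pow, (C.frame.phi_W w).2 hw, one_mul]
        exact (mul_eq_zero.1 (by linear_combination hNN + h7 : (2 : E) * N = 0)).resolve_left h2
      have hd := C.raw_diff hx hxv hyv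
      obtain ⟨m₁, h₁, L⟩ := C.frame.exists_lbl C.one C.inv (C.frame.translate_moved C.one C.inv hx hyU lx ly hne)
      obtain ⟨x₀, hx₀, L₀, hx₀v⟩ := C.to_zero L hd
      obtain ⟨ey₁, eD₁⟩ := C.centred_zero hq hx₀ hx₀v L₀
      simp only at ey₁ eD₁
      set u : E := (χ w : E) * (v.1 ^ (p ^ n) * v'.1) with hu
      set X : E := (χ w : E) * v'.1 - v.1
      set M : E := X ^ (p ^ n + 1) with hM
      have hNq : N ^ (p ^ n) = N := (C.norm_fix hxv :)
      have hY : Y ^ (p ^ n) + Y' - v.1 ^ (p ^ n) * ((χ w : E) * v'.1) = -u := by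
        rw [ey, ey', div_pow, hNq, show ((2 : E)) ^ (p ^ n) = 2 by
          rw [← one_add_one_eq_two, C.frob.add, one_pow], hu]
        field_simp
        linear_combination hNN
      rw [hY] at ey₁
      have hu2 : u * u ^ (p ^ n) = -(N ^ 2) := by
        rw [hu, mul_pow, mul_pow, C.frob.twice]
        have := (C.frame.norm_W hw)
        rw [hNdef, pow_succ] at hNN ⊢
        rw [hN'def, pow_succ] at hNN
        linear_combination (v.1 ^ (p ^ n) * v'.1 * v.1 * v'.1 ^ (p ^ n)) * this +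
          (v.1 ^ (p ^ n) * v.1) * hNN
      have hM2 : M = -u - u ^ (p ^ n) := by
        have := C.raw_eqn hd
        simp only at this
        rw [hY, C.frob.odd.neg_pow] at this
        linear_combination -this
      -- compare with the point of `j`
      have hc := C.frame.block_translate C.one C.inv lx ly (hl lx J C.frame.j_W) L Lj
      have hn := C.frame.lbl_n_ne C.one C.inv L
      have hnj := C.frame.lbl_n_ne C.one C.inv Lj
      rw [map_mul ν (C.frame.Lam C.inv μj) h, C.frame.nu_Lam, Units.val_mul, Units.val_mul] at hc hnj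
      have hcn := congrArg (fun g => ι (ν g : K)) hc
      simp only [map_mul, map_inv, Units.val_mul, Units.val_inv_eq_inv_val, map_inv₀, C.nu_lam hn,
        C.nu_lam hnj, C.frame.nu_Lam, map_sub] at hcn
      have hTj' : ι (ν μj : K) = 4 := by rw [hTj]; norm_num
      have hi1 : δ * δ * (ι (ν h₁ : K) - ι m₁ * ι m₁) = -(N ^ 2) := by
        rw [← hu2]
        field_simp at ey₁
        have h44 : (4 : E) ≠ 0 := by rw [show (4 : E) = 2 * 2 by norm_num]; exact mul_ne_zero h2 h2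
        refine mul_left_cancel₀ h44 ?_
        have e4 : 2 * (δ * ι m₁) = -2 * u - M := by linear_combination -ey₁
        have e5 : (2 * (δ * ι m₁)) ^ 2 = (-2 * u - M) ^ 2 := by rw [e4]
        rw [hM2] at e5 eD₁
        linear_combination eD₁ - e5
      have hi2 : δ * δ * (ι (ν μj : K) * ι (ν μj : K) * ι (ν h : K) - ι kj * ι kj) = 4 * N ^ 2 := by
        rw [hTj']
        linear_combination 4 * eD - (δ * ι kj) * hkj0
      rw [← div_eq_mul_inv, ← div_eq_mul_inv] at hcn
      have hn' : ι (ν h₁ : K) - ι m₁ * ι m₁ ≠ 0 := fun e' => by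
        rw [e', mul_zero] at hi1; exact hN0 (pow_eq_zero_iff two_ne_zero |>.1 (neg_eq_zero.1 hi1.symm))
      have h44 : (4 : E) * N ^ 2 ≠ 0 := by
        rw [show (4 : E) = 2 * 2 by norm_num]; exact mul_ne_zero (mul_ne_zero h2 h2) (pow_ne_zero 2 hN0)
      have hnj' : ι (ν μj : K) * ι (ν μj : K) * ι (ν h : K) - ι kj * ι kj ≠ 0 := fun e' => by
        rw [e', mul_zero] at hi2; exact h44 hi2.symm
      rw [div_eq_div_iff (mul_ne_zero hn' hn') (mul_ne_zero hnj' hnj')] at hcn
      have hcn' : (ι (ν h₁ : K) * (2 * δ) ^ 2) * (4 * N ^ 2) ^ 2 =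
          16 * (ι (ν h : K) * (2 * δ) ^ 2) * (-(N ^ 2)) ^ 2 := by
        rw [← hi1, ← hi2]
        rw [hTj'] at hcn ⊢
        linear_combination (4 * δ ^ 6) * hcn
      rw [eD₁, eD] at hcn'
      have hN4 : (16 : E) * N ^ 4 ≠ 0 := by
        rw [show (16 : E) = 2 * 2 * (2 * 2) by norm_num]
        exact mul_ne_zero (mul_ne_zero (mul_ne_zero h2 h2) (mul_ne_zero h2 h2)) (pow_ne_zero 4 hN0)
      have hM3 : M ^ 2 = N ^ 2 := mul_left_cancel₀ hN4 (by linear_combination hcn')
      rw [hM2] at hM3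
      linear_combination (u ^ 2) * hM3 - (u * u ^ (p ^ n) + 2 * u ^ 2 - N ^ 2) * hu2
    obtain ⟨w, hw, hne, hwj⟩ := C.frame.exists_W hq
    set z : E := v.1 ^ (p ^ n) * v'.1
    have k0 := key 1 (one_mem W)
    rw [map_one, Units.val_one, one_mul] at k0
    have k1 := key w hw
    have k2 := key (w * w) (mul_mem hw hw)
    rw [map_mul, Units.val_mul] at k2
    set e : E := (χ w : E) with he
    have hz0 : z ≠ 0 := fun e' => hN0 (pow_eq_zero_iff (n := 4) (by norm_num) |>.1 (by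
      rw [e'] at k0; linear_combination k0))
    have he2 : e ^ 2 - 1 ≠ 0 := by
      intro e'
      rcases mul_self_eq_one_iff.1 (show e * e = 1 by linear_combination e') with h1 | h1
      · exact hne (C.frame.phi_inj (Units.ext (by rw [map_one, Units.val_one]; exact h1)))
      · exact hwj (congrArg Subtype.val (C.frame.phi_inj (a₁ := w) (a₂ := J)
          (Units.ext (h1.trans C.frame.phi_j.symm))))
    have he0 : e ≠ 0 := (χ w).ne_zero
    have r1 : (e ^ 2 + 1) * z ^ 2 = 3 * N ^ 2 :=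
      mul_left_cancel₀ (mul_ne_zero he2 (pow_ne_zero 2 hz0)) (by linear_combination k1 - k0)
    have r2 : (e ^ 4 + e ^ 2) * z ^ 2 = 3 * N ^ 2 :=
      mul_left_cancel₀ (mul_ne_zero (mul_ne_zero he2 (pow_ne_zero 2 he0)) (pow_ne_zero 2 hz0))
        (by linear_combination k2 - k1)
    have r3 : e ^ 2 + 1 = 0 := (mul_eq_zero.1
      (show (e ^ 2 - 1) * (e ^ 2 + 1) = 0 from
        (mul_eq_zero.1 (show ((e ^ 2 - 1) * (e ^ 2 + 1)) * z ^ 2 = 0 by linear_combination r2 - r1)).resolve_right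
          (pow_ne_zero 2 hz0))).resolve_left he2
    rw [r3, zero_mul] at r1
    exact mul_ne_zero h3 (pow_ne_zero 2 hN0) r1.symm

end Ctx

end CfsgLib.Recog.OddUnitary
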