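import Cfsg.Agent.Lib.Recog.OddUnitary.Frame

/-!
Unitary coordinates (piece 5 of S1148).  The commutator of `U` is `L (s ^ q * t)` in the frame, `η` identifies
`Z` with the skew elements through `L`, and the point of `u` is `(ξ u, (ξ u) ^ (q + 1) / 2 + η (u * j u j⁻¹))`.
-/

set_option autoImplicit false

namespace CfsgLib.Recog.OddUnitary

open MulAction

universe u v

theorem charP_of_card {E : Type} [Field E] [Finite E] {p k : ℕ} (hp : p.Prime) (hE : Nat.card E = p ^ k) :
    CharP E p := by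
  have := Fintype.ofFinite E
  have h := FiniteField.cast_card_eq_zero E
  rw [← Nat.card_eq_fintype_card, hE, Nat.cast_pow] at h
  exact (CharP.charP_iff_prime_eq_zero hp).2 (eq_zero_of_pow_eq_zero h)

/-- The adjoint of multiplication by `a` is multiplication by its conjugate. -/
theorem adjoint_conj {E A : Type} [Field E] [Fintype E] [AddCommGroup A] {p n : ℕ} (hp : p.Prime) (hodd : p ≠ 2)
    (hn : 1 ≤ n) (hE : Nat.card E = (p ^ n) ^ 2) (B : E →+ E →+ A) (halt : ∀ s, B s s = 0)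
    (M : Subgroup Eˣ) (hM : Nat.gcd 3 (p ^ n + 1) * Nat.card M = p ^ n + 1)
    (hnorm : ∀ w ∈ M, (w : E) ^ (p ^ n + 1) = 1)
    (hinv : ∀ w ∈ M, ∀ s t : E, B ((w : E) * s) ((w : E) * t) = B s t) :
    ∀ a s t : E, B (a * s) t = B s (a ^ p ^ n * t) := by
  classical
  have : Fact p.Prime := ⟨hp⟩
  have hEc : Nat.card E = p ^ (n * 2) := by rw [hE, ← pow_mul]
  have : CharP E p := charP_of_card hp hEc
  set q := p ^ n with hq
  have hqodd : Odd q := (hp.odd_of_ne_two hodd).pow
  have hinvA : ∀ a : E, a ≠ 0 → a ^ (Fintype.card E - 2) = a⁻¹ := fun a ha => by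
    refine eq_inv_of_mul_eq_one_left ?_
    rw [← pow_succ, show Fintype.card E - 2 + 1 = Fintype.card E - 1 by
      have := Fintype.one_lt_card (α := E); omega, FiniteField.pow_card_sub_one_eq_one a ha]
  let R : Subring E :=
    { carrier := {a | ∀ s t : E, B (a * s) t = B s (a ^ q * t)}
      one_mem' := fun s t => by rw [one_mul, one_pow, one_mul]
      zero_mem' := fun s t => by
        rw [zero_mul, map_zero, zero_pow (pow_pos hp.pos n).ne', zero_mul, map_zero]; rfl
      mul_mem' := fun {x y} hx hy s t => by rw [mul_assoc, hx, hy, mul_pow, ← mul_assoc, mul_comm (y ^ q)]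
      add_mem' := fun {x y} hx hy s t => by
        rw [add_mul, map_add, AddMonoidHom.add_apply, hx, hy, hq, add_pow_char_pow, add_mul, map_add]
      neg_mem' := fun {x} hx s t => by
        rw [neg_mul, map_neg, AddMonoidHom.neg_apply, hx, hqodd.neg_pow, neg_mul, map_neg] }
  let F : Subfield E :=
    { R with
      inv_mem' := fun x hx => by
        rcases eq_or_ne x 0 with rfl | h0
        · rw [inv_zero]; exact R.zero_mem
        · rw [← hinvA x h0]; exact R.pow_mem hx _ }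
  have hMF : ∀ w ∈ M, (w : E) ∈ F := fun w hw s t => by
    conv_rhs => rw [← hinv w hw, ← mul_assoc, ← pow_succ', hnorm w hw, one_mul]
  suffices hcard : Nat.card F = Nat.card E by
    intro a
    have h : Function.Surjective (Subtype.val : F → E) :=
      ((Nat.bijective_iff_injective_and_card _).2 ⟨Subtype.val_injective, hcard⟩).2
    obtain ⟨y, rfl⟩ := h a
    exact y.2
  have : Fintype F := Fintype.ofFinite F
  have hdim : p ^ (n * 2) = Nat.card F ^ Module.finrank F E := by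
    rw [← hEc, Nat.card_eq_fintype_card, Nat.card_eq_fintype_card, Module.card_eq_pow_finrank (K := F) (V := E)]
  obtain ⟨k, -, hk⟩ := (Nat.dvd_prime_pow hp).1
    (hdim ▸ dvd_pow_self _ Module.finrank_pos.ne' : Nat.card F ∣ p ^ (n * 2))
  rw [hk, ← pow_mul] at hdim
  have hkr := Nat.pow_right_injective hp.two_le hdim
  rw [hk, hEc]
  congr 1
  by_contra hne
  have hkn : k ≤ n := by
    have h1 : 2 ≤ Module.finrank F E := by
      by_contra h
      rw [show Module.finrank F E = 1 by have := Module.finrank_pos (R := F) (M := E); omega, mul_one] at hkr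
      exact hne hkr.symm
    have : k * 2 ≤ k * Module.finrank F E := Nat.mul_le_mul_left _ h1
    omega
  rcases lt_or_ge n 2 with hn2 | hn2
  · -- `E` is quadratic over the prime field and the alternating form is a multiple of the determinant
    obtain rfl : n = 1 := by omega
    have hqp : q = p := pow_one p
    obtain ⟨x, hx⟩ : ∃ x : E, x ^ p ≠ x := by
      by_contra h
      push Not at h
      have := endPow_le hp hEc h
      omega
    set δ := x - x ^ p with hδ
    have hδ0 : δ ≠ 0 := sub_ne_zero.2 (Ne.symm hx)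
    have hxx : (x ^ p) ^ p = x := by
      rw [← pow_mul, show p * p = Nat.card E by rw [hE, hqp, sq], Nat.card_eq_fintype_card, FiniteField.pow_card]
    have hδp : δ ^ p = -δ := by rw [hδ, sub_pow_char, hxx, neg_sub]
    have htwo : (2 : E) ≠ 0 := by
      intro h
      have h' : ((2 : ℕ) : E) = 0 := by exact_mod_cast h
      rw [CharP.cast_eq_zero_iff E p] at h'
      exact hodd ((Nat.prime_dvd_prime_iff_eq hp Nat.prime_two).1 h')
    have hnat : ∀ c : ℕ, (c : E) ^ p = c := fun c => by rw [← frobenius_def, map_natCast]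
    have hfr : ∀ i l : ℕ, ((i : E) + l * δ) ^ p = i - l * δ := fun i l => by
      rw [add_pow_char, mul_pow, hnat, hnat, hδp, mul_neg, sub_eq_add_neg]
    let f : Fin p × Fin p → E := fun c => (c.1 : ℕ) + (c.2 : ℕ) * δ
    have hf : Function.Injective f := by
      intro c c' e
      have e' := congrArg (fun y : E => y ^ p) e
      simp only [f, hfr] at e e'
      have h1 : ((c.1 : ℕ) : E) = (c'.1 : ℕ) := mul_left_cancel₀ htwo (by linear_combination e + e')
      have h2 : ((c.2 : ℕ) : E) = (c'.2 : ℕ) := mul_right_cancel₀ hδ0 (by linear_combination e - h1)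
      exact Prod.ext (Fin.ext (CharP.natCast_injOn_Iio E p c.1.2 c'.1.2 h1))
        (Fin.ext (CharP.natCast_injOn_Iio E p c.2.2 c'.2.2 h2))
    have hfb : Function.Bijective f := (Nat.bijective_iff_injective_and_card f).2 ⟨hf, by
      rw [hE, Nat.card_prod, Nat.card_eq_fintype_card, Fintype.card_fin, hqp, sq]⟩
    have hB : ∀ (i l i' l' : ℕ), B ((i : E) + l * δ) ((i' : E) + l' * δ) =
        ((i : ℤ) * l' - l * i') • B 1 δ := by
      intro i l i' l'
      have hanti : B δ 1 = -B 1 δ := by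
        have h := halt (1 + δ)
        simp only [map_add, AddMonoidHom.add_apply, halt, zero_add, add_zero] at h
        exact eq_neg_of_add_eq_zero_left h
      have hsm : ∀ (c : ℕ) (y : E), (c : E) * y = c • y := fun c y => (nsmul_eq_mul c y).symm
      rw [show (i : E) = (i : E) * 1 from (mul_one _).symm, show (i' : E) = (i' : E) * 1 from (mul_one _).symm]
      simp only [hsm, map_add, map_nsmul, AddMonoidHom.add_apply, AddMonoidHom.nsmul_apply, halt, hanti,
        smul_zero, zero_add, add_zero]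
      rw [← natCast_zsmul, ← natCast_zsmul, ← natCast_zsmul, ← natCast_zsmul, smul_neg, smul_neg, smul_smul,
        smul_smul, ← neg_smul, ← add_smul]
      congr 1
      ring
    obtain ⟨⟨c₁, c₂⟩, hc⟩ := hfb.2 (δ * δ)
    have hc₂ : δ * δ = ((c₁ : ℕ) : E) := by
      have h := congrArg (fun y : E => y ^ p) hc
      simp only [f, hfr, mul_pow, hδp, neg_mul_neg] at h hc
      exact mul_left_cancel₀ htwo (by linear_combination -(1 : E) * hc - h)
    have hδF : δ ∈ F := by
      intro s t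
      obtain ⟨⟨s₁, s₂⟩, rfl⟩ := hfb.2 s
      obtain ⟨⟨t₁, t₂⟩, rfl⟩ := hfb.2 t
      rw [hqp, hδp]
      simp only [f]
      rw [show δ * (((s₁ : ℕ) : E) + (s₂ : ℕ) * δ) = (((s₂ : ℕ) * (c₁ : ℕ) : ℕ) : E) + (s₁ : ℕ) * δ by
          push_cast; linear_combination ((s₂ : ℕ) : E) * hc₂,
        show -δ * (((t₁ : ℕ) : E) + (t₂ : ℕ) * δ) = -((((t₂ : ℕ) * (c₁ : ℕ) : ℕ) : E) + (t₁ : ℕ) * δ) by
          push_cast; linear_combination -((t₂ : ℕ) : E) * hc₂, map_neg, hB, hB, ← neg_smul]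
      congr 1
      push_cast
      ring
    have hFp : Nat.card F = p := by
      have : 1 ≤ k := by
        by_contra h0
        have := Finite.one_lt_card (α := F)
        rw [hk, show k = 0 by omega, pow_zero] at this
        omega
      rw [hk, show k = 1 by omega, pow_one]
    have h := congrArg Subtype.val (FiniteField.pow_card (⟨δ, hδF⟩ : F))
    rw [← Nat.card_eq_fintype_card, hFp] at h
    have h' : δ ^ p = δ := h
    rw [hδp] at h'
    exact hδ0 (mul_left_cancel₀ htwo (by linear_combination -(1 : E) * h'))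
  · -- `M` generates `E`
    let g : M →* Fˣ := MonoidHom.toHomUnits
      { toFun := fun w => ⟨((w : Eˣ) : E), hMF w w.2⟩
        map_one' := rfl
        map_mul' := fun _ _ => rfl }
    have hg : Function.Injective g := fun w w' e =>
      Subtype.ext (Units.ext (congrArg (fun y : Fˣ => ((y : F) : E)) e))
    have hdvd : Nat.card M ∣ p ^ k - 1 := by
      rw [← hk, ← Nat.card_units F]
      exact Subgroup.card_dvd_of_injective g hg
    have hpk : 1 < p ^ k := hk ▸ Finite.one_lt_card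
    have hle : Nat.card M ≤ p ^ k - 1 := Nat.le_of_dvd (by omega) hdvd
    have hd3 : Nat.gcd 3 (q + 1) ≤ 3 := Nat.le_of_dvd (by norm_num) (Nat.gcd_dvd_left _ _)
    have h3 : q + 1 ≤ 3 * (p ^ k - 1) := hM ▸ Nat.mul_le_mul hd3 hle
    have hkn' : k = n := by
      by_contra h
      have : p ^ k * 3 ≤ q := by
        calc p ^ k * 3 ≤ p ^ k * p := Nat.mul_le_mul_left _ (by have := hp.two_le; omega)
          _ = p ^ (k + 1) := (pow_succ p k).symm
          _ ≤ q := Nat.pow_le_pow_right hp.pos (by omega)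
      omega
    rw [hkn', ← hq] at hdvd
    have hMd : Nat.card M ∣ q + 1 := hM ▸ dvd_mul_left _ _
    have h2 : Nat.card M ∣ 2 := by
      have h := Nat.dvd_sub hMd hdvd
      rwa [show q + 1 - (q - 1) = 2 by rw [hkn'] at hpk; omega] at h
    have h6 : q + 1 ≤ 3 * 2 := hM ▸ Nat.mul_le_mul hd3 (Nat.le_of_dvd two_pos h2)
    have : p ^ 2 ≤ q := Nat.pow_le_pow_right hp.pos hn2
    have : 3 ^ 2 ≤ p ^ 2 := Nat.pow_le_pow_left (by have := hp.two_le; omega) 2
    omega
where
  endPow_le {E : Type} [Field E] [Fintype E] {p d : ℕ} (hp : p.Prime) (hE : Nat.card E = p ^ d)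
      (h : ∀ x : E, x ^ p = x) : d ≤ 1 := by
    classical
    have hne : (Polynomial.X ^ p - Polynomial.X : Polynomial E) ≠ 0 :=
      FiniteField.X_pow_card_sub_X_ne_zero E hp.one_lt
    have hs : Finset.univ ⊆ (Polynomial.X ^ p - Polynomial.X : Polynomial E).roots.toFinset := fun x _ => by
      rw [Multiset.mem_toFinset, Polynomial.mem_roots hne]
      simp [h x]
    have h1 := (Finset.card_le_card hs).trans ((Multiset.toFinset_card_le _).trans
      ((Polynomial.card_roots' _).trans_eq (FiniteField.X_pow_card_sub_X_natDegree_eq E hp.one_lt)))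
    rw [Finset.card_univ, ← Nat.card_eq_fintype_card, hE] at h1
    by_contra h2
    exact absurd h1 (not_le.2 (lt_self_pow₀ hp.one_lt (by omega)))

theorem coordExists : CoordExists.{u, v} := by
  intro G Ω _ _ a b U p n j Z W K E _ _ ν ζ Φ ξ F hab
  classical
  have L := F.toLocalData
  have S := L.toSetup
  have := L.finite
  have := L.finite_pts
  have hp := L.prime
  have : Fact p.Prime := ⟨hp⟩
  have hppos := pow_pos hp.pos n
  have : Finite K := Nat.finite_of_card_ne_zero (by rw [F.card_K]; omega)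
  have : Finite E := Nat.finite_of_card_ne_zero (by rw [F.card_frame]; exact (pow_pos hppos 2).ne')
  let _ : Fintype E := Fintype.ofFinite E
  have : CharP E p := charP_of_card hp (k := n * 2) (by rw [F.card_frame, ← pow_mul])
  have : CharP K p := charP_of_card hp F.card_K
  set q := p ^ n with hq
  have hqodd : Odd q := (hp.odd_of_ne_two L.odd).pow
  have hqq : ∀ x : E, (x ^ q) ^ q = x := fun x => by
    rw [← pow_mul, ← sq, ← F.card_frame, Nat.card_eq_fintype_card, FiniteField.pow_card]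
  have hfrob : ∀ x y : E, (x + y) ^ q = x ^ q + y ^ q := fun x y => add_pow_char_pow x y p n
  have htwo : ∀ {R : Type} [Field R] [CharP R p], (2 : R) ≠ 0 := by
    intro R _ _ h
    have h' : ((2 : ℕ) : R) = 0 := by exact_mod_cast h
    rw [CharP.cast_eq_zero_iff R p] at h'
    exact L.odd ((Nat.prime_dvd_prime_iff_eq hp Nat.prime_two).1 h')
  have hζ1 : ζ 1 = 0 := by simpa using F.zeta_add 1 Z.one_mem 1 Z.one_mem
  have hξ1 : ξ 1 = 0 := (F.xi_zero 1 U.one_mem).2 Z.one_mem
  have hξinv : ∀ x ∈ U, ξ x⁻¹ = -ξ x := fun x hx => eq_neg_of_add_eq_zero_left (by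
    rw [← F.xi_add _ (inv_mem hx) _ hx, inv_mul_cancel, hξ1])
  have hcomm : ∀ x ∈ U, ∀ y ∈ U, x * y * x⁻¹ * y⁻¹ ∈ Z := fun x hx y hy => by
    rw [← F.xi_zero _ (mul_mem (mul_mem (mul_mem hx hy) (inv_mem hx)) (inv_mem hy)),
      F.xi_add _ (mul_mem (mul_mem hx hy) (inv_mem hx)) _ (inv_mem hy),
      F.xi_add _ (mul_mem hx hy) _ (inv_mem hx), F.xi_add _ hx _ hy, hξinv _ hx, hξinv _ hy]
    ring
  choose lift hliftU hlift using F.xi_surj
  -- the commutator form
  let B₀ : E → E → K := fun s t => ζ (lift s * lift t * (lift s)⁻¹ * (lift t)⁻¹)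
  have hB₀ : ∀ x ∈ U, ∀ y ∈ U, ζ (x * y * x⁻¹ * y⁻¹) = B₀ (ξ x) (ξ y) := by
    intro x hx y hy
    have hz : ∀ x ∈ U, x * (lift (ξ x))⁻¹ ∈ Z := fun x hx => by
      rw [← F.xi_zero _ (mul_mem hx (inv_mem (hliftU _))), F.xi_add _ hx _ (inv_mem (hliftU _)),
        hξinv _ (hliftU _), hlift, add_neg_cancel]
    obtain ⟨z, hz1, ex⟩ : ∃ z ∈ Z, x = z * lift (ξ x) := ⟨_, hz x hx, by group⟩
    obtain ⟨z', hz2, ey⟩ : ∃ z' ∈ Z, y = z' * lift (ξ y) := ⟨_, hz y hy, by group⟩
    show _ = ζ _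
    congr 1
    set x' := lift (ξ x) with hx'
    set y' := lift (ξ y) with hy'
    have hxU : x' ∈ U := hliftU _
    have hyU : y' ∈ U := hliftU _
    rw [ex, ey]
    calc z * x' * (z' * y') * (z * x')⁻¹ * (z' * y')⁻¹
        = z * (x' * z') * y' * x'⁻¹ * z⁻¹ * y'⁻¹ * z'⁻¹ := by group
      _ = z * (z' * x') * y' * x'⁻¹ * (z⁻¹ * y'⁻¹) * z'⁻¹ := by
          rw [L.Z_central z' hz2 x' hxU]; group
      _ = z * (z' * x') * y' * x'⁻¹ * (y'⁻¹ * z⁻¹) * z'⁻¹ := by
          rw [L.Z_central z⁻¹ (inv_mem hz1) y'⁻¹ (inv_mem hyU)]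
      _ = (z * z') * (x' * y' * x'⁻¹ * y'⁻¹) * (z⁻¹ * z'⁻¹) := by group
      _ = _ := by
          rw [L.Z_central _ (mul_mem hz1 hz2) _ (L.Z_le (hcomm x' hxU y' hyU)),
            show z⁻¹ * z'⁻¹ = (z * z')⁻¹ by
              rw [mul_inv_rev, L.Z_central _ (inv_mem hz1) _ (L.Z_le (inv_mem hz2))],
            mul_inv_cancel_right]
  have hBleft : ∀ s s' t, B₀ (s + s') t = B₀ s t + B₀ s' t := by
    intro s s' t
    obtain ⟨x, hx, rfl⟩ := F.xi_surj s
    obtain ⟨x', hx', rfl⟩ := F.xi_surj s'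
    obtain ⟨y, hy, rfl⟩ := F.xi_surj t
    rw [← F.xi_add x hx x' hx', ← hB₀ _ (mul_mem hx hx') _ hy, ← hB₀ _ hx _ hy, ← hB₀ _ hx' _ hy,
      ← F.zeta_add _ (hcomm x hx y hy) _ (hcomm x' hx' y hy)]
    congr 1
    calc x * x' * y * (x * x')⁻¹ * y⁻¹ = x * (x' * y * x'⁻¹ * y⁻¹) * y * x⁻¹ * y⁻¹ := by group
      _ = (x' * y * x'⁻¹ * y⁻¹) * (x * y * x⁻¹ * y⁻¹) := by
          rw [← L.Z_central _ (hcomm x' hx' y hy) x hx]; group
      _ = _ := L.Z_central _ (hcomm x' hx' y hy) _ (L.Z_le (hcomm x hx y hy))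
  have hBswap : ∀ s t, B₀ t s = -B₀ s t := by
    intro s t
    obtain ⟨x, hx, rfl⟩ := F.xi_surj s
    obtain ⟨y, hy, rfl⟩ := F.xi_surj t
    rw [← hB₀ _ hy _ hx, ← hB₀ _ hx _ hy]
    refine eq_neg_of_add_eq_zero_left ?_
    rw [← F.zeta_add _ (hcomm y hy x hx) _ (hcomm x hx y hy), ← hζ1]
    congr 1
    group
  have hBright : ∀ s t t', B₀ s (t + t') = B₀ s t + B₀ s t' := fun s t t' => by
    rw [hBswap (t + t') s, hBleft, neg_add, ← hBswap t s, ← hBswap t' s]
  let B : E →+ E →+ K := AddMonoidHom.mk' (fun s => AddMonoidHom.mk' (B₀ s) (hBright s))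
    (fun s s' => AddMonoidHom.ext (hBleft s s'))
  have hB : ∀ x ∈ U, ∀ y ∈ U, ζ (x * y * x⁻¹ * y⁻¹) = B (ξ x) (ξ y) := hB₀
  have halt : ∀ s, B s s = 0 := fun s => by
    obtain ⟨x, hx, rfl⟩ := F.xi_surj s
    rw [← hB x hx x hx, mul_inv_cancel_right, mul_inv_cancel, hζ1]
  have hequi : ∀ (h : (Hsub G a b)) (s t : E), B ((Φ h : E) * s) ((Φ h : E) * t) = (ν h : K) * B s t := by
    intro h s t
    obtain ⟨x, hx, rfl⟩ := F.xi_surj s
    obtain ⟨y, hy, rfl⟩ := F.xi_surj t
    rw [← F.xi_scale h x hx, ← F.xi_scale h y hy, ← hB _ (L.conj_mem _ h.2.1 x hx) _ (L.conj_mem _ h.2.1 y hy),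
      ← hB x hx y hy, ← F.zeta_scale h _ (hcomm x hx y hy)]
    congr 1
    group
  have hadj : ∀ c s t : E, B (c * s) t = B s (c ^ q * t) := by
    refine adjoint_conj hp L.odd L.pos F.card_frame B halt ((W.subgroupOf (Hsub G a b)).map Φ) ?_ ?_ ?_
    · rw [Subgroup.card_map_of_injective F.phi_inj,
        Nat.card_congr (Subgroup.subgroupOfEquivOfLe L.W_le).toEquiv, L.card_W]
    · rintro _ ⟨h, hh, rfl⟩; exact (F.phi_W h).2 hh
    · rintro _ ⟨h, hh, rfl⟩ s t
      rw [hequi, (F.nu_ker h).2 hh, Units.val_one, one_mul]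
  let Λ : E →+ K := B 1
  have hBΛ : ∀ s t, B s t = Λ (s ^ q * t) := fun s t => by
    conv_lhs => rw [← mul_one s, hadj]
  have hΛq : ∀ y, Λ (y ^ q) = -Λ y := fun y => by
    have h1 := hBΛ y 1
    have h2 := hBswap 1 y
    rw [mul_one] at h1
    exact h1.symm.trans h2
  have hΛscale : ∀ (h : (Hsub G a b)) (y : E), Λ ((Φ h : E) ^ (q + 1) * y) = (ν h : K) * Λ y := fun h y => by
    have h1 := hequi h 1 y
    rw [mul_one, hBΛ (Φ h : E), ← mul_assoc, ← pow_succ] at h1
    exact h1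
  have hnorm : ∀ k : E, k ≠ 0 → k ^ q = k → ∃ h : (Hsub G a b), (Φ h : E) ^ (q + 1) = k := by
    intro k hk0 hk
    let f : (Hsub G a b) →* Eˣ := (powMonoidHom (q + 1)).comp Φ
    have hker : f.ker = W.subgroupOf (Hsub G a b) := Subgroup.ext fun h => by
      rw [MonoidHom.mem_ker, Subgroup.mem_subgroupOf, ← F.phi_W h, ← Units.val_eq_one]
      exact Iff.rfl
    have hcard : Nat.card f.range = q - 1 := by
      have h2 := f.ker.card_mul_index
      rw [Subgroup.index_ker, hker, Nat.card_congr (Subgroup.subgroupOfEquivOfLe L.W_le).toEquiv] at h2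
      exact Nat.eq_of_mul_eq_mul_left Nat.card_pos (h2.trans L.card_H_eq)
    have hq1 : 0 < q - 1 := by have := S.three_le; omega
    have hfix : ∀ u : Eˣ, u ∈ f.range → u ^ (q - 1) = 1 := fun u hu => by
      rw [← hcard]
      exact congrArg Subtype.val (pow_card_eq_one' (x := (⟨u, hu⟩ : f.range)))
    have hk1 : Units.mk0 k hk0 ^ (q - 1) = 1 := by
      apply mul_left_cancel (a := Units.mk0 k hk0)
      rw [← pow_succ', mul_one, show q - 1 + 1 = q by omega]
      exact Units.ext (by simpa using hk)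
    have hT : (Finset.univ.filter fun u : Eˣ => u ∈ f.range) = Finset.univ.filter fun u : Eˣ => u ^ (q - 1) = 1 := by
      refine Finset.eq_of_subset_of_card_le
        (fun u hu => Finset.mem_filter.2 ⟨Finset.mem_univ _, hfix u (Finset.mem_filter.1 hu).2⟩) ?_
      refine (IsCyclic.card_pow_eq_one_le hq1).trans (le_of_eq ?_)
      rw [← Fintype.card_subtype, ← Nat.card_eq_fintype_card, ← hcard]
    have : Units.mk0 k hk0 ∈ Finset.univ.filter fun u : Eˣ => u ∈ f.range :=
      hT ▸ Finset.mem_filter.2 ⟨Finset.mem_univ _, hk1⟩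
    obtain ⟨h, hh⟩ := (Finset.mem_filter.1 this).2
    exact ⟨h, by simpa [f] using congrArg Units.val hh⟩
  -- skew elements
  have hΛinj : ∀ y : E, y ^ q = -y → Λ y = 0 → y = 0 := by
    intro y hy h0
    by_contra hy0
    have hskew : ∀ y' : E, y' ^ q = -y' → Λ y' = 0 := by
      intro y' hy'
      rcases eq_or_ne y' 0 with rfl | hy'0
      · exact map_zero Λ
      · obtain ⟨h, hh⟩ := hnorm (y' / y) (div_ne_zero hy'0 hy0) (by rw [div_pow, hy', hy, neg_div_neg_eq])
        rw [← div_mul_cancel₀ y' hy0, ← hh, hΛscale, h0, mul_zero]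
    have hall : ∀ w, Λ w = 0 := fun w => by
      have h1 := hskew (w - w ^ q) (by rw [sub_pow_char_pow, hqq, neg_sub])
      rw [map_sub, hΛq, sub_neg_eq_add, ← two_mul] at h1
      exact (mul_eq_zero.1 h1).resolve_left htwo
    obtain ⟨x, hx, x', hx', hne⟩ := hab
    refine hne ?_
    have h1 := F.zeta_inj _ (hcomm x hx x' hx') (by rw [hB x hx x' hx', hBΛ, hall])
    rwa [mul_inv_eq_one, mul_inv_eq_iff_eq_mul] at h1
  obtain ⟨w, hw⟩ : ∃ w : E, w - w ^ q ≠ 0 := by
    by_contra h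
    push Not at h
    obtain ⟨x, hx, x', hx', hne⟩ := hab
    have hall : ∀ w, Λ w = 0 := fun w => by
      have h1 := hΛq w
      rw [← sub_eq_zero.1 (h w)] at h1
      have h2 : (2 : K) * Λ w = 0 := by linear_combination h1
      exact (mul_eq_zero.1 h2).resolve_left htwo
    refine hne ?_
    have h1 := F.zeta_inj _ (hcomm x hx x' hx') (by rw [hB x hx x' hx', hBΛ, hall])
    rwa [mul_inv_eq_one, mul_inv_eq_iff_eq_mul] at h1
  set δ := w - w ^ q with hδ
  have hδq : δ ^ q = -δ := by rw [hδ, sub_pow_char_pow, hqq, neg_sub]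
  have hΛsurj : ∀ k : K, ∃ y : E, y ^ q = -y ∧ Λ y = k := by
    intro k
    rcases eq_or_ne k 0 with rfl | hk
    · exact ⟨0, by rw [zero_pow hppos.ne', neg_zero], map_zero Λ⟩
    · have hΛδ : Λ δ ≠ 0 := fun h => hw (hΛinj δ hδq h)
      obtain ⟨h, hh⟩ := F.nu_surj (Units.mk0 (k / Λ δ) (div_ne_zero hk hΛδ))
      refine ⟨(Φ h : E) ^ (q + 1) * δ, ?_, by rw [hΛscale, hh, Units.val_mk0, div_mul_cancel₀ _ hΛδ]⟩
      rw [mul_pow, hδq, mul_neg, ← pow_mul, mul_comm (q + 1) q, mul_add, mul_one, pow_add, pow_mul (Φ h : E) q q,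
        hqq, pow_succ, mul_comm (Φ h : E) ((Φ h : E) ^ q)]
  choose σ hσq hσ using hΛsurj
  have hσuniq : ∀ (y : E) (k : K), y ^ q = -y → Λ y = k → σ k = y := fun y k hy hyk =>
    sub_eq_zero.1 (hΛinj _ (by rw [sub_pow_char_pow, hσq, hy]; ring) (by rw [map_sub, hσ, hyk, sub_self]))
  have hσadd : ∀ k k', σ (k + k') = σ k + σ k' := fun k k' =>
    hσuniq _ _ (by rw [hfrob, hσq, hσq, neg_add]) (by rw [map_add, hσ, hσ])
  have hσ0 : σ 0 = 0 := hσuniq _ _ (by rw [zero_pow hppos.ne', neg_zero]) (map_zero Λ)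
  -- the second coordinate
  have hj : j ∈ (Hsub G a b) := L.j_mem
  have hΦj : (Φ ⟨j, hj⟩ : E) = -1 := by
    have h1 : (Φ ⟨j, hj⟩ : E) * (Φ ⟨j, hj⟩ : E) = 1 := by
      rw [← Units.val_mul, ← map_mul, show (⟨j, hj⟩ : (Hsub G a b)) * ⟨j, hj⟩ = 1 from Subtype.ext (by
        show j * j = 1
        rw [← sq, ← L.j_ord, pow_orderOf_eq_one]), map_one, Units.val_one]
    refine (mul_self_eq_one_iff.1 h1).resolve_left fun h2 => ?_
    have h3 : (⟨j, hj⟩ : (Hsub G a b)) = 1 := F.phi_inj (by rw [map_one]; exact Units.ext h2)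
    have := L.j_ord
    rw [show j = 1 from congrArg Subtype.val h3, orderOf_one] at this
    omega
  let tw : G → G := fun x => x * (j * x * j⁻¹)
  have htwU : ∀ x ∈ U, j * x * j⁻¹ ∈ U := fun x hx => L.conj_mem j hj.1 x hx
  have hξtw : ∀ x ∈ U, ξ (j * x * j⁻¹) = -ξ x := fun x hx => by
    have h := F.xi_scale ⟨j, hj⟩ x hx
    rwa [hΦj, neg_one_mul] at h
  have htwZ : ∀ x ∈ U, tw x ∈ Z := fun x hx => by
    rw [← F.xi_zero _ (mul_mem hx (htwU x hx)), F.xi_add _ hx _ (htwU x hx), hξtw x hx, add_neg_cancel]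
  have h2E : (2 : E) ≠ 0 := htwo
  have : NeZero (2 : E) := ⟨h2E⟩
  let D : E → E → E := fun s t => (s ^ q * t - s * t ^ q) / 2
  have hD : ∀ s t, σ (B s t) = D s t := by
    intro s t
    apply hσuniq
    · simp only [D]
      rw [div_pow, sub_pow_char_pow, mul_pow, mul_pow, hqq, hqq,
        show (2 : E) ^ q = 2 by
          rw [show (2 : E) = 1 + 1 from one_add_one_eq_two.symm, hfrob, one_pow]]
      ring
    · have h1 : Λ (D s t) + Λ (D s t) = Λ (s ^ q * t) + Λ (s ^ q * t) := by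
        rw [← map_add, add_halves, map_sub, show s * t ^ q = (s ^ q * t) ^ q by rw [mul_pow, hqq], hΛq,
          sub_neg_eq_add]
      rw [← two_mul, ← two_mul, ← hBΛ] at h1
      exact mul_left_cancel₀ htwo h1
  let Y : G → E := fun x => ξ x ^ (q + 1) / 2 + σ (ζ (tw x))
  have hS : ∀ x ∈ U, ∀ y ∈ U, σ (ζ (tw (x * y))) = σ (ζ (tw x)) + σ (ζ (tw y)) + D (ξ x) (ξ y) := by
    intro x hx y hy
    set x' := j * x * j⁻¹ with hx'
    have e : tw (x * y) = tw x * tw y * (y * x' * y⁻¹ * x'⁻¹) := by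
      have h1 := L.Z_central _ (hcomm y hy x' (htwU x hx)) x hx
      have h2 := L.Z_central _ (hcomm y hy x' (htwU x hx)) _ (L.Z_le (mul_mem (htwZ x hx) (htwZ y hy)))
      calc tw (x * y) = x * (y * x' * y⁻¹ * x'⁻¹) * (x' * (y * (j * y * j⁻¹))) := by
            simp only [tw, hx']; group
        _ = (y * x' * y⁻¹ * x'⁻¹) * (tw x * tw y) := by rw [← h1]; simp only [tw, hx']; group
        _ = _ := h2
    rw [e, F.zeta_add _ (mul_mem (htwZ x hx) (htwZ y hy)) _ (hcomm y hy x' (htwU x hx)),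
      F.zeta_add _ (htwZ x hx) _ (htwZ y hy), hσadd, hσadd, hB y hy x' (htwU x hx), hξtw x hx, map_neg,
      show -B (ξ y) (ξ x) = B (ξ x) (ξ y) from (hBswap (ξ y) (ξ x)).symm, hD]
  have hYmul : ∀ x ∈ U, ∀ y ∈ U, Y (x * y) = Y x + Y y + ξ x ^ q * ξ y := by
    intro x hx y hy
    simp only [Y]
    rw [hS x hx y hy, F.xi_add x hx y hy, pow_succ, pow_succ, pow_succ, hfrob]
    simp only [D]
    field_simp
    ring
  have hYuni : ∀ x, Y x + Y x ^ q = ξ x ^ (q + 1) := by
    intro x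
    simp only [Y]
    rw [hfrob, div_pow, hσq, show ((ξ x) ^ (q + 1)) ^ q = ξ x ^ (q + 1) by
        rw [← pow_mul, mul_comm, pow_mul, pow_succ, hqq, mul_comm, ← pow_succ],
      show (2 : E) ^ q = 2 by rw [show (2 : E) = 1 + 1 from one_add_one_eq_two.symm, hfrob, one_pow],
      show ξ x ^ (q + 1) / 2 + σ (ζ (tw x)) + (ξ x ^ (q + 1) / 2 + -σ (ζ (tw x))) =
        ξ x ^ (q + 1) / 2 + ξ x ^ (q + 1) / 2 by ring, add_halves]
  have hY1 : Y 1 = 0 := by simp [Y, tw, hξ1, hζ1, hσ0]
  have hYZ : ∀ z ∈ Z, Y z = σ (ζ z) + σ (ζ z) := by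
    intro z hz
    have h0 := (F.xi_zero z (L.Z_le hz)).2 hz
    have hcz : j * z * j⁻¹ = z := by rw [L.W_cent j L.j_W z hz, mul_inv_cancel_right]
    simp only [Y, tw, h0, hcz, F.zeta_add z hz z hz, hσadd, zero_pow (Nat.succ_ne_zero q), zero_div, zero_add]
  have hYscale : ∀ (h : (Hsub G a b)), ∀ x ∈ U, Y ((h : G) * x * (h : G)⁻¹) = (Φ h : E) ^ (q + 1) * Y x := by
    intro h x hx
    have hjh := S.H_comm hj h.2
    have e : tw ((h : G) * x * (h : G)⁻¹) = (h : G) * tw x * (h : G)⁻¹ := by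
      have hjh' : j * (h : G)⁻¹ = (h : G)⁻¹ * j := S.H_comm hj (inv_mem h.2)
      simp only [tw]
      calc (h : G) * x * (h : G)⁻¹ * (j * (h * x * (h : G)⁻¹) * j⁻¹)
          = h * x * (h : G)⁻¹ * ((j * h) * x * ((h : G)⁻¹ * j⁻¹)) := by group
        _ = h * x * (h : G)⁻¹ * ((h * j) * x * (j⁻¹ * (h : G)⁻¹)) := by
            rw [hjh, show (h : G)⁻¹ * j⁻¹ = j⁻¹ * (h : G)⁻¹ by rw [← mul_inv_rev, ← mul_inv_rev, hjh]]
        _ = _ := by group
    simp only [Y]
    rw [F.xi_scale h x hx, e, F.zeta_scale h _ (htwZ x hx),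
      hσuniq ((Φ h : E) ^ (q + 1) * σ (ζ (tw x))) _ (by
        rw [mul_pow, hσq, ← pow_mul, mul_comm (q + 1) q, pow_mul, pow_succ, hqq, mul_comm (Φ h : E), ← pow_succ]
        ring) (by rw [hΛscale, hσ])]
    ring
  -- the points
  have hq0 : q ≠ 0 := hppos.ne'
  let ω : U → Uni E q := fun x => ⟨(ξ x, Y x), hYuni x⟩
  have hωinj : Function.Injective ω := by
    intro x y e
    have e1 : ξ x = ξ y := congrArg (fun v : Uni E q => v.1.1) e
    have e2 : Y x = Y y := congrArg (fun v : Uni E q => v.1.2) e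
    obtain ⟨z, hz, hzy⟩ : ∃ z ∈ Z, (y : G) = x * z := ⟨(x : G)⁻¹ * y, by
      rw [← F.xi_zero _ (mul_mem (inv_mem x.2) y.2), F.xi_add _ (inv_mem x.2) _ y.2, hξinv _ x.2, e1,
        neg_add_cancel], by group⟩
    rw [hzy, hYmul _ x.2 _ (L.Z_le hz), hYZ z hz, (F.xi_zero z (L.Z_le hz)).2 hz, mul_zero, add_zero,
      left_eq_add, ← two_mul] at e2
    have hσz := (mul_eq_zero.1 e2).resolve_left h2E
    have : z = 1 := F.zeta_inj z hz (by rw [← hσ (ζ z), hσz, map_zero])
    exact Subtype.ext (by rw [hzy, this, mul_one])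
  have hωsurj : Function.Surjective ω := by
    rintro ⟨⟨s, y⟩, hy⟩
    replace hy : y + y ^ q = s ^ (q + 1) := hy
    obtain ⟨x, hx, rfl⟩ := F.xi_surj s
    set d := (y - Y x) / 2 with hd
    have hdq : d ^ q = -d := by
      rw [hd, div_pow, sub_pow_char_pow,
        show (2 : E) ^ q = 2 by rw [show (2 : E) = 1 + 1 from one_add_one_eq_two.symm, hfrob, one_pow],
        ← neg_div]
      congr 1
      linear_combination hy - hYuni x
    obtain ⟨z, hz, hzd⟩ := F.zeta_surj (Λ d)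
    have hz0 := (F.xi_zero z (L.Z_le hz)).2 hz
    refine ⟨⟨x * z, mul_mem hx (L.Z_le hz)⟩, Subtype.ext (Prod.ext ?_ ?_)⟩
    · show ξ (x * z) = ξ x
      rw [F.xi_add x hx z (L.Z_le hz), hz0, add_zero]
    · show Y (x * z) = y
      rw [hYmul x hx z (L.Z_le hz), hYZ z hz, hz0, mul_zero, add_zero, hzd, hσuniq d _ hdq rfl, hd, add_halves]
      ring
  let e := Equiv.ofBijective ω ⟨hωinj, hωsurj⟩
  let ψ : Option (Uni E q) → Ω := fun o => o.elim a fun v => ((e.symm v : U) : G) • b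
  have hne : ∀ x : U, (x : G) • b ≠ a := fun x h => S.ne (by
    have h1 : (x : G)⁻¹ • a = a := mem_stabilizer_iff.1 (inv_mem (L.le x.2))
    rw [← h1, ← h, inv_smul_smul])
  have hψb : Function.Bijective ψ := by
    constructor
    · rintro (_ | v) (_ | v') h
      · rfl
      · exact absurd h.symm (hne _)
      · exact absurd h (hne _)
      · exact congrArg some (e.symm.injective ((L.regular _ (hne _)).unique h rfl))
    · intro c
      rcases eq_or_ne c a with rfl | hc
      · exact ⟨none, rfl⟩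
      · obtain ⟨x, hx, -⟩ := L.regular c hc
        exact ⟨some (e x), by simp only [ψ, Option.elim_some, Equiv.symm_apply_apply]; exact hx⟩
  let π : Ω ≃ Option (Uni E q) := (Equiv.ofBijective ψ hψb).symm
  have hπu : ∀ x : U, π ((x : G) • b) = some (ω x) := fun x => by
    rw [Equiv.symm_apply_eq]
    show _ = ((e.symm (e x) : U) : G) • b
    rw [Equiv.symm_apply_apply]
  have hπa : π a = none := by rw [Equiv.symm_apply_eq]; rfl
  have hraw : ∀ x : U, raw π ((x : G) • b) = some (ξ x, Y x) := fun x => by rw [raw, hπu]; rfl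
  have hsome : ∀ (c : Ω) (v : E × E), raw π c = some v → ∃ x : U, (x : G) • b = c ∧ v = (ξ x, Y x) := by
    intro c v hv
    have hc : c ≠ a := fun h => by rw [h, raw, hπa] at hv; simp at hv
    obtain ⟨x, hx, -⟩ := L.regular c hc
    refine ⟨x, hx, ?_⟩
    rw [← hx, hraw] at hv
    exact (Option.some.inj hv).symm
  refine ⟨E, inferInstance, inferInstance, π, Φ,
    { toLocalData := L
      card_E := F.card_frame
      pi_a := hπa
      pi_b := ?_
      trans := ?_
      scale := ?_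
      chi_inj := F.phi_inj
      chi_j := fun _ => hΦj
      mem_Z := ?_
      mem_W := fun h => (F.phi_W h).symm
      norm_surj := hnorm }⟩
  · have h := hraw 1
    rw [Subgroup.coe_one, one_smul, hξ1, hY1] at h
    exact h
  · intro x hx c v v' hv hv'
    obtain ⟨y, rfl, rfl⟩ := hsome c v hv
    rw [hraw ⟨x, hx⟩] at hv'
    obtain rfl := (Option.some.inj hv').symm
    rw [← mul_smul]
    refine (hraw (⟨x, hx⟩ * y)).trans (congrArg some ?_)
    exact Prod.ext (F.xi_add x hx y y.2) (hYmul x hx y y.2)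
  · intro h c v hv
    obtain ⟨x, rfl, rfl⟩ := hsome c v hv
    have hb : (h : G)⁻¹ • b = b := mem_stabilizer_iff.1 (inv_mem h.2.2)
    have hU := L.conj_mem (h : G) h.2.1 x x.2
    rw [show (h : G) • (x : G) • b = ((h : G) * x * (h : G)⁻¹) • b by rw [mul_smul, mul_smul, hb]]
    refine (hraw ⟨_, hU⟩).trans (congrArg some ?_)
    exact Prod.ext (F.xi_scale h x x.2) (hYscale h x x.2)
  · intro x hx
    rw [← F.xi_zero x hx]
    refine ⟨fun h v hv => ?_, fun h => h _ (hraw ⟨x, hx⟩)⟩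
    rw [hraw ⟨x, hx⟩] at hv
    rw [← Option.some.inj hv]
    exact h

end CfsgLib.Recog.OddUnitary
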