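import Cfsg.Agent.Lib.Recog.OddUnitary.Setup
import Cfsg.Agent.Lib.PF.FieldAction

/-!
Field coordinates on `Z` and on `U ⧸ Z` (piece 3 of S1148).
-/

set_option autoImplicit false

namespace CfsgLib.Recog.OddUnitary

open MulAction

universe u v

variable {G : Type u} {Ω : Type v} [Group G] [MulAction G Ω] {a b : Ω} {U : Subgroup G} {p n : ℕ}

theorem Setup.H_comm (S : Setup G a b U p n) {g h : G} (hg : g ∈ Hsub G a b) (hh : h ∈ Hsub G a b) :
    g * h = h * g := by
  have := S.cyclic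
  let _ := IsCyclic.commGroup (α := ↥(Hsub G a b))
  exact congrArg Subtype.val (mul_comm (⟨g, hg⟩ : ↥(Hsub G a b)) ⟨h, hh⟩)

theorem Setup.three_le (S : Setup G a b U p n) : 3 ≤ p ^ n := by
  have h2 := S.prime.two_le
  have := S.odd
  calc 3 ≤ p := by omega
    _ ≤ p ^ n := Nat.le_self_pow (Nat.one_le_iff_ne_zero.1 S.pos) p

variable {j : G} {Z W : Subgroup G}

theorem LocalData.Z_le (L : LocalData G a b U p n j Z W) : Z ≤ U := by rw [L.Z_eq]; exact inf_le_left

theorem LocalData.conj_Z (L : LocalData G a b U p n j Z W) {h : G} (hh : h ∈ Hsub G a b) {z : G} (hz : z ∈ Z) :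
    h * z * h⁻¹ ∈ Z := by
  rw [L.Z_eq] at hz ⊢
  obtain ⟨hzU, hzj⟩ := Subgroup.mem_inf.1 hz
  refine Subgroup.mem_inf.2 ⟨L.conj_mem h hh.1 z hzU, ?_⟩
  rw [Subgroup.mem_centralizer_singleton_iff] at hzj ⊢
  have e : j * h = h * j := L.toSetup.H_comm L.j_mem hh
  have e' : h⁻¹ * j = j * h⁻¹ := L.toSetup.H_comm (inv_mem hh) L.j_mem
  calc h * z * h⁻¹ * j = h * (z * j) * h⁻¹ := by rw [mul_assoc (h * z), e']; group
    _ = (h * j) * z * h⁻¹ := by rw [hzj]; group
    _ = j * (h * z * h⁻¹) := by rw [← e]; group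

theorem LocalData.card_H_eq (L : LocalData G a b U p n j Z W) :
    Nat.card ↥(Hsub G a b) = Nat.card W * (p ^ n - 1) := by
  have h1 := L.card_H
  have h2 := L.card_W
  have hd : 0 < Nat.gcd 3 (p ^ n + 1) := Nat.gcd_pos_of_pos_left _ (by norm_num)
  apply Nat.eq_of_mul_eq_mul_left hd
  rw [h1, ← mul_assoc, h2, ← Nat.sq_sub_sq, one_pow]

/-- A nonidentity element of `H` fixes nothing outside `Z` modulo `Z`. -/
theorem LocalData.semireg (L : LocalData G a b U p n j Z W) {h : G} (hh : h ∈ Hsub G a b) (h1 : h ≠ 1)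
    {x : G} (hx : x ∈ U) (hc : h * x * h⁻¹ * x⁻¹ ∈ Z) : x ∈ Z := by
  have := L.finite
  obtain ⟨z, hz, hzx⟩ : ∃ z ∈ Z, h * x * h⁻¹ = z * x := ⟨_, hc, by group⟩
  by_cases hW : h ∈ W
  · have hcz : Commute h z := L.W_cent h hW z hz
    have hk : ∀ k : ℕ, h ^ k * x * (h ^ k)⁻¹ = z ^ k * x := by
      intro k
      induction k with
      | zero => simp
      | succ k ih =>
        rw [pow_succ' h, show h * h ^ k * x * (h * h ^ k)⁻¹ = h * (h ^ k * x * (h ^ k)⁻¹) * h⁻¹ by group, ih,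
          show h * (z ^ k * x) * h⁻¹ = (h * z ^ k * h⁻¹) * (h * x * h⁻¹) by group, hzx,
          (hcz.pow_right k).eq, mul_inv_cancel_right, pow_succ, mul_assoc]
    have h3 := hk (Nat.card W)
    have h4 : h ^ Nat.card W = 1 := congrArg Subtype.val (pow_card_eq_one' (x := (⟨h, hW⟩ : W)))
    rw [h4] at h3
    have h5 : z ^ Nat.card W = 1 := by simpa using h3.symm
    have hcop : Nat.Coprime (Nat.card W) p := by
      rw [Nat.coprime_comm, L.prime.coprime_iff_not_dvd]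
      intro hd
      have : p ∣ p ^ n + 1 := L.card_W ▸ hd.mul_left _
      exact L.prime.one_lt.ne' (Nat.dvd_one.1 ((Nat.dvd_add_right (dvd_pow_self p (by have := L.pos; omega))).1 this))
    have h6 : z = 1 := by simpa [hcop.gcd_eq_one] using pow_gcd_eq_one.2 ⟨h5, L.Z_exp z hz⟩
    rw [h6, one_mul, mul_inv_eq_iff_eq_mul] at hzx
    exact L.cen_W h hW h1 x hx hzx
  · have hinj : Function.Injective fun z : Z => (⟨h * z * h⁻¹ * (z : G)⁻¹,
        mul_mem (L.conj_Z hh z.2) (inv_mem z.2)⟩ : Z) := by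
      intro y y' e
      have e' : h * y * h⁻¹ * (y : G)⁻¹ = h * y' * h⁻¹ * (y' : G)⁻¹ := congrArg Subtype.val e
      have hy'' : ((y' : G)⁻¹ * y) ∈ U := L.Z_le (mul_mem (inv_mem y'.2) y.2)
      have key : h * ((y' : G)⁻¹ * y) = (y' : G)⁻¹ * y * h := by
        have hcy : ((y : G)) * (y' : G)⁻¹ = (y' : G)⁻¹ * y :=
          L.Z_central y y.2 _ (L.Z_le (inv_mem y'.2))
        have e2 : h * y * h⁻¹ = (h * y' * h⁻¹) * ((y' : G)⁻¹ * y) := by
          rw [← mul_assoc, ← e', inv_mul_cancel_right]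
        calc h * ((y' : G)⁻¹ * y) = (h * y' * h⁻¹)⁻¹ * (h * y * h⁻¹) * h := by group
          _ = _ := by rw [e2, inv_mul_cancel_left]
      exact Subtype.ext (inv_mul_eq_one.1 (L.fpf h hh hW _ hy'' key)).symm
    have : Finite Z := inferInstance
    obtain ⟨z₀, hz₀⟩ := Finite.injective_iff_surjective.1 hinj ⟨z⁻¹, inv_mem hz⟩
    have e : h * z₀ * h⁻¹ * (z₀ : G)⁻¹ = z⁻¹ := congrArg Subtype.val hz₀
    have key : h * ((z₀ : G) * x) * h⁻¹ = z₀ * x := by
      rw [show h * ((z₀ : G) * x) * h⁻¹ = (h * z₀ * h⁻¹) * (h * x * h⁻¹) by group, hzx,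
        mul_inv_eq_iff_eq_mul.1 e, mul_assoc, ← mul_assoc (z₀ : G) z x,
        L.Z_central z₀ z₀.2 z (L.Z_le hz), mul_assoc, inv_mul_cancel_left]
    have h2 := L.fpf h hh hW _ (mul_mem (L.Z_le z₀.2) hx) (mul_inv_eq_iff_eq_mul.1 key)
    rw [eq_inv_of_mul_eq_one_right h2]
    exact inv_mem z₀.2

theorem eq_of_cyclo_dvd {p n c k : ℕ} (hp : p.Prime) (hq : 3 ≤ p ^ n) (_hn : 1 ≤ n)
    (hc : Nat.gcd 3 (p ^ n + 1) * c = p ^ n + 1) (hk : 1 ≤ k) (hk2 : k ≤ 2 * n)
    (hdvd : c * (p ^ n - 1) ∣ p ^ k - 1) : k = 2 * n := by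
  have hpk : 1 < p ^ k := Nat.one_lt_pow (by omega) hp.one_lt
  rcases le_or_gt k n with hkn | hkn
  · exfalso
    have h1 : c * (p ^ n - 1) ≤ p ^ n - 1 :=
      (Nat.le_of_dvd (by omega) hdvd).trans (Nat.sub_le_sub_right (Nat.pow_le_pow_right hp.pos hkn) 1)
    have h2 : Nat.gcd 3 (p ^ n + 1) ≤ 3 := Nat.le_of_dvd (by norm_num) (Nat.gcd_dvd_left _ _)
    have h3 : c ≤ 1 := by
      by_contra h
      have : 2 * (p ^ n - 1) ≤ c * (p ^ n - 1) := Nat.mul_le_mul_right _ (by omega)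
      omega
    have : Nat.gcd 3 (p ^ n + 1) * c ≤ 3 * 1 := Nat.mul_le_mul h2 h3
    omega
  · have h1 : p ^ n - 1 ∣ p ^ k - 1 := (dvd_mul_left _ _).trans hdvd
    have h2 : Nat.gcd n k = n := by
      have h3 := (Nat.pow_sub_one_gcd_pow_sub_one p n k).symm.trans (Nat.gcd_eq_left h1)
      have := Nat.one_le_pow (Nat.gcd n k) p hp.pos
      exact Nat.pow_right_injective hp.two_le (show p ^ Nat.gcd n k = p ^ n by omega)
    obtain ⟨m, rfl⟩ := Nat.gcd_eq_left_iff_dvd.1 h2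
    have hm : 2 ≤ m := by
      by_contra h
      have : n * m ≤ n * 1 := Nat.mul_le_mul_left _ (by omega)
      omega
    have : n * 2 ≤ n * m := Nat.mul_le_mul_left _ hm
    omega

theorem frameExists : FrameExists.{u, v} := by
  intro G Ω _ _ a b U p n j Z W L
  classical
  have S := L.toSetup
  have := L.finite
  have hp := L.prime
  have : Fact p.Prime := ⟨hp⟩
  have hq := S.three_le
  set H := Hsub G a b with hH
  -- the field of `Z`
  have hpZ : p ∣ Nat.card Z := by rw [L.card_Z]; exact dvd_pow_self p (by have := L.pos; omega)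
  obtain ⟨z₀, hz₀⟩ := exists_prime_orderOf_dvd_card' p hpZ
  have hirrZ : ∀ N : Subgroup G, N ≤ Z → H ≤ Subgroup.normalizer (N : Set G) → N = ⊥ ∨ N = Z := by
    intro N hN hHN
    refine (Subgroup.bot_or_exists_ne_one N).imp id fun ⟨z, hz, hz1⟩ => ?_
    have hst : ∀ g h : H, (g : G) * z * (g : G)⁻¹ = (h : G) * z * (h : G)⁻¹ → (g : G)⁻¹ * h ∈ W := by
      intro g h e
      by_contra hW
      refine hz1 (L.fpf _ (g⁻¹ * h).2 (by simpa using hW) z (L.Z_le (hN hz)) ?_)
      calc ((g⁻¹ * h : H) : G) * z = (g : G)⁻¹ * ((h : G) * z * (h : G)⁻¹) * h := by push_cast; group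
        _ = _ := by rw [← e]; push_cast; group
    let W' := W.subgroupOf H
    let o : H ⧸ W' → {x : N // x ≠ 1} := Quotient.lift (fun g => ⟨⟨(g : G) * z * (g : G)⁻¹,
        (Subgroup.mem_normalizer_iff.1 (hHN g.2) z).1 hz⟩,
        fun e => hz1 (conj_eq_one_iff.1 (congrArg Subtype.val e))⟩) (by
      intro g h hgh
      have hw : ((g⁻¹ * h : H) : G) ∈ W := (QuotientGroup.leftRel_apply (s := W')).1 hgh
      refine Subtype.ext (Subtype.ext ?_)
      have e := L.W_cent _ hw z (hN hz)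
      push_cast at e
      calc (g : G) * z * (g : G)⁻¹ = g * (((g : G)⁻¹ * h) * z * ((g : G)⁻¹ * h)⁻¹) * (g : G)⁻¹ := by
            rw [e, mul_inv_cancel_right]
        _ = _ := by group)
    have ho : Function.Injective o := by
      intro x y
      induction x using QuotientGroup.induction_on with
      | H g => induction y using QuotientGroup.induction_on with
        | H h => exact fun e => QuotientGroup.eq.2 (by
            simpa [W', Subgroup.mem_subgroupOf] using hst g h (congrArg (fun x => ((x.1 : N) : G)) e))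
    have h1 := Nat.card_le_card_of_injective o ho
    have hWH : W'.index = p ^ n - 1 := by
      have h2 := W'.card_mul_index
      rw [Nat.card_congr (Subgroup.subgroupOfEquivOfLe L.W_le).toEquiv, L.card_H_eq] at h2
      exact Nat.eq_of_mul_eq_mul_left Nat.card_pos h2
    have := Fintype.ofFinite N
    rw [← Subgroup.index_eq_card, hWH, Nat.card_eq_fintype_card, Fintype.card_subtype_compl,
      Fintype.card_subtype_eq, ← Nat.card_eq_fintype_card] at h1
    refine Subgroup.eq_of_le_of_card_ge hN ?_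
    have := Nat.card_pos (α := N)
    rw [L.card_Z]
    omega
  obtain ⟨K, _, _, ζ, ψ, hKc, hζb, hζa, hψ, hψm, -, -⟩ :=
    PF.F14.exists_field_of_irreducible hp Z H (Subgroup.zpowers (z₀ : G))
      (fun x hx y hy => L.Z_central x hx y (L.Z_le hy)) L.Z_exp
      (fun h hh z hz => L.conj_Z hh hz) (fun g hg h hh => S.H_comm hg hh) hirrZ
      (Subgroup.zpowers_le.2 z₀.2) (by rw [Nat.card_zpowers, Subgroup.orderOf_coe, hz₀])
  have hζ1 : ζ 1 = 0 := by simpa using hζa 1 Z.one_mem 1 Z.one_mem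
  let ν₀ : H →* K :=
    { toFun := fun h => ψ (h : G)
      map_one' := by
        have h1 := hψm 1 H.one_mem 1 H.one_mem
        rw [mul_one] at h1
        exact mul_eq_left₀ (hψ 1 H.one_mem).1 |>.1 h1.symm
      map_mul' := fun g h => hψm _ g.2 _ h.2 }
  let ν : H →* Kˣ := MonoidHom.toHomUnits ν₀
  have hν : ∀ h : H, (ν h : K) = ψ (h : G) := fun _ => rfl
  have hνker : ∀ h : H, ν h = 1 ↔ (h : G) ∈ W := by
    intro h
    rw [Units.ext_iff, hν, Units.val_one]
    refine ⟨fun e => ?_, fun hW => ?_⟩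
    · by_contra hW
      have hz1 : (z₀ : G) ≠ 1 := fun e' => hp.one_lt.ne (by
        rw [← hz₀, ← Subgroup.orderOf_coe, e', orderOf_one])
      refine hz1 (L.fpf h h.2 hW _ (L.Z_le z₀.2) (mul_inv_eq_iff_eq_mul.1 ?_))
      refine hζb.injOn (L.conj_Z h.2 z₀.2) z₀.2 ?_
      rw [(hψ _ h.2).2 _ z₀.2, e, one_mul]
    · obtain ⟨z, hz, hz'⟩ := hζb.surjOn (Set.mem_univ 1)
      have := (hψ _ h.2).2 z hz
      rw [L.W_cent _ hW z hz, mul_inv_cancel_right, hz', mul_one] at this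
      exact this.symm
  -- the quotient `U ⧸ Z`
  let M : Subgroup G := stabilizer G a ⊓ Subgroup.normalizer (Z : Set G)
  have hUM : U ≤ M := le_inf L.le fun x hx => Subgroup.mem_normalizer_iff.2 fun z => by
    refine ⟨fun hz => ?_, fun hz => ?_⟩
    · rwa [← L.Z_central z hz x hx, mul_inv_cancel_right]
    · have e := L.Z_central _ hz x hx
      have : x * z * x⁻¹ = z := by
        calc x * z * x⁻¹ = x⁻¹ * (x * (x * z * x⁻¹)) := by group
          _ = x⁻¹ * (x * z * x⁻¹ * x) := by rw [e]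
          _ = z := by group
      rwa [this] at hz
  have hHM : H ≤ M := le_inf inf_le_left fun h hh => Subgroup.mem_normalizer_iff.2 fun z => by
    refine ⟨fun hz => L.conj_Z hh hz, fun hz => ?_⟩
    simpa [mul_assoc] using L.conj_Z (inv_mem hh) hz
  let Z' : Subgroup M := Z.subgroupOf M
  have : Z'.Normal := ⟨fun z hz g => by
    simpa [Z', Subgroup.mem_subgroupOf] using (Subgroup.mem_normalizer_iff.1 g.2.2 z).1 hz⟩
  let π := QuotientGroup.mk' Z'
  let P := (U.subgroupOf M).map π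
  let H' := (H.subgroupOf M).map π
  have hPmem : ∀ c ∈ P, ∃ x : M, (x : G) ∈ U ∧ π x = c := fun c ⟨x, hx, e⟩ => ⟨x, hx, e⟩
  have hHmem : ∀ c ∈ H', ∃ x : M, (x : G) ∈ H ∧ π x = c := fun c ⟨x, hx, e⟩ => ⟨x, hx, e⟩
  have hπ : ∀ x y : M, π x = π y ↔ (x : G)⁻¹ * y ∈ Z := fun x y => QuotientGroup.eq
  have hπ1 : ∀ x : M, π x = 1 ↔ (x : G) ∈ Z := fun x => QuotientGroup.eq_one_iff x
  have hcardP : Nat.card P = (p ^ n) ^ 2 := by
    let g : ↥(U.subgroupOf M) →* M ⧸ Z' := π.comp (U.subgroupOf M).subtype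
    have hr : g.range = P := by rw [MonoidHom.range_comp, Subgroup.range_subtype]
    have hk : Nat.card g.ker = p ^ n := by
      rw [← L.card_Z]
      refine Nat.card_congr
        { toFun := fun x => ⟨((x.1 : M) : G), (hπ1 _).1 x.2⟩
          invFun := fun z => ⟨⟨⟨z, hUM (L.Z_le z.2)⟩, L.Z_le z.2⟩, (hπ1 _).2 z.2⟩
          left_inv := fun _ => rfl
          right_inv := fun _ => rfl }
    have h1 := g.ker.card_mul_index
    rw [Subgroup.index_ker, hr, hk, Nat.card_congr (Subgroup.subgroupOfEquivOfLe hUM).toEquiv, S.card_U,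
      pow_succ' (p ^ n) 2] at h1
    exact Nat.eq_of_mul_eq_mul_left (pow_pos hp.pos n) h1
  have hP : IsPGroup p P := IsPGroup.of_card (n := n * 2) (by rw [hcardP, ← pow_mul])
  have hnorm : ∀ c ∈ H', ∀ x ∈ P, c * x * c⁻¹ ∈ P := by
    intro c hc x hx
    obtain ⟨g, hg, rfl⟩ := hHmem c hc
    obtain ⟨y, hy, rfl⟩ := hPmem x hx
    exact ⟨g * y * g⁻¹, L.conj_mem g hg.1 y hy, by simp⟩
  have hfree : ∀ g : M, (g : G) ∈ H → g ≠ 1 → ∀ x ∈ P, π g * x * (π g)⁻¹ = x → x = 1 := by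
    intro g hg hg1 x hx e
    obtain ⟨y, hy, rfl⟩ := hPmem x hx
    rw [hπ1]
    refine L.semireg hg (fun h => hg1 (Subtype.ext h)) hy ?_
    rw [← map_inv, ← map_mul, ← map_mul] at e
    have := (hπ _ _).1 e.symm
    simp only [Subgroup.coe_mul, Subgroup.coe_inv] at this
    have e2 : (g : G) * y * (g : G)⁻¹ * (y : G)⁻¹ = (y : G)⁻¹ * ((g : G) * y * (g : G)⁻¹) := by
      have h3 : ((y : G)⁻¹ * (g * y * (g : G)⁻¹)) * y = y * ((y : G)⁻¹ * (g * y * (g : G)⁻¹)) :=
        L.Z_central _ this _ hy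
      calc (g : G) * y * (g : G)⁻¹ * (y : G)⁻¹
          = (y : G) * ((y : G)⁻¹ * (g * y * (g : G)⁻¹)) * (y : G)⁻¹ := by group
        _ = ((y : G)⁻¹ * (g * y * (g : G)⁻¹)) * y * (y : G)⁻¹ := by rw [h3]
        _ = _ := by group
    rw [e2]; exact this
  have hirrP : ∀ N : Subgroup (M ⧸ Z'), N ≤ P → H' ≤ Subgroup.normalizer (N : Set (M ⧸ Z')) → N = ⊥ ∨ N = P := by
    intro N hN hHN
    refine (Subgroup.bot_or_exists_ne_one N).imp id fun ⟨x, hx, hx1⟩ => ?_
    let act : MulAction H {y : N // y ≠ 1} :=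
      { smul := fun h y => ⟨⟨π ⟨h, hHM h.2⟩ * (y.1 : M ⧸ Z') * (π ⟨h, hHM h.2⟩)⁻¹,
            (Subgroup.mem_normalizer_iff.1 (hHN ⟨⟨h, hHM h.2⟩, h.2, rfl⟩) _).1 y.1.2⟩,
            fun e => y.2 (Subtype.ext (conj_eq_one_iff.1 (congrArg Subtype.val e)))⟩
        one_smul := fun y => Subtype.ext (Subtype.ext (by
          show π ⟨((1 : H) : G), _⟩ * _ * _ = _
          rw [show (⟨((1 : H) : G), hHM (1 : H).2⟩ : M) = 1 from rfl, map_one, one_mul, inv_one, mul_one]))
        mul_smul := fun g h y => Subtype.ext (Subtype.ext (by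
          show π ⟨((g * h : H) : G), _⟩ * _ * _ = π _ * (π _ * _ * _) * _
          rw [show (⟨((g * h : H) : G), hHM (g * h).2⟩ : M) = ⟨g, hHM g.2⟩ * ⟨h, hHM h.2⟩ from rfl, map_mul]
          group)) }
    have hdvd : Nat.card H ∣ Nat.card {y : N // y ≠ 1} := by
      have hst : ∀ y : {y : N // y ≠ 1}, stabilizer H y = ⊥ := fun y => by
        refine (Subgroup.eq_bot_iff_forall _).2 fun h hh => ?_
        by_contra h1
        refine y.2 (Subtype.ext (hfree ⟨h, hHM h.2⟩ h.2 ?_ _ (hN y.1.2) ?_))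
        · exact fun e => h1 (Subtype.ext (congrArg (Subtype.val (p := (· ∈ M))) e))
        · exact congrArg (fun z : {y : N // y ≠ 1} => ((z.1 : M ⧸ Z'))) (mem_stabilizer_iff.1 hh)
      rw [Nat.card_congr (MulAction.selfEquivOrbitsQuotientProd hst), Nat.card_prod]
      exact dvd_mul_left _ _
    have := Fintype.ofFinite N
    rw [Nat.card_eq_fintype_card (α := {y : N // y ≠ 1}), Fintype.card_subtype_compl, Fintype.card_subtype_eq,
      ← Nat.card_eq_fintype_card] at hdvd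
    obtain ⟨k, hk, hk'⟩ := (Nat.dvd_prime_pow hp).1 (show Nat.card N ∣ p ^ (n * 2) by
      rw [pow_mul, ← hcardP]; exact Subgroup.card_dvd_of_le hN)
    have hk1 : 1 ≤ k := by
      by_contra h0
      rw [show k = 0 by omega, pow_zero] at hk'
      rw [Subgroup.eq_bot_of_card_eq N hk'] at hx
      exact hx1 hx
    rw [hk', L.card_H_eq] at hdvd
    have := eq_of_cyclo_dvd hp hq L.pos L.card_W hk1 (by omega) hdvd
    exact Subgroup.eq_of_le_of_card_ge hN (by rw [hk', hcardP, this, ← pow_mul, mul_comm n 2])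
  have : Nontrivial P := Finite.one_lt_card_iff_nontrivial.1 (by
    rw [hcardP]; exact Nat.one_lt_pow (by norm_num) (by omega))
  have hPcomm : ∀ x ∈ P, ∀ y ∈ P, x * y = y * x := by
    have hC : H' ≤ Subgroup.normalizer ((P ⊓ Subgroup.centralizer (P : Set (M ⧸ Z')) : Subgroup (M ⧸ Z')) : Set (M ⧸ Z')) := by
      intro c hc
      refine Subgroup.mem_normalizer_iff.2 fun x => ?_
      have key : ∀ c ∈ H', ∀ x ∈ P ⊓ Subgroup.centralizer (P : Set (M ⧸ Z')),
          c * x * c⁻¹ ∈ P ⊓ Subgroup.centralizer (P : Set (M ⧸ Z')) := by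
        intro c hc x hx
        refine ⟨hnorm c hc x hx.1, Subgroup.mem_centralizer_iff.2 fun y hy => ?_⟩
        have h := Subgroup.mem_centralizer_iff.1 hx.2 _ (by simpa using hnorm c⁻¹ (inv_mem hc) y hy :
          c⁻¹ * y * c ∈ P)
        calc y * (c * x * c⁻¹) = c * ((c⁻¹ * y * c) * x) * c⁻¹ := by group
          _ = _ := by rw [h]; group
      exact ⟨key c hc x, fun h => by simpa [mul_assoc] using key c⁻¹ (inv_mem hc) _ h⟩
    rcases hirrP _ inf_le_left hC with h | h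
    · exfalso
      have := hP.center_nontrivial
      obtain ⟨⟨z, hz⟩, hz1⟩ := exists_ne (1 : Subgroup.center P)
      refine hz1 (Subtype.ext (Subtype.ext ?_))
      have : (z : M ⧸ Z') ∈ (⊥ : Subgroup (M ⧸ Z')) := by
        rw [← h]
        exact ⟨z.2, Subgroup.mem_centralizer_iff.2 fun y hy =>
          congrArg Subtype.val (Subgroup.mem_center_iff.1 hz ⟨y, hy⟩)⟩
      exact Subgroup.mem_bot.1 this
    · intro x hx y hy
      rw [← h] at hy
      exact Subgroup.mem_centralizer_iff.1 hy.2 x hx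
  obtain ⟨x₀, hx₀⟩ := exists_prime_orderOf_dvd_card' (G := P) p (by
    rw [hcardP, ← pow_mul]; exact dvd_pow_self p (by have := L.pos; omega))
  have hPexp : ∀ x ∈ P, x ^ p = 1 := by
    let Q : Subgroup (M ⧸ Z') :=
      { carrier := {x | x ∈ P ∧ x ^ p = 1}
        one_mem' := ⟨P.one_mem, one_pow p⟩
        mul_mem' := fun {x y} hx hy => ⟨P.mul_mem hx.1 hy.1, by
          rw [(show Commute x y from hPcomm x hx.1 y hy.1).mul_pow, hx.2, hy.2, one_mul]⟩
        inv_mem' := fun {x} hx => ⟨P.inv_mem hx.1, by rw [inv_pow, hx.2, inv_one]⟩ }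
    rcases hirrP Q (fun x hx => hx.1) (fun c hc => Subgroup.mem_normalizer_iff.2 fun x =>
        ⟨fun hx => ⟨hnorm c hc x hx.1, by rw [conj_pow, hx.2, mul_one, mul_inv_cancel]⟩,
         fun hx => ⟨by simpa [mul_assoc] using hnorm c⁻¹ (inv_mem hc) _ hx.1, by
          have := hx.2
          rw [conj_pow] at this
          exact conj_eq_one_iff.1 this⟩⟩) with h | h
    · exfalso
      have : (x₀ : M ⧸ Z') ∈ Q := ⟨x₀.2, by rw [← hx₀, ← Subgroup.orderOf_coe, pow_orderOf_eq_one]⟩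
      rw [h, Subgroup.mem_bot] at this
      rw [← Subgroup.orderOf_coe, this, orderOf_one] at hx₀
      exact hp.one_lt.ne hx₀
    · intro x hx
      rw [← h] at hx
      exact hx.2
  obtain ⟨E, _, _, f, φ, hEc, hfb, hfa, hφ, hφm, -, -⟩ :=
    PF.F14.exists_field_of_irreducible hp P H' (Subgroup.zpowers (x₀ : M ⧸ Z')) hPcomm hPexp hnorm
      (fun c hc c' hc' => by
        obtain ⟨g, hg, rfl⟩ := hHmem c hc
        obtain ⟨g', hg', rfl⟩ := hHmem c' hc'
        rw [← map_mul, ← map_mul, show g * g' = g' * g from Subtype.ext (S.H_comm hg hg')])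
      hirrP (Subgroup.zpowers_le.2 x₀.2) (by rw [Nat.card_zpowers, Subgroup.orderOf_coe, hx₀])
  have hf1 : f 1 = 0 := by simpa using hfa 1 P.one_mem 1 P.one_mem
  let ξ : G → E := fun x => if h : x ∈ M then f (π ⟨x, h⟩) else 0
  have hξ : ∀ x (hx : x ∈ U), ξ x = f (π ⟨x, hUM hx⟩) := fun x hx => dif_pos (hUM hx)
  have hπP : ∀ x (hx : x ∈ U), π ⟨x, hUM hx⟩ ∈ P := fun x hx => ⟨_, hx, rfl⟩
  have hπH : ∀ h : H, π ⟨h, hHM h.2⟩ ∈ H' := fun h => ⟨⟨h, hHM h.2⟩, h.2, rfl⟩
  let Φ₀ : H →* E :=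
    { toFun := fun h => φ (π ⟨h, hHM h.2⟩)
      map_one' := by
        have h1 := hφm 1 H'.one_mem 1 H'.one_mem
        rw [mul_one] at h1
        rw [show (⟨((1 : H) : G), hHM (1 : H).2⟩ : M) = 1 from rfl, map_one]
        exact mul_eq_left₀ (hφ 1 H'.one_mem).1 |>.1 h1.symm
      map_mul' := fun g h => by rw [← hφm _ (hπH g) _ (hπH h), ← map_mul]; rfl }
  let Φ : H →* Eˣ := MonoidHom.toHomUnits Φ₀
  have hΦ : ∀ h : H, (Φ h : E) = φ (π ⟨h, hHM h.2⟩) := fun _ => rfl
  have hΦinj : Function.Injective Φ := by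
    rw [injective_iff_map_eq_one]
    intro h e
    by_contra h1
    have hx : (x₀ : M ⧸ Z') ≠ 1 := fun e' => hp.one_lt.ne (by
      rw [← hx₀, ← Subgroup.orderOf_coe, e', orderOf_one])
    refine hx (hfree ⟨h, hHM h.2⟩ h.2 (fun e' => h1 (Subtype.ext (congrArg (Subtype.val (p := (· ∈ M))) e')))
      _ x₀.2 (hfb.injOn (hnorm _ (hπH h) _ x₀.2) x₀.2 ?_))
    rw [(hφ _ (hπH h)).2 _ x₀.2, ← hΦ, e, Units.val_one, one_mul]
  have hWq : ∀ h : H, (h : G) ∈ W → h ^ (p ^ n + 1) = 1 := fun h hW => by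
    obtain ⟨c, hc⟩ : Nat.card W ∣ p ^ n + 1 := L.card_W ▸ dvd_mul_left _ _
    have h4 : (h : G) ^ Nat.card W = 1 := congrArg Subtype.val (pow_card_eq_one' (x := (⟨h, hW⟩ : W)))
    exact Subtype.ext (by rw [Subgroup.coe_pow, hc, pow_mul, h4, one_pow]; rfl)
  refine ⟨K, E, inferInstance, inferInstance, inferInstance, inferInstance, ν, ζ, Φ, ξ,
    { toLocalData := L
      card_K := by rw [Nat.card_eq_fintype_card, hKc, L.card_Z]
      card_frame := by rw [Nat.card_eq_fintype_card, hEc, hcardP]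
      nu_surj := ?_
      nu_ker := hνker
      phi_inj := hΦinj
      phi_W := fun h => ?_
      zeta_add := hζa
      zeta_inj := fun z hz e => hζb.injOn hz Z.one_mem (e.trans hζ1.symm)
      zeta_surj := fun k => hζb.surjOn (Set.mem_univ k)
      zeta_scale := fun h z hz => (hψ _ h.2).2 z hz
      xi_add := fun x hx y hy => by
        rw [hξ x hx, hξ y hy, hξ _ (mul_mem hx hy), ← hfa _ (hπP x hx) _ (hπP y hy), ← map_mul]; rfl
      xi_zero := fun x hx => by
        rw [hξ x hx]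
        refine ⟨fun e => (hπ1 _).1 (hfb.injOn (hπP x hx) P.one_mem (e.trans hf1.symm)),
          fun hz => by rw [(hπ1 ⟨x, hUM hx⟩).2 hz, hf1]⟩
      xi_surj := fun e => by
        obtain ⟨c, hc, rfl⟩ := hfb.surjOn (Set.mem_univ e)
        obtain ⟨x, hx, rfl⟩ := hPmem c hc
        exact ⟨x, hx, hξ _ hx⟩
      xi_scale := fun h x hx => by
        rw [hξ x hx, hξ _ (L.conj_mem _ h.2.1 x hx), hΦ, ← (hφ _ (hπH h)).2 _ (hπP x hx), ← map_inv,
          ← map_mul, ← map_mul]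
        rfl }⟩
  · rw [← MonoidHom.range_eq_top]
    refine Subgroup.eq_top_of_card_eq _ ?_
    have hk : ν.ker = W.subgroupOf H := Subgroup.ext fun h => (MonoidHom.mem_ker.trans (hνker h))
    have h2 := ν.ker.card_mul_index
    rw [Subgroup.index_ker, hk, Nat.card_congr (Subgroup.subgroupOfEquivOfLe L.W_le).toEquiv] at h2
    rw [Nat.eq_of_mul_eq_mul_left Nat.card_pos (h2.trans L.card_H_eq), Nat.card_units, Nat.card_eq_fintype_card,
      hKc, L.card_Z]
  · rw [← Units.val_pow_eq_pow_val, ← map_pow, Units.val_eq_one, map_eq_one_iff Φ hΦinj]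
    refine ⟨fun e => ?_, hWq h⟩
    have := L.toSetup.cyclic
    have := Fintype.ofFinite H
    set m := Nat.gcd (p ^ n + 1) (Nat.card H) with hm
    have hmW : m ≤ Nat.card W := by
      have hd : Nat.gcd (Nat.gcd 3 (p ^ n + 1)) (p ^ n - 1) = 1 := by
        rcases (Nat.dvd_prime Nat.prime_three).1 (Nat.gcd_dvd_left 3 (p ^ n + 1)) with h' | h'
        · rw [h', Nat.gcd_one_left]
        · rw [h', ← Nat.coprime_iff_gcd_eq_one, Nat.prime_three.coprime_iff_not_dvd]
          have := Nat.gcd_dvd_right 3 (p ^ n + 1)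
          rw [h'] at this
          omega
      rw [hm]
      nth_rewrite 1 [← L.card_W]
      rw [L.card_H_eq, mul_comm (Nat.gcd 3 (p ^ n + 1)), Nat.gcd_mul_left, hd, mul_one]
    let T := Finset.univ.filter fun g : H => g ^ m = 1
    let T' := Finset.univ.filter fun g : H => (g : G) ∈ W
    have hpow : ∀ g : H, g ^ (p ^ n + 1) = 1 → g ^ m = 1 := fun g hg =>
      pow_gcd_eq_one.2 ⟨hg, pow_card_eq_one'⟩
    have hT : T' = T := by
      refine Finset.eq_of_subset_of_card_le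
        (fun g hg => Finset.mem_filter.2 ⟨Finset.mem_univ _, hpow g (hWq g (Finset.mem_filter.1 hg).2)⟩) ?_
      refine ((IsCyclic.card_pow_eq_one_le (Nat.gcd_pos_of_pos_left _ (Nat.succ_pos _))).trans hmW).trans (le_of_eq ?_)
      rw [← Fintype.card_subtype, ← Nat.card_eq_fintype_card]
      exact (Nat.card_congr (Subgroup.subgroupOfEquivOfLe L.W_le).toEquiv).symm
    have : h ∈ T' := hT ▸ Finset.mem_filter.2 ⟨Finset.mem_univ _, hpow h e⟩
    exact (Finset.mem_filter.1 this).2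

end CfsgLib.Recog.OddUnitary
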