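import Cfsg.Agent.Lib.Recog.OddUnitary.InversionNorm

/-!
The normalised swap is the inversion `(x, y) ↦ (x / y, 1 / y)`.
-/

set_option autoImplicit false
set_option linter.unusedSectionVars false
set_option linter.style.haveILetI false

namespace CfsgLib.Recog.OddUnitary

open MulAction

universe u v

variable {G : Type u} {Ω : Type v} [Group G] [MulAction G Ω] {a b : Ω} {U : Subgroup G} {p n : ℕ} {j : G}
  {Z W : Subgroup G} {K E : Type} [Field K] [Field E] {π : Ω ≃ Option (Uni E (p ^ n))}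
  {χ : ↥(Hsub G a b) →* Eˣ} {ι : K →+* E} {δ : E} {ν : ↥(Hsub G a b) →* Kˣ} {ζ : G → K} {ξ : G → E} {t : G}

namespace Ctx

variable (C : Ctx G a b U p n j Z W K E π χ ι δ ν ζ ξ t) (hc : Centred C.frame π ι δ t)
  (hci : Circles C.frame π t) {h₀ : ↥(Hsub G a b)} (hu : C.Unit h₀)
include C hc hci hu

theorem ne_zero_of_fst {v : E × E} (h : v.1 ≠ 0) : v ≠ (0, 0) := fun e => h (by rw [e])

theorem exists_circle : ∃ (c : Ω) (X : E), raw π c = some (X, 1) ∧ X ^ (p ^ n + 1) = 2 := by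
  obtain ⟨g, hg⟩ := C.exists_norm 2 C.frame.two_ne
  rw [C.two_eq] at hg
  obtain ⟨x, -, hxv⟩ := C.exists_pt (v := ((χ g : E), 1)) (by rw [one_pow, hg, one_add_one_eq_two])
  exact ⟨_, _, hxv, hg⟩

theorem swap_eq : (h₀ : G) * t = C.frame.iEl (t := t) (0 : K) h₀ := by
  rw [Frame.iEl, neg_zero, C.frame.zz_zero]; group

theorem s_swaps : Swaps ((h₀ : G) * t) a b :=
  ⟨by rw [mul_smul, C.inv.swaps.1, C.frame.H_b], by rw [mul_smul, C.inv.swaps.2, C.frame.H_a]⟩

theorem s_sq : (h₀ : G) * t * ((h₀ : G) * t) = 1 := by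
  obtain ⟨c, X, hcX, hX⟩ := C.exists_circle hc hci hu
  rw [C.swap_eq hc hci hu, ← pow_two, ← (hu.circle c X hcX hX).invol, pow_orderOf_eq_one]

theorem s_comm (k : ↥(Hsub G a b)) (c : Ω) :
    ((h₀ : G) * t) • (k : G) • c = (C.frame.αH C.inv k : G) • ((h₀ : G) * t) • c := by
  rw [smul_smul, smul_smul, mul_assoc, C.frame.t_H C.inv, ← mul_assoc,
    C.frame.comm_H h₀.2 (C.frame.αH C.inv k).2, mul_assoc]

theorem s_fix {c : Ω} {X : E} (hv : raw π c = some (X, 1)) (hX : X ^ (p ^ n + 1) = 2) :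
    ((h₀ : G) * t) • c = c := by
  rw [C.swap_eq hc hci hu]; exact (hu.circle c X hv hX).fixes

/-- Points with the same `x / y` have images with the same `x`. -/
theorem block_fst {c₁ c₂ : Ω} {v₁ v₂ w₁ w₂ : E × E} (h₁ : raw π c₁ = some v₁) (h₂ : raw π c₂ = some v₂)
    (hX₁ : v₁.1 ≠ 0) (hX₂ : v₂.1 ≠ 0) (hr : v₁.1 / v₁.2 = v₂.1 / v₂.2)
    (hw₁ : raw π (((h₀ : G) * t) • c₁) = some w₁) (hw₂ : raw π (((h₀ : G) * t) • c₂) = some w₂) :
    w₁.1 = w₂.1 := by
  have h2 : (2 : E) ≠ 0 := C.frob.two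
  haveI : NeZero (2 : E) := ⟨h2⟩
  have hy₁ := C.snd_ne_zero h₁ (C.ne_zero_of_fst hc hci hu hX₁)
  have hy₂ := C.snd_ne_zero h₂ (C.ne_zero_of_fst hc hci hu hX₂)
  set r : E := v₁.1 / v₁.2 with hrdef
  have hr0 : r ≠ 0 := div_ne_zero hX₁ hy₁
  set X₀ : E := (-1 / r) ^ (p ^ n) with hX₀
  have hX₀q : X₀ ^ (p ^ n) = -1 / r := by rw [hX₀, C.frob.twice]
  have hX₀0 : X₀ ≠ 0 := pow_ne_zero _ (div_ne_zero (neg_ne_zero.2 one_ne_zero) hr0)
  set N₀ : E := X₀ ^ (p ^ n + 1) with hN₀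
  have hNq : N₀ ^ (p ^ n) = N₀ := by rw [hN₀, pow_succ, mul_pow, C.frob.twice, mul_comm]
  obtain ⟨x, hx, hxv⟩ := C.exists_pt (v := (X₀, N₀ / 2)) (by
    rw [div_pow, hNq, show ((2 : E)) ^ (p ^ n) = 2 by rw [← one_add_one_eq_two, C.frob.add, one_pow],
      add_halves])
  obtain ⟨k₀, hk₀⟩ := (C.fixed N₀).1 hNq
  set k : K := k₀ / 2 with hk
  have hk' : ι k * 2 = N₀ := by rw [hk, map_div₀, C.two_eq, hk₀, div_mul_cancel₀ _ h2]
  have hmv := C.moved_of_fst hxv hX₀0
  obtain ⟨m, h, l⟩ := C.frame.exists_lbl C.one C.inv hmv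
  have hlab : ∀ {d : Ω} {v : E × E} {m' : K} {h' : ↥(Hsub G a b)}, C.frame.Lbl t d m' h' → raw π d = some v →
      v.1 ^ (p ^ n + 1) = N₀ → v.2 = N₀ / 2 → m' = 0 ∧ h' = C.frame.lam C.inv k * h₀ := by
    intro d v m' h' l' hv hN hy
    obtain ⟨ey, -⟩ := hc d v m' h' l' hv
    rw [hN, hy, sub_self] at ey
    exact ⟨(map_eq_zero ι).1 ((mul_eq_zero.1 ey).resolve_left C.delta_ne),
      C.lbl_norm hc hci hu l' hv k (by rw [hN, hk'])⟩
  obtain ⟨hm, hh⟩ := hlab l hxv rfl rfl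
  subst hm; subst hh
  set i := C.frame.iEl (t := t) (0 : K) (C.frame.lam C.inv k * h₀)
  have hfix : ∀ {c : Ω} {v : E × E}, raw π c = some v → v.1 ≠ 0 → v.1 / v.2 = r → i • x • c = x • c := by
    intro c v hv hX hvr
    have hy := C.snd_ne_zero hv (C.ne_zero_of_fst hc hci hu hX)
    obtain ⟨y, hyU, rfl⟩ := C.frame.exists_U (c := c) (fun e => by rw [e, raw, C.coord.pi_a] at hv; cases hv)
    have hp := C.raw_mul hx hxv hv
    rw [trRaw, mul_smul] at hp
    set P : E := X₀ + v.1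
    set Q : E := N₀ / 2 + v.2 + X₀ ^ (p ^ n) * v.1 with hQ
    have hQ' : Q = N₀ / 2 := by
      rw [hQ, hX₀q, ← hvr]
      field_simp
      ring
    have hPN : P ^ (p ^ n + 1) = N₀ := by
      have := C.raw_eqn hp
      simp only at this
      rw [hQ'] at this
      rw [← this, div_pow, hNq, show ((2 : E)) ^ (p ^ n) = 2 by rw [← one_add_one_eq_two, C.frob.add, one_pow],
        add_halves]
    have hP : P ≠ 0 := fun e => pow_ne_zero (p ^ n + 1) hX₀0 (by
      rw [← hN₀, ← hPN, e, zero_pow (Nat.succ_ne_zero _)])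
    obtain ⟨m', h', l'⟩ := C.frame.exists_lbl C.one C.inv (C.moved_of_fst hp hP)
    obtain ⟨hm', hh'⟩ := hlab l' hp hPN hQ'
    subst hm'; subst hh'
    exact l'.fixes
  set s : G := (h₀ : G) * t with hs
  have hsb := C.s_swaps hc hci hu
  set i' := s * (x⁻¹ * i * x) * s⁻¹ with hi'
  have hord : orderOf i' = 2 := by
    have e := orderOf_two_conj (g := x⁻¹) l.invol
    rw [inv_inv] at e
    exact orderOf_two_conj e
  have hmove : ∀ c : Ω, i' • s • c = s • x⁻¹ • i • x • c := fun c => by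
    simp only [hi', ← mul_smul]; congr 1; group
  have hfa : i' • a = a := by
    have := hmove b
    rw [l.fixes, inv_smul_smul, hsb.2] at this
    exact this
  have hfix' : ∀ {c : Ω} {v : E × E}, raw π c = some v → v.1 ≠ 0 → v.1 / v.2 = r → i' • s • c = s • c :=
    fun {c v} hv hX hvr => by rw [hmove, hfix hv hX hvr, inv_smul_smul]
  have hne : s • c₁ ≠ a := fun e => by rw [e, raw, C.coord.pi_a] at hw₁; cases hw₁
  obtain ⟨u, huU, hub, huj⟩ := C.frame.invol_at_a C.one hord hfa (hfix' h₁ hX₁ rfl) hne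
  obtain ⟨vu, hvu⟩ := C.raw_U huU
  have hfst : ∀ {d : Ω} {w : E × E}, raw π d = some w → i' • d = d → w.1 = vu.1 := by
    intro d w hw hd
    rw [huj, mul_smul, mul_smul, smul_eq_iff_eq_inv_smul] at hd
    have hda : u⁻¹ • d ≠ a := fun e => by
      rw [inv_smul_eq_iff, C.frame.fix_a huU] at e
      rw [e, raw, C.coord.pi_a] at hw; cases hw
    obtain ⟨l, hl⟩ := C.frame.exists_pt hda hd
    rw [inv_smul_eq_iff] at hl
    rw [hl, Frame.pt, smul_smul, C.raw_mul huU hvu (C.raw_zz l), Option.some_inj] at hw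
    rw [← hw]; exact add_zero _
  rw [hfst hw₁ (hfix' h₁ hX₁ rfl), hfst hw₂ (hfix' h₂ hX₂ hr.symm)]

/-- The image of a point in terms of `x / y`. -/
theorem phase {c : Ω} {v w : E × E} (hv : raw π c = some v) (hX : v.1 ≠ 0)
    (hw : raw π (((h₀ : G) * t) • c) = some w) (k : ↥(Hsub G a b))
    (hk : ι (ν k : K) * (v.1 / v.2) ^ (p ^ n + 1) = 2) :
    w.1 = v.1 / v.2 * ((χ (C.frame.αH C.inv k) : E) * (χ k : E) ^ (p ^ n)) := by
  have hy := C.snd_ne_zero hv (C.ne_zero_of_fst hc hci hu hX)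
  set r : E := v.1 / v.2 with hr
  set κ : E := (χ k : E)
  have hκ : κ ≠ 0 := (χ k).ne_zero
  set X₀ : E := r * κ ^ (p ^ n) with hX₀
  have hN : X₀ ^ (p ^ n + 1) = 2 := by
    rw [hX₀, mul_pow, ← pow_mul, mul_comm (p ^ n) (p ^ n + 1), pow_mul, ← C.nu, C.iota_pow, mul_comm]
    exact hk
  obtain ⟨x, -, hxv⟩ := C.exists_pt (v := (X₀, 1)) (by rw [one_pow, hN, one_add_one_eq_two])
  have hd : raw π ((k : G) • x • b) = some (κ * X₀, κ ^ (p ^ n + 1)) := by
    rw [C.coord.scale k _ _ hxv, scRaw, mul_one]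
  have himg : raw π (((h₀ : G) * t) • (k : G) • x • b) =
      some ((χ (C.frame.αH C.inv k) : E) * X₀, (χ (C.frame.αH C.inv k) : E) ^ (p ^ n + 1)) := by
    rw [C.s_comm hc hci hu, C.s_fix hc hci hu hxv hN, C.coord.scale _ _ _ hxv, scRaw, mul_one]
  have hκ0 : κ * X₀ ≠ 0 := mul_ne_zero hκ (mul_ne_zero (div_ne_zero hX hy) (pow_ne_zero _ hκ))
  have := C.block_fst hc hci hu hv hd hX hκ0 (by
    rw [← hr, hX₀, pow_succ, eq_div_iff (mul_ne_zero (pow_ne_zero _ hκ) hκ)]; ring) hw himg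
  rw [this]
  show (χ (C.frame.αH C.inv k) : E) * X₀ = _
  rw [hX₀]; ring

theorem phase_W {w : ↥(Hsub G a b)} (hw : (w : G) ∈ W) :
    (χ (C.frame.αH C.inv w) : E) * (χ w : E) ^ (p ^ n) = 1 := by
  rw [C.frame.αH_W C.inv w hw]; exact C.frame.norm_W hw

theorem phase_eq_one (k : ↥(Hsub G a b)) : (χ (C.frame.αH C.inv k) : E) * (χ k : E) ^ (p ^ n) = 1 := by
  classical
  haveI : Finite K := C.frame.finite_K
  haveI : Fintype K := Fintype.ofFinite K
  have h2 : (2 : E) ≠ 0 := C.frob.two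
  let φ : ↥(Hsub G a b) →* Eˣ := (χ.comp (C.frame.αH C.inv)) * (χ ^ (p ^ n))
  have hφ : ∀ g, (φ g : E) = (χ (C.frame.αH C.inv g) : E) * (χ g : E) ^ (p ^ n) := fun g => by
    simp [φ]
  set Q : Subgroup Kˣ := φ.ker.map ν
  set D : K := (ν h₀ : K)⁻¹ with hD
  have hDδ : ι D = δ ^ 2 := by
    rw [hD, map_inv₀]
    exact inv_eq_of_mul_eq_one_right hu.norm
  have hmem : ∀ a₀ : K, ∃ g ∈ Q, (g : K) = 1 - D * a₀ * a₀ := by
    intro a₀
    set w : K := 1 - D * a₀ * a₀ with hw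
    set A : E := δ * ι a₀ with hA
    have hAq : A ^ (p ^ n) = -A := by rw [hA, mul_pow, C.delta_pow, C.iota_pow, neg_mul]
    have hwA : ι w = (1 + A) * (1 - A) := by
      rw [hw, map_sub, map_one, map_mul, map_mul, hDδ, hA]; ring
    have hne : ∀ e : E, e = 1 ∨ e = -1 → A ≠ e := by
      rintro e he rfl
      rcases he with he | he <;> rw [he] at hAq
      · rw [one_pow] at hAq; exact h2 (by linear_combination hAq)
      · rw [C.frob.odd.neg_pow, one_pow, neg_neg] at hAq; exact h2 (by linear_combination -hAq)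
    have hw0 : ι w ≠ 0 := by
      rw [hwA]
      exact mul_ne_zero (fun e => hne (-1) (Or.inr rfl) (by linear_combination e))
        (fun e => hne 1 (Or.inl rfl) (by linear_combination -e))
    have hwK : w ≠ 0 := fun e => hw0 (by rw [e, map_zero])
    obtain ⟨g, hg⟩ := C.frame.nu_surj (Units.mk0 w hwK)
    refine ⟨ν g, ⟨g, ?_, rfl⟩, by rw [hg, Units.val_mk0]⟩
    show φ g = 1
    obtain ⟨g', hg'⟩ := C.exists_norm (2 / w) (div_ne_zero C.frame.two_ne hwK)
    rw [map_div₀, C.two_eq] at hg'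
    set X : E := (χ g' : E)
    set y : E := (1 + A) / ι w with hy
    have hyq : y ^ (p ^ n) = (1 - A) / ι w := by
      rw [hy, div_pow, C.iota_pow, C.frob.add, one_pow, hAq, ← sub_eq_add_neg]
    obtain ⟨x, -, hxv⟩ := C.exists_pt (v := (X, y)) (by
      rw [hyq, hg', hy, ← add_div]; congr 1; ring)
    have hX : X ≠ 0 := (χ g').ne_zero
    have hy0 := C.snd_ne_zero hxv (C.ne_zero_of_fst hc hci hu hX)
    have hr : (X / y) ^ (p ^ n + 1) = 2 := by
      rw [div_pow, hg', pow_succ, hyq, hy, hwA]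
      have h1 : 1 + A ≠ 0 := fun e => hw0 (by rw [hwA, e, zero_mul])
      have h1' : 1 - A ≠ 0 := fun e => hw0 (by rw [hwA, e, mul_zero])
      field_simp
    obtain ⟨X', hs, -, -⟩ := C.inv_snd hc hci hu hxv (C.ne_zero_of_fst hc hci hu hX)
    have e1 : X' = X / y := by
      have := C.phase hc hci hu hxv hX hs 1 (by rw [map_one, Units.val_one, map_one, one_mul]; exact hr)
      rwa [map_one, map_one, Units.val_one, one_pow, mul_one, mul_one] at this
    rw [e1] at hs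
    have hback : raw π (((h₀ : G) * t) • ((h₀ : G) * t) • x • b) = some (X, y) := by
      rw [smul_smul, C.s_sq hc hci hu, one_smul, hxv]
    have hXr : X / y / (1 / y) = X := by field_simp
    have e2 := C.phase hc hci hu hs (div_ne_zero hX hy0) hback g (by
      show ι (ν g : K) * (X / y / (1 / y)) ^ (p ^ n + 1) = 2
      rw [hXr, hg, Units.val_mk0, hg', mul_div_cancel₀ _ hw0])
    simp only at e2
    rw [hXr, ← hφ g] at e2
    exact Units.ext (mul_left_cancel₀ hX ((mul_one X).trans e2)).symm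
  have hQ : Q = ⊤ := by
    apply Subgroup.eq_top_of_card_eq
    choose g hgQ hg using hmem
    have hD0 : D ≠ 0 := inv_ne_zero (ν h₀).ne_zero
    let F : K → Q := fun a₀ => ⟨g a₀, hgQ a₀⟩
    haveI : Fintype Q := Fintype.ofFinite _
    have hfib : ∀ y ∈ (Finset.univ.image F), (Finset.univ.filter fun a₀ => F a₀ = y).card ≤ 2 := by
      intro y hy
      obtain ⟨a₀, -, rfl⟩ := Finset.mem_image.1 hy
      refine (Finset.card_le_card (t := {a₀, -a₀}) fun z hz => ?_).trans Finset.card_le_two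
      have e := congrArg (fun q : Q => ((q : Kˣ) : K)) (Finset.mem_filter.1 hz).2
      simp only [F, hg] at e
      have e' : z * z = a₀ * a₀ := mul_left_cancel₀ hD0 (by linear_combination -e)
      rcases mul_self_eq_mul_self_iff.1 e' with h | h <;> simp [h]
    have hle := Finset.card_le_mul_card_image Finset.univ 2 hfib
    rw [Finset.card_univ] at hle
    have h3 : Fintype.card K ≤ 2 * Nat.card Q := hle.trans (Nat.mul_le_mul_left 2 (by
      rw [Nat.card_eq_fintype_card]; exact Finset.card_le_univ _))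
    have hU : Nat.card Kˣ = Fintype.card K - 1 := by rw [Nat.card_eq_fintype_card, Fintype.card_units]
    obtain ⟨e, he⟩ := Subgroup.card_subgroup_dvd_card Q
    have : 0 < Nat.card Kˣ := Nat.card_pos
    rcases e with _ | _ | e
    · omega
    · omega
    · have : 2 * Nat.card Q ≤ Nat.card Q * (e + 1 + 1) := by
        rw [mul_comm]; exact Nat.mul_le_mul_left _ (by omega)
      omega
  have hk : ν k ∈ Q := hQ ▸ Subgroup.mem_top _
  obtain ⟨k', hk', hkk⟩ := hk
  have hw : ((k * k'⁻¹ : ↥(Hsub G a b)) : G) ∈ W :=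
    (C.frame.nu_ker _).1 (by rw [map_mul, map_inv, hkk, mul_inv_cancel])
  rw [← hφ k, show φ k = φ (k * k'⁻¹) * φ k' by rw [← map_mul, inv_mul_cancel_right], Units.val_mul, hφ,
    C.phase_W hc hci hu hw, one_mul, show φ k' = 1 from hk', Units.val_one]

theorem has_inversion : HasInversion G a b π := by
  refine ⟨(h₀ : G) * t, C.s_swaps hc hci hu, fun c v hv hv0 => ?_⟩
  obtain ⟨X', hs, hs0, hs1⟩ := C.inv_snd hc hci hu hv hv0
  rw [hs, invRaw]
  refine congrArg some (Prod.ext ?_ rfl)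
  show X' = v.1 / v.2
  by_cases hX : v.1 = 0
  · rw [hs0 hX, hX, zero_div]
  · have h2 : (2 : E) ≠ 0 := C.frob.two
    set N : E := (v.1 / v.2) ^ (p ^ n + 1)
    have hN0 : N ≠ 0 := pow_ne_zero _ (div_ne_zero hX (C.snd_ne_zero hv hv0))
    have hNq : N ^ (p ^ n) = N := by
      rw [show N = (v.1 / v.2) ^ (p ^ n) * (v.1 / v.2) from pow_succ _ _, mul_pow, C.frob.twice, mul_comm]
    obtain ⟨l, hl⟩ := (C.fixed N).1 hNq
    have hl0 : l ≠ 0 := fun e => hN0 (by rw [← hl, e, map_zero])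
    obtain ⟨k, hk⟩ := C.exists_norm (2 / l) (div_ne_zero C.frame.two_ne hl0)
    have := C.phase hc hci hu hv hX hs k (by
      rw [C.nu, hk, map_div₀, C.two_eq, hl, div_mul_cancel₀ _ hN0])
    rw [C.phase_eq_one hc hci hu k, mul_one] at this
    exact this

end Ctx

end CfsgLib.Recog.OddUnitary
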