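import Cfsg.Agent.Lib.Recog.OddUnitary.LocalIndex

/-!
The local structure at a pair of points: `Z = C_U(j)` of order `q`, central of exponent `p`, and the
subgroup `W` of the torus.
-/

set_option autoImplicit false
set_option linter.unusedSectionVars false

namespace CfsgLib.Recog.OddUnitary

open MulAction

universe u v

namespace Loc

variable {G : Type u} {Ω : Type v} [Group G] [MulAction G Ω] {a b : Ω} {U : Subgroup G} {p n : ℕ}

variable (S : Setup G a b U p n)
include S

/-- A nontrivial element of the kernel centralises only `Z` in `U`. -/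
theorem cen_W {j : G} (hjH : j ∈ Hsub G a b) (hj : orderOf j = 2)
    (hZ : Nat.card (Zs U j) = p ^ n) {w : ↥(Hsub G a b)} (hw : w ∈ Wh a b U j) (hw1 : w ≠ 1) :
    U ⊓ Subgroup.centralizer ({(w : G)} : Set G) = Zs U j := by
  classical
  have := S.finite
  have := S.finite_pts
  have := Fintype.ofFinite G
  have := Fintype.ofFinite Ω
  have := Fact.mk S.prime
  set C := U ⊓ Subgroup.centralizer ({(w : G)} : Set G) with hC
  have hle : Zs U j ≤ C := fun z hz => Subgroup.mem_inf.2
    ⟨hz.1, Subgroup.mem_centralizer_singleton_iff.2 ((mem_Wh S w).1 hw z hz).eq.symm⟩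
  obtain ⟨e, he⟩ := IsPGroup.iff_card.1 ((pGroup_U S).to_le (inf_le_left : C ≤ U))
  set T := Fx Ω (w : G)
  have hT : ∀ i : G, orderOf i = 2 → ∀ c ∈ T, ∀ d ∈ T, c ≠ d → i • c = c → i • d = d →
      Fx Ω i ⊆ T := by
    intro i hi c hc d hd hcd hic hid x hx
    simp only [T, Finset.mem_filter, Finset.mem_univ, true_and] at hc hd hx ⊢
    obtain ⟨g, hgc, hgd⟩ := exists_map S S.ne hcd
    have hi' := invol_eq S hjH hj hgc hgd hi hic hid
    have hgw : g⁻¹ * (w : G) * g ∈ Hsub G a b := mem_H.2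
      ⟨by rw [mul_smul, mul_smul, hgc, hc, inv_smul_eq_iff.2 hgc.symm],
        by rw [mul_smul, mul_smul, hgd, hd, inv_smul_eq_iff.2 hgd.symm]⟩
    have hgW : (⟨_, hgw⟩ : ↥(Hsub G a b)) ∈ Wh a b U j := by
      refine mem_Wh_of_pow S _ (Subtype.ext ?_)
      rw [SubmonoidClass.coe_pow, OneMemClass.coe_one]
      show (g⁻¹ * (w : G) * g) ^ _ = 1
      have h1 : (w : G) ^ Nat.card (Wh a b U j) = 1 := by
        rw [← SubmonoidClass.coe_pow]
        exact congrArg Subtype.val (congrArg Subtype.val (pow_card_eq_one' (x := (⟨w, hw⟩ : Wh a b U j))))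
      have h2 : (g⁻¹ * (w : G) * g⁻¹⁻¹) ^ Nat.card (Wh a b U j) = 1 := by
        rw [conj_pow, h1]; group
      rwa [inv_inv] at h2
    have hfix : j • g⁻¹ • x = g⁻¹ • x := by
      rw [hi', mul_smul, mul_smul] at hx
      exact eq_inv_smul_iff.2 hx
    have h3 := fix_of_mem_Wh S hjH _ hgW hfix
    simp only [mul_smul, smul_inv_smul] at h3
    exact smul_left_cancel g⁻¹ h3
  obtain ⟨s, -, -, hs⟩ := dvd_card_offDiag S hjH hj T hT
  have hTc : T.card = p ^ e + 1 := by
    rw [← he, ← card_fix S w.2, Nat.card_eq_fintype_card, Fintype.card_subtype]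
  rw [show Nat.card ↥(U ⊓ Subgroup.centralizer ({j} : Set G)) = p ^ n from hZ, hTc,
    ← Nat.sub_one_mul, Nat.add_sub_cancel] at hs
  have hq3 := q_ge S
  have hdvd : p ^ n + 1 ∣ p ^ e * (p ^ e + 1) := ⟨s.card * p ^ n, by linear_combination hs⟩
  have hp3 : 3 ≤ p := by
    have := S.prime.two_le
    have := S.odd
    omega
  have hcop : Nat.Coprime (p ^ n + 1) (p ^ e) := by
    refine Nat.Coprime.pow_right _ (S.prime.coprime_iff_not_dvd.2 fun hd => ?_).symm
    exact S.prime.not_dvd_one ((Nat.dvd_add_right (dvd_pow_self p (by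
      have := S.pos
      omega))).1 hd)
  obtain ⟨k, hk⟩ := odd_multiple hp3 S.pos e (hcop.dvd_of_dvd_mul_left hdvd)
  have hup : p ^ e ≤ p ^ (3 * n) := by
    rw [← he, mul_comm 3 n, pow_mul, ← card_U S]
    exact Nat.card_le_card_of_injective _ (Subgroup.inclusion_injective (inf_le_left : C ≤ U))
  have hek : e ≤ 3 * n := (Nat.pow_le_pow_iff_right (by omega)).1 hup
  have hk0 : k = 0 := by
    by_contra hk0
    have h3 := Nat.mul_le_mul_left n (show 3 ≤ 2 * k + 1 by omega)
    have hCU : C = U := by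
      refine Subgroup.eq_of_le_of_card_ge inf_le_left ?_
      rw [he, card_U S, ← pow_mul]
      exact Nat.pow_le_pow_right (by omega) (by omega)
    refine hw1 (Subtype.ext (eq_one_of_fix_all S (smul_eq_of_commute S w.2 fun u hu => ?_)))
    exact (Subgroup.mem_centralizer_singleton_iff.1 (hCU ▸ hu : u ∈ C).2).symm
  refine (Subgroup.eq_of_le_of_card_ge hle ?_).symm
  rw [he, hZ, hk, hk0]
  norm_num

theorem local_exists : ∃ (j : G) (Z W : Subgroup G), LocalData G a b U p n j Z W := by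
  classical
  have := S.finite
  have := Fact.mk S.prime
  obtain ⟨j, t0, hjH, ht0, hj, htt, hZ, hI, hIdvd, hcom, hsemi, hdiv⟩ := key S
  have hidx := index_eq S hjH ht0 hj hZ hI hIdvd hcom hdiv
  set q := p ^ n with hq
  have hq3 : 3 ≤ q := q_ge S
  set Z := Zs U j with hZdef
  set Wq := Wh a b U j with hWdef
  have hHW : Nat.card ↥(Hsub G a b) = (q - 1) * Nat.card Wq := by
    rw [← hidx]; exact Wq.index_mul_card.symm
  have hZne : Z ≠ ⊥ := fun h => by
    have hZ' : Nat.card Z = q := hZ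
    rw [h, Subgroup.card_bot] at hZ'
    omega
  -- every invariant subgroup of `Z` is trivial or everything
  have hirr : ∀ Y : Subgroup G, Y ≤ Z →
      (∀ h : ↥(Hsub G a b), ∀ y ∈ Y, (h : G) * y * (h : G)⁻¹ ∈ Y) → Y ≠ ⊥ → Y = Z := by
    intro Y hY hinv hne
    refine Subgroup.eq_of_le_of_card_ge hY ?_
    have h1 := index_le S hinv hne (K := Wq) fun h hh y hy hc => hsemi h hh y (hY hy) hc
    rw [hidx] at h1
    have h2 : 0 < Nat.card Y := Nat.card_pos
    rw [hZ]
    omega
  -- `Z` is abelian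
  have hab : ∀ z ∈ Z, ∀ z' ∈ Z, Commute z z' := by
    have : Nontrivial Z := (Subgroup.nontrivial_iff_ne_bot Z).2 hZne
    have hnt := ((pGroup_U S).to_le (inf_le_left : Z ≤ U)).center_nontrivial
    set Y := Z ⊓ Subgroup.centralizer (Z : Set G) with hYdef
    have hY : Y = Z := by
      refine hirr Y inf_le_left (fun h y hy => Subgroup.mem_inf.2
        ⟨Zs_conj S hjH h.2 hy.1, Subgroup.mem_centralizer_iff.2 fun z hz => ?_⟩) ?_
      · have h1 := Subgroup.mem_centralizer_iff.1 hy.2 ((h : G)⁻¹ * z * (h : G)⁻¹⁻¹)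
          (Zs_conj S hjH (inv_mem h.2) hz)
        rw [inv_inv] at h1
        calc z * ((h : G) * y * (h : G)⁻¹) = (h : G) * ((h : G)⁻¹ * z * (h : G) * y) * (h : G)⁻¹ := by
              group
          _ = (h : G) * (y * ((h : G)⁻¹ * z * (h : G))) * (h : G)⁻¹ := by rw [h1]
          _ = (h : G) * y * (h : G)⁻¹ * z := by group
      · obtain ⟨c, hc⟩ := exists_ne (1 : Subgroup.center Z)
        intro hbot
        refine hc (Subtype.ext (Subtype.ext (Subgroup.mem_bot.1 (hbot ▸ Subgroup.mem_inf.2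
          ⟨(c : Z).2, Subgroup.mem_centralizer_iff.2 fun z hz => ?_⟩))))
        exact congrArg Subtype.val (Subgroup.mem_center_iff.1 c.2 ⟨z, hz⟩)
    intro z hz z' hz'
    exact (Subgroup.mem_centralizer_iff.1 (hY.symm ▸ hz : z ∈ Y).2 z' hz').symm
  -- exponent `p`
  have hexp : ∀ z ∈ Z, z ^ p = 1 := by
    let Y : Subgroup G :=
      { carrier := {z | z ∈ Z ∧ z ^ p = 1}
        one_mem' := ⟨one_mem Z, one_pow p⟩
        mul_mem' := fun {x y} hx hy =>
          ⟨mul_mem hx.1 hy.1, by rw [(hab x hx.1 y hy.1).mul_pow, hx.2, hy.2, one_mul]⟩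
        inv_mem' := fun {x} hx => ⟨inv_mem hx.1, by rw [inv_pow, hx.2, inv_one]⟩ }
    have hY : Y = Z := by
      refine hirr Y (fun z hz => hz.1) (fun h y hy => ⟨Zs_conj S hjH h.2 hy.1, ?_⟩) ?_
      · rw [conj_pow, hy.2]; group
      · obtain ⟨x, hx⟩ := exists_prime_orderOf_dvd_card' (G := Z) p (by
          rw [hZ, hq]; exact dvd_pow_self p (by have := S.pos; omega))
        intro hbot
        have hxp : (x : G) ^ p = 1 := by
          rw [← SubmonoidClass.coe_pow, ← hx, pow_orderOf_eq_one, OneMemClass.coe_one]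
        have h1 : (x : G) = 1 := Subgroup.mem_bot.1 (hbot ▸ (⟨x.2, hxp⟩ : (x : G) ∈ Y))
        rw [show x = 1 from Subtype.ext h1, orderOf_one] at hx
        exact S.prime.one_lt.ne hx
    intro z hz
    exact (hY.symm ▸ hz : z ∈ Y).2
  -- the inverted part
  have hIdvd' : q - 1 ∣ Nat.card (betaHom S ht0).ker := by
    rw [hidx] at hIdvd
    obtain ⟨k, hk⟩ := hIdvd
    rcases k with _ | _ | _ | k
    · omega
    · exact ⟨2, by omega⟩
    · exact ⟨1, by omega⟩
    · exfalso
      have := Nat.mul_le_mul_left (Nat.card (betaHom S ht0).ker) (show 3 ≤ k + 1 + 1 + 1 by omega)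
      omega
  have hbeta : ∀ h : ↥(Hsub G a b),
      ∃ hb : betaHom S ht0 h ∈ Hsub G a b, (⟨_, hb⟩ : ↥(Hsub G a b)) ∈ Wq := by
    intro h
    have hb : betaHom S ht0 h ∈ Hsub G a b := mul_mem (swap_conj S ht0 h.2) h.2
    refine ⟨hb, mem_Wh_of_pow S _ (Subtype.ext ?_)⟩
    rw [SubmonoidClass.coe_pow, OneMemClass.coe_one]
    show (betaHom S ht0 h) ^ Nat.card Wq = 1
    rw [← map_pow]
    set I := (betaHom S ht0).ker
    have hc : Nat.card (I.map (Hsub G a b).subtype) = Nat.card I := Subgroup.card_subtype _ _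
    have hm := mem_of_pow_card S (K := I.map (Hsub G a b).subtype) (Subgroup.map_subtype_le _)
      (h ^ Nat.card Wq).2 (by
        obtain ⟨k, hk⟩ := hIdvd'
        rw [hc, hk, SubmonoidClass.coe_pow, ← pow_mul,
          show Nat.card Wq * ((q - 1) * k) = Nat.card ↥(Hsub G a b) * k by rw [hHW]; ring, pow_mul,
          ← SubmonoidClass.coe_pow, pow_card_eq_one', OneMemClass.coe_one, one_pow])
    exact (Subgroup.mem_map_iff_mem (Hsub G a b).subtype_injective (x := h ^ Nat.card Wq)).1 hm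
  have hswapinv : ∀ t : G, Swaps t a b → ∀ h ∈ Hsub G a b,
      ∃ hm : t * h * t⁻¹ * h ∈ Hsub G a b, (⟨_, hm⟩ : ↥(Hsub G a b)) ∈ Wq := by
    intro t ht h hh
    have hk : t0⁻¹ * t ∈ Hsub G a b := swap_mul S (swap_inv_mem S ht0) ht
    have e : t * h * t⁻¹ = t0 * h * t0⁻¹ := by
      calc t * h * t⁻¹ = t0 * ((t0⁻¹ * t) * h * (t0⁻¹ * t)⁻¹) * t0⁻¹ := by group
        _ = t0 * h * t0⁻¹ := by rw [(H_comm S hk hh).eq, mul_inv_cancel_right]
    rw [e]
    exact hbeta ⟨h, hh⟩
  have hcen : ∀ w : ↥(Hsub G a b), w ∈ Wq → w ≠ 1 → ∀ u ∈ U, Commute (w : G) u → u ∈ Z := by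
    intro w hw hw1 u hu hc
    have hm : u ∈ U ⊓ Subgroup.centralizer ({(w : G)} : Set G) :=
      ⟨hu, Subgroup.mem_centralizer_singleton_iff.2 hc.eq.symm⟩
    rwa [cen_W S hjH hj hZ hw hw1] at hm
  have hfpf : ∀ h : ↥(Hsub G a b), h ∉ Wq → ∀ u ∈ U, Commute (h : G) u → u = 1 := by
    intro h hh u hu hc
    by_contra hu1
    have ht : Commute t0 (h : G) := swap_comm_u S h.2 hu hu1 hc ht0
    obtain ⟨hb, hbW⟩ := hbeta h
    have h2 : betaHom S ht0 h = ((h * h : ↥(Hsub G a b)) : G) := by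
      show t0 * (h : G) * t0⁻¹ * (h : G) = _
      rw [ht.eq, mul_inv_cancel_right, Subgroup.coe_mul]
    have hhW : h * h ∈ Wq := by
      rwa [show (⟨_, hb⟩ : ↥(Hsub G a b)) = h * h from Subtype.ext h2] at hbW
    by_cases h21 : h * h = 1
    · refine hh ?_
      by_cases h1 : h = 1
      · rw [h1]; exact one_mem _
      · have hhj : (h : G) = j := eq_of_invol S hjH hj h.2 (congrArg Subtype.val h21)
          fun e => h1 (Subtype.ext e)
        rw [show h = (⟨j, hjH⟩ : ↥(Hsub G a b)) from Subtype.ext hhj]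
        exact j_mem_Wh S hjH
    · exact hu1 (hsemi h hh u (hcen _ hhW h21 u hu (by
        rw [Subgroup.coe_mul]; exact hc.mul_left hc)) hc)
  have hd : Nat.gcd 3 (q + 1) * ((q - 1) * Nat.card Wq) = q ^ 2 - 1 := by
    rw [← hHW]; exact S.card_H
  -- `Z` is central
  have hcent : ∀ z ∈ Z, ∀ u ∈ U, Commute z u := by
    set Y := Z ⊓ Subgroup.centralizer (U : Set G) with hYdef
    suffices hY : Y ≠ ⊥ by
      have hinv : ∀ h : ↥(Hsub G a b), ∀ y ∈ Y, (h : G) * y * (h : G)⁻¹ ∈ Y := fun h y hy => by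
        refine Subgroup.mem_inf.2 ⟨Zs_conj S hjH h.2 hy.1, Subgroup.mem_centralizer_iff.2 fun u hu => ?_⟩
        have h1 := Subgroup.mem_centralizer_iff.1 hy.2 ((h : G)⁻¹ * u * (h : G)⁻¹⁻¹)
          (S.conj_mem _ (inv_mem h.2.1) u hu)
        rw [inv_inv] at h1
        calc u * ((h : G) * y * (h : G)⁻¹) = (h : G) * ((h : G)⁻¹ * u * (h : G) * y) * (h : G)⁻¹ := by
              group
          _ = (h : G) * (y * ((h : G)⁻¹ * u * (h : G))) * (h : G)⁻¹ := by rw [h1]
          _ = (h : G) * y * (h : G)⁻¹ * u := by group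
      have hYZ := hirr Y inf_le_left hinv hY
      intro z hz u hu
      exact (Subgroup.mem_centralizer_iff.1 (hYZ.symm ▸ hz : z ∈ Y).2 u hu).symm
    intro hbot
    set C := U ⊓ Subgroup.centralizer (U : Set G) with hCdef
    have hCinv : ∀ h : ↥(Hsub G a b), ∀ y ∈ C, (h : G) * y * (h : G)⁻¹ ∈ C := fun h y hy => by
      refine Subgroup.mem_inf.2 ⟨S.conj_mem _ h.2.1 y hy.1, Subgroup.mem_centralizer_iff.2 fun u hu => ?_⟩
      have h1 := Subgroup.mem_centralizer_iff.1 hy.2 ((h : G)⁻¹ * u * (h : G)⁻¹⁻¹)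
        (S.conj_mem _ (inv_mem h.2.1) u hu)
      rw [inv_inv] at h1
      calc u * ((h : G) * y * (h : G)⁻¹) = (h : G) * ((h : G)⁻¹ * u * (h : G) * y) * (h : G)⁻¹ := by
            group
        _ = (h : G) * (y * ((h : G)⁻¹ * u * (h : G))) * (h : G)⁻¹ := by rw [h1]
        _ = (h : G) * y * (h : G)⁻¹ * u := by group
    have hdisj : ∀ x, x ∈ Z → x ∈ C → x = 1 := fun x hxZ hxC =>
      Subgroup.mem_bot.1 (hbot ▸ Subgroup.mem_inf.2 ⟨hxZ, hxC.2⟩)
    have hdvd : (⊥ : Subgroup ↥(Hsub G a b)).index ∣ Nat.card C - 1 := by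
      refine index_dvd S hCinv (fun h hh y _ => ?_) fun h hh y hy hc => ?_
      · rw [Subgroup.mem_bot.1 hh]; exact Commute.one_left y
      · by_cases hW : h ∈ Wq
        · exact hdisj y (hcen h hW (fun e => hh (Subgroup.mem_bot.2 e)) y hy.1 hc) hy
        · exact hfpf h hW y hy.1 hc
    rw [Subgroup.index_bot] at hdvd
    have : Nontrivial U := (Subgroup.nontrivial_iff_ne_bot U).2 fun h => hZne (le_bot_iff.1 (h ▸ inf_le_left))
    have hnt := (pGroup_U S).center_nontrivial
    obtain ⟨c, hc⟩ := exists_ne (1 : Subgroup.center U)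
    have hcC : ((c : U) : G) ∈ C := Subgroup.mem_inf.2 ⟨(c : U).2,
      Subgroup.mem_centralizer_iff.2 fun z hz => congrArg Subtype.val (Subgroup.mem_center_iff.1 c.2 ⟨z, hz⟩)⟩
    obtain ⟨e, he⟩ := IsPGroup.iff_card.1 ((pGroup_U S).to_le (inf_le_left : C ≤ U))
    have he1 : 1 ≤ e := by
      by_contra h
      obtain rfl : e = 0 := by omega
      rw [pow_zero, Subgroup.card_eq_one] at he
      have hcC' : ((c : U) : G) ∈ (⊥ : Subgroup G) := le_of_eq he hcC
      exact hc (Subtype.ext (Subtype.ext (Subgroup.mem_bot.1 hcC')))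
    let f : Z × C → U := fun x => ⟨(x.1 : G) * x.2, mul_mem x.1.2.1 x.2.2.1⟩
    have hf : Function.Injective f := by
      rintro ⟨z, c⟩ ⟨z', c'⟩ h
      have h' : (z : G) * c = z' * c' := congrArg Subtype.val h
      have h1 : (z' : G)⁻¹ * z = c' * (c : G)⁻¹ := by
        rw [inv_mul_eq_iff_eq_mul, ← mul_assoc, ← h', mul_inv_cancel_right]
      have h2 := hdisj _ (mul_mem (inv_mem z'.2) z.2) (h1 ▸ mul_mem c'.2 (inv_mem c.2))
      rw [inv_mul_eq_one] at h2
      rw [← h2] at h'
      exact Prod.ext (Subtype.ext h2.symm) (Subtype.ext (mul_left_cancel h'))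
    have hcard := Nat.card_le_card_of_injective f hf
    rw [Nat.card_prod, hZ, he, card_U S, hq, ← pow_add, ← pow_mul] at hcard
    have hp3 : 3 ≤ p := by
      have := S.prime.two_le
      have := S.odd
      omega
    have hen : n + e ≤ n * 3 := (Nat.pow_le_pow_iff_right (by omega)).1 hcard
    have he2 : e = n * 2 := by
      by_contra hne
      have hH := S.card_H
      have h1 : p * p ^ e ≤ (p ^ n) ^ 2 := by
        rw [← pow_mul]
        calc p * p ^ e = p ^ (e + 1) := by ring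
          _ ≤ p ^ (n * 2) := Nat.pow_le_pow_right (by omega) (by omega)
      have h2 : Nat.card ↥(Hsub G a b) ≤ p ^ e - 1 := by
        rw [← he]
        refine Nat.le_of_dvd ?_ hdvd
        rw [he]
        have := Nat.one_lt_pow (by omega : e ≠ 0) (by omega : 1 < p)
        omega
      have hpe : 1 ≤ p ^ e := Nat.one_le_pow _ _ (by omega)
      rcases (Nat.dvd_prime Nat.prime_three).1 (Nat.gcd_dvd_left 3 (p ^ n + 1)) with hg | hg <;>
        rw [hg] at hH
      · generalize p ^ e = P at h1 h2 hpe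
        have := Nat.mul_le_mul_right P hp3
        omega
      · have hp5 : 5 ≤ p := by
          by_contra h
          obtain rfl : p = 3 := by
            have := S.prime.eq_one_or_self_of_dvd 2
            by_contra h'
            have : p = 4 := by omega
            subst this
            exact absurd S.prime (by norm_num)
          have h3 : 3 ∣ 3 ^ n + 1 := by
            have h3' := Nat.gcd_dvd_right 3 (3 ^ n + 1)
            rwa [hg] at h3'
          exact absurd ((Nat.dvd_add_right (dvd_pow_self 3 (by have := S.pos; omega))).1 h3) (by norm_num)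
        generalize p ^ e = P at h1 h2 hpe
        have := Nat.mul_le_mul_right P hp5
        omega
    have hbij : Function.Bijective f := hf.bijective_of_nat_card_le (by
      rw [Nat.card_prod, hZ, he, card_U S, hq, he2, ← pow_add, ← pow_mul]
      exact le_of_eq (congrArg (p ^ ·) (by ring)))
    refine hZne ((Subgroup.eq_bot_iff_forall Z).2 fun z hz => hdisj z hz
      (Subgroup.mem_inf.2 ⟨hz.1, Subgroup.mem_centralizer_iff.2 fun u hu => ?_⟩))
    obtain ⟨⟨z', c'⟩, hzc⟩ := hbij.2 ⟨u, hu⟩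
    have hu' : u = (z' : G) * c' := (congrArg Subtype.val hzc).symm
    have h1 : Commute z (c' : G) := Subgroup.mem_centralizer_iff.1 c'.2.2 z hz.1
    rw [hu']
    exact ((hab z hz _ z'.2).mul_right h1).eq.symm
  refine ⟨j, Z, Hsub G a b ⊓ Subgroup.centralizer (Z : Set G),
    { toSetup := S
      j_mem := hjH
      j_ord := hj
      Z_eq := rfl
      card_Z := hZ
      Z_central := fun z hz u hu => (hcent z hz u hu).eq
      Z_exp := hexp
      W_le := inf_le_left
      j_W := Subgroup.mem_inf.2 ⟨hjH, j_mem_Wh S hjH⟩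
      card_W := ?_
      W_cent := fun w hw z hz => (Subgroup.mem_centralizer_iff.1 hw.2 z hz).symm
      cen_W := fun w hw hw1 u hu hc =>
        hcen ⟨w, hw.1⟩ hw.2 (fun e => hw1 (congrArg Subtype.val e)) u hu hc
      fpf := fun h hh hW u hu hc => hfpf ⟨h, hh⟩ (fun e => hW ⟨hh, e⟩) u hu hc
      swap_W := fun t ht w hw => by
        obtain ⟨z, hz, hz1⟩ := (Z.bot_or_exists_ne_one).resolve_left hZne
        exact (swap_comm_u S hw.1 hz.1 hz1 (Subgroup.mem_centralizer_iff.1 hw.2 z hz).symm ht).eq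
      swap_inv := fun t ht h hh => by
        obtain ⟨hm, hW⟩ := hswapinv t ht h hh
        exact ⟨hm, hW⟩ }⟩
  have hc : Nat.card ↥(Hsub G a b ⊓ Subgroup.centralizer (Z : Set G)) = Nat.card Wq := by
    rw [← Subgroup.card_subtype (Hsub G a b) Wq, hWdef, Subgroup.subgroupOf_map_subtype, inf_comm]
  rw [hc]
  refine Nat.eq_of_mul_eq_mul_left (show 0 < q - 1 by omega) ?_
  rw [mul_left_comm, hd, mul_comm, ← Nat.sq_sub_sq, one_pow]

end Loc

theorem localExists : LocalExists.{u, v} := fun _ _ _ _ _ _ _ _ _ S => Loc.local_exists S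

end CfsgLib.Recog.OddUnitary
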