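import Cfsg.Agent.Lib.Recog.OddUnitary.Torus

/-!
`U` is not abelian when `q ≠ 5`.
-/

set_option autoImplicit false
set_option linter.unusedSectionVars false
set_option linter.style.haveILetI false

namespace CfsgLib.Recog.OddUnitary

open MulAction

universe u v

variable {G : Type u} {Ω : Type v} [Group G] [MulAction G Ω] {a b : Ω} {U : Subgroup G} {p n : ℕ} {j : G}
  {Z W : Subgroup G} {K E : Type} [Field K] [Field E] {ν : ↥(Hsub G a b) →* Kˣ} {ζ : G → K}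
  {Φ : ↥(Hsub G a b) →* Eˣ} {ξ : G → E} {t : G}

namespace Frame

variable (f : Frame G a b U p n j Z W K E ν ζ Φ ξ)
include f

theorem nonabelian_ne_five (h1 : f.OneInvol) (h2 : f.Blocks) (ht : f.Inv t) (hq : p ^ n ≠ 5) :
    ∃ x ∈ U, ∃ y ∈ U, x * y ≠ y * x := by
  by_contra! hab
  have hjj := f.j_sq
  -- elements inverted by `j`
  have huniq : ∀ {x y : G}, x ∈ U → y ∈ U → j * x * j⁻¹ = x⁻¹ → j * y * j⁻¹ = y⁻¹ → ξ x = ξ y → x = y := by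
    intro x y hx hy ix iy e
    obtain ⟨z, hz, rfl⟩ := f.xi_eq hx hy e
    have h3 : j * (z * x) * j⁻¹ = z * x⁻¹ := by
      rw [← mul_assoc, ← f.Z_comm_j hz, mul_assoc z, mul_assoc, ix]
    rw [h3, mul_inv_rev, ← f.Z_central z⁻¹ (inv_mem hz) x⁻¹ (inv_mem hx)] at iy
    have h4 : z = z⁻¹ := mul_right_cancel iy
    have h5 : z ^ 2 = 1 := by rw [pow_two]; nth_rewrite 1 [h4]; exact inv_mul_cancel z
    obtain ⟨k, hk⟩ := f.prime.odd_of_ne_two f.odd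
    have h6 := f.Z_exp z hz
    rw [hk, pow_succ, pow_mul, h5, one_pow, one_mul] at h6
    rw [h6, one_mul]
  have hconj : ∀ (k : ↥(Hsub G a b)) {x : G}, j * x * j⁻¹ = x⁻¹ →
      j * ((k : G) * x * (k : G)⁻¹) * j⁻¹ = ((k : G) * x * (k : G)⁻¹)⁻¹ := by
    intro k x ix
    have hc : j * (k : G) = k * j := f.comm_H f.j_mem k.2
    calc j * ((k : G) * x * (k : G)⁻¹) * j⁻¹ = (j * k) * x * (j * k)⁻¹ := by group
      _ = (k : G) * (j * x * j⁻¹) * (k : G)⁻¹ := by rw [hc]; group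
      _ = _ := by rw [ix]; group
  obtain ⟨u, hu, hu1⟩ := f.xi_surj 1
  set x₀ := u * (j * u * j⁻¹)⁻¹ with hx₀
  have hju : j * u * j⁻¹ ∈ U := f.conj_U ⟨j, f.j_mem⟩ hu
  have hx₀U : x₀ ∈ U := mul_mem hu (inv_mem hju)
  have ix₀ : j * x₀ * j⁻¹ = x₀⁻¹ := by
    calc j * x₀ * j⁻¹ = j * u * j⁻¹ * ((j * j) * u * (j * j)⁻¹)⁻¹ := by rw [hx₀]; group
      _ = _ := by rw [hjj, hx₀]; group
  have hξ : ξ x₀ = 2 := by
    rw [hx₀, f.xi_add _ hu _ (inv_mem hju), f.xi_inv hju]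
    rw [show ξ (j * u * j⁻¹) = -1 by
      have h := f.xi_scale ⟨j, f.j_mem⟩ u hu
      rw [f.phi_j, hu1, mul_one] at h
      exact h, hu1]
    norm_num
  have hxZ : x₀ ∉ Z := fun hz => f.frobE.two (hξ ▸ (f.xi_zero _ hx₀U).2 hz)
  obtain ⟨m₀, h₀, l⟩ := f.exists_lbl h1 ht ((f.moved_iff hx₀U).2 hxZ)
  set D : K := (ν h₀ : K)
  have hn : D - m₀ * m₀ ≠ 0 := f.lbl_n_ne h1 ht l
  -- the label of the translated point
  have key : ∀ w : ↥(Hsub G a b), (w : G) ∈ W → w ≠ 1 → ∃ μ, (Φ μ : E) = (Φ w : E) - 1 ∧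
      f.Lbl t ((x₀⁻¹ * ((w : G) * x₀ * (w : G)⁻¹)) • b) ((ν μ : K) * m₀) (f.Lam ht μ * h₀) := by
    intro w hw hne
    obtain ⟨μ, hμ⟩ := f.exists_sub_one hw hne
    refine ⟨μ, hμ, ?_⟩
    have hy : (w : G) * x₀ * (w : G)⁻¹ ∈ U := f.conj_U w hx₀U
    have e : x₀⁻¹ * ((w : G) * x₀ * (w : G)⁻¹) = (μ : G) * x₀ * (μ : G)⁻¹ := by
      refine huniq (mul_mem (inv_mem hx₀U) hy) (f.conj_U μ hx₀U) ?_ (hconj μ ix₀) ?_
      · calc j * (x₀⁻¹ * ((w : G) * x₀ * (w : G)⁻¹)) * j⁻¹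
            = (j * x₀ * j⁻¹)⁻¹ * (j * ((w : G) * x₀ * (w : G)⁻¹) * j⁻¹) := by group
          _ = x₀ * ((w : G) * x₀ * (w : G)⁻¹)⁻¹ := by rw [ix₀, hconj w ix₀, inv_inv]
          _ = _ := by rw [mul_inv_rev x₀⁻¹, inv_inv, hab _ hx₀U _ (inv_mem hy)]
      · rw [f.xi_add _ (inv_mem hx₀U) _ hy, f.xi_inv hx₀U, f.xi_scale w x₀ hx₀U, f.xi_scale μ x₀ hx₀U, hμ]
        ring
    rw [e]
    exact f.lbl_conj h1 ht l μ
  -- so all these norms agree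
  have hratio : ∀ w w' : ↥(Hsub G a b), (w : G) ∈ W → (w' : G) ∈ W → w ≠ 1 → w' ≠ 1 →
      ∀ μ μ', (Φ μ : E) = (Φ w : E) - 1 → (Φ μ' : E) = (Φ w' : E) - 1 → (ν μ : K) = ν μ' := by
    intro w w' hw hw' hne hne' μ μ' hμ hμ'
    obtain ⟨μ₁, e₁, L⟩ := key w hw hne
    obtain ⟨μ₂, e₂, L'⟩ := key w' hw' hne'
    obtain rfl : μ₁ = μ := f.phi_inj (Units.ext (e₁.trans hμ.symm))
    obtain rfl : μ₂ = μ' := f.phi_inj (Units.ext (e₂.trans hμ'.symm))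
    have hl : ∀ w : ↥(Hsub G a b), (w : G) ∈ W → f.Lbl t (((w : G) * x₀ * (w : G)⁻¹) • b) m₀ h₀ := fun w hw => by
      rw [f.H_smul_pt]; exact f.lbl_W h1 ht l hw
    have hc := f.block_translate h1 ht l (hl w hw) (hl w' hw') L L'
    have hN : ∀ μ : ↥(Hsub G a b), (ν (f.Lam ht μ * h₀) : K) - (ν μ : K) * m₀ * ((ν μ : K) * m₀) =
        (ν μ : K) * (ν μ : K) * (D - m₀ * m₀) := fun μ => by
      rw [map_mul, f.nu_Lam ht, Units.val_mul, Units.val_mul]; ring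
    have hne2 : ∀ μ : ↥(Hsub G a b), (ν μ : K) * (ν μ : K) * (D - m₀ * m₀) ≠ 0 := fun μ =>
      mul_ne_zero (mul_ne_zero (ν μ).ne_zero (ν μ).ne_zero) hn
    rw [hN, hN, ← f.lam_nu ht μ₁, ← f.lam_nu ht μ₂] at hc
    have h := f.ratio_eq h1 ht h2 (ν μ₁).ne_zero (ν μ₂).ne_zero (hne2 μ₁) (hne2 μ₂) hc
    have h' := hne2 μ₁
    have h'' := hne2 μ₂
    rw [div_eq_div_iff h' h''] at h
    have e3 : ((ν μ₁ : K) * (ν μ₂ : K) * (D - m₀ * m₀)) * ((ν μ₂ : K) - (ν μ₁ : K)) = 0 := by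
      linear_combination h
    exact (sub_eq_zero.1 ((mul_eq_zero.1 e3).resolve_left
      (mul_ne_zero (mul_ne_zero (ν μ₁).ne_zero (ν μ₂).ne_zero) hn))).symm
  obtain ⟨w, hw, hne, hwj⟩ := f.exists_W hq
  obtain ⟨μ, hμ⟩ := f.exists_sub_one hw hne
  set J : ↥(Hsub G a b) := ⟨j, f.j_mem⟩
  have hJ : J ≠ 1 := fun e => f.j_ne (congrArg Subtype.val e)
  obtain ⟨μ', hμ'⟩ := f.exists_sub_one (w := J) f.j_W hJ
  have hν := hratio w J hw f.j_W hne hJ μ μ' hμ hμ'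
  have hk : ((μ * μ'⁻¹ : ↥(Hsub G a b)) : G) ∈ W :=
    (f.nu_ker _).1 (by rw [map_mul, map_inv, Units.ext hν, mul_inv_cancel])
  have hpow := (f.phi_W _).2 hk
  have e4 : (Φ μ : E) = (Φ (μ * μ'⁻¹) : E) * (Φ μ' : E) := by
    rw [← Units.val_mul, ← map_mul, inv_mul_cancel_right]
  have e5 : (Φ μ : E) ^ (p ^ n + 1) = (Φ μ' : E) ^ (p ^ n + 1) := by rw [e4, mul_pow, hpow, one_mul]
  rw [hμ, hμ', f.phi_j, pow_succ, pow_succ, f.frobE.sub, f.frobE.sub, one_pow, f.frobE.odd.neg_pow, one_pow] at e5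
  exact hwj (f.eq_j_of_trace hw (by linear_combination -e5 + f.norm_W hw))

end Frame

end CfsgLib.Recog.OddUnitary
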