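import Cfsg.Agent.Lib.Recog.OddUnitary.Setup
import Cfsg.Agent.Lib.Recog.OddUnitary.Local
import Cfsg.Agent.Lib.Recog.OddUnitary.Frame
import Cfsg.Agent.Lib.Recog.OddUnitary.Coord
import Cfsg.Agent.Lib.Recog.OddUnitary.Model
import Cfsg.Agent.Lib.Recog.OddUnitary.Nonabelian
import Cfsg.Agent.Lib.Recog.OddUnitary.Center
import Cfsg.Agent.Lib.Recog.OddUnitary.Inversion

/-!
The pieces put together, the case `q = 5` being a hypothesis.
-/

set_option autoImplicit false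
set_option linter.style.haveILetI false

namespace CfsgLib.Recog.OddUnitary

open MulAction

universe u v

/-- The case `q = 5` of the non-commutativity of `U`. -/
def NonabelianFive : Prop :=
  ∀ (G : Type u) (Ω : Type v) [Group G] [MulAction G Ω] (a b : Ω) (U : Subgroup G) (p n : ℕ) (j : G)
    (Z W : Subgroup G) (K E : Type) [Field K] [Field E] (ν : ↥(Hsub G a b) →* Kˣ) (ζ : G → K)
    (Φ : ↥(Hsub G a b) →* Eˣ) (ξ : G → E) (f : Frame G a b U p n j Z W K E ν ζ Φ ξ) (t : G),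
    f.OneInvol → f.Blocks → f.Inv t → p ^ n = 5 → ∃ x ∈ U, ∃ y ∈ U, x * y ≠ y * x

/-- The case `q = 5` of centring. -/
def CentredFive : Prop :=
  ∀ (G : Type u) (Ω : Type v) [Group G] [MulAction G Ω] (a b : Ω) (U : Subgroup G) (p n : ℕ) (j : G)
    (Z W : Subgroup G) (K E : Type) [Field K] [Field E] (π : Ω ≃ Option (Uni E (p ^ n)))
    (χ : ↥(Hsub G a b) →* Eˣ) (ι : K →+* E) (δ : E) (ν : ↥(Hsub G a b) →* Kˣ) (ζ : G → K) (ξ : G → E) (t : G)
    (C : Ctx G a b U p n j Z W K E π χ ι δ ν ζ ξ t), p ^ n = 5 →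
    Centred C.frame π ι δ t ∧ Circles C.frame π t

theorem uNonabelian_of_five (hA : NonabelianFive.{u, v}) : UNonabelian.{u, v} := by
  intro G Ω _ _ a b U p n j Z W K E _ _ ν ζ Φ ξ f
  obtain ⟨-, -, -, hsw, hone⟩ := setupFacts G Ω a b U p n f.toSetup
  obtain ⟨t, ht⟩ := f.exists_inv hsw
  have hB : f.Blocks := blockCard G Ω a b U p n j Z W f.toLocalData
  by_cases hq : p ^ n = 5
  · exact hA G Ω a b U p n j Z W K E ν ζ Φ ξ f t hone hB ht hq
  · exact f.nonabelian_ne_five hone hB ht hq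

theorem inversionExists_of_five (hC : CentredFive.{u, v}) : InversionExists.{u, v} := by
  intro G Ω _ _ a b U p n j Z W E _ π χ c
  obtain ⟨K, _, _, ι, δ, ν, ζ, ξ, f, hfix, ⟨hδ0, hδ⟩, hν, hζ, hξ⟩ := c.exists_frame
  obtain ⟨-, -, -, hsw, hone⟩ := setupFacts G Ω a b U p n f.toSetup
  obtain ⟨t, ht⟩ := f.exists_inv hsw
  have C : Ctx G a b U p n j Z W K E π χ ι δ ν ζ ξ t :=
    ⟨c, f, hfix, hδ0, hδ, hν, hζ, hξ, hone, blockCard G Ω a b U p n j Z W f.toLocalData, ht⟩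
  obtain ⟨hc, hci⟩ : Centred C.frame π ι δ t ∧ Circles C.frame π t := by
    by_cases hq : p ^ n = 5
    · exact hC G Ω a b U p n j Z W K E π χ ι δ ν ζ ξ t C hq
    · exact ⟨C.centred hq, C.circles hq⟩
  obtain ⟨h₀, hu⟩ := C.exists_unit hc hci
  exact C.has_inversion hc hci hu

/-- The recognition of `PSU(3,q)`. -/
theorem recognition_of_five (hA : NonabelianFive.{u, u}) (hC : CentredFive.{u, u})
    {G : Type u} [Group G] [Finite G] [IsSimpleGroup G] (P : Cfsg.BNPair G) (h1 : P.rank = 1) {p n : ℕ}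
    (hp : p.Prime) (hp2 : p ≠ 2) (hn : 1 ≤ n) (U : Subgroup G) (hUB : U ≤ P.B)
    (hUn : ∀ b ∈ P.B, ∀ u ∈ U, b * u * b⁻¹ ∈ U) (hsplit : U ⊔ (P.B ⊓ P.N) = P.B)
    (hdisj : U ⊓ (P.B ⊓ P.N) = ⊥) (hind : P.B.index = p ^ (3 * n) + 1) (hU : Nat.card U = p ^ (3 * n))
    (hHc : IsCyclic ↥(P.B ⊓ P.N))
    (hH : Nat.gcd 3 (p ^ n + 1) * Nat.card ↥(P.B ⊓ P.N) = p ^ (2 * n) - 1) :
    ∃ (F : Type) (_ : Field F) (_ : Fintype F), Fintype.card F = (p ^ n) ^ 2 ∧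
      Nonempty (G ≃* Cfsg.PSU 3 F (p ^ n)) := by
  obtain ⟨a, b, S⟩ := setupExists G P h1 p n hp hp2 hn U hUB hUn hsplit hdisj hind hU hHc hH
  obtain ⟨j, Z, W, L⟩ := localExists G _ a b U p n S
  obtain ⟨K, E₀, _, _, _, _, ν, ζ, Φ, ξ, f⟩ := frameExists G _ a b U p n j Z W L
  obtain ⟨E, _, _, π, χ, c⟩ := coordExists G _ a b U p n j Z W K E₀ ν ζ Φ ξ f
    (uNonabelian_of_five hA G _ a b U p n j Z W K E₀ ν ζ Φ ξ f)
  exact ⟨E, inferInstance, inferInstance, by rw [← Nat.card_eq_fintype_card, c.card_E],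
    modelIso G _ a b U p n j Z W E π χ c (inversionExists_of_five hC G _ a b U p n j Z W E π χ c)⟩

end CfsgLib.Recog.OddUnitary
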