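import Cfsg.Agent.Lib.Recog.OddUnitary.Model

/-!
Unitary coordinates give field coordinates on the centre and on the quotient by it.
-/

set_option autoImplicit false

namespace CfsgLib.Recog.OddUnitary

universe u v

open MulAction

variable {G : Type u} {Ω : Type v} [Group G] [MulAction G Ω] {a b : Ω} {U : Subgroup G} {p n : ℕ}
  {j : G} {Z W : Subgroup G} {E : Type} [Field E] {π : Ω ≃ Option (Uni E (p ^ n))}
  {χ : ↥(Hsub G a b) →* Eˣ}

theorem Coord.exists_frame (c : Coord G a b U p n j Z W E π χ) :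
    ∃ (K : Type) (_ : Field K) (_ : Fintype K) (ι : K →+* E) (δ : E)
      (ν : ↥(Hsub G a b) →* Kˣ) (ζ : G → K) (ξ : G → E),
      Frame G a b U p n j Z W K E ν ζ χ ξ ∧
      (∀ e : E, e ^ (p ^ n) = e ↔ e ∈ Set.range ι) ∧ (δ ≠ 0 ∧ δ ^ (p ^ n) = -δ) ∧
      (∀ h, ι (ν h) = (χ h : E) ^ (p ^ n + 1)) ∧
      (∀ z ∈ Z, raw π (z • b) = some (0, δ * ι (ζ z))) ∧
      (∀ x ∈ U, ∀ w : E × E, raw π (x • b) = some w → ξ x = w.1) := by
  classical
  have := c.finite
  have := c.finite_pts
  have hq1 : 1 < p ^ n := Nat.one_lt_pow (by have := c.pos; omega) c.prime.one_lt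
  haveI : Finite E := Nat.finite_of_card_ne_zero (by rw [c.card_E]; positivity)
  haveI : Fintype E := Fintype.ofFinite E
  have F : Model.Frob E (p ^ n) := Model.frob_of_card c.prime c.odd c.pos
    (by rw [← Nat.card_eq_fintype_card, c.card_E])
  let S : Subfield E :=
    { carrier := {e | e ^ (p ^ n) = e}
      zero_mem' := zero_pow F.ne_zero
      one_mem' := one_pow _
      add_mem' := fun {x y} hx hy => by
        show (x + y) ^ (p ^ n) = x + y
        rw [F.add, hx, hy]
      neg_mem' := fun {x} hx => by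
        show (-x) ^ (p ^ n) = -x
        rw [F.odd.neg_pow, hx]
      mul_mem' := fun {x y} hx hy => by
        show (x * y) ^ (p ^ n) = x * y
        rw [mul_pow, hx, hy]
      inv_mem' := fun x hx => by
        show (x⁻¹) ^ (p ^ n) = x⁻¹
        rw [inv_pow, hx] }
  -- the norm on the torus
  let ν₀ : ↥(Hsub G a b) →* ↥S :=
    { toFun := fun h => ⟨(χ h : E) ^ (p ^ n + 1), by
        show ((χ h : E) ^ (p ^ n + 1)) ^ (p ^ n) = (χ h : E) ^ (p ^ n + 1)
        rw [pow_succ (χ h : E) (p ^ n), mul_pow, F.twice, mul_comm]⟩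
      map_one' := Subtype.ext (by simp)
      map_mul' := fun g h => Subtype.ext (by simp [mul_pow]) }
  let ν : ↥(Hsub G a b) →* (↥S)ˣ := ν₀.toHomUnits
  have hν : ∀ h, (((ν h : ↥S)) : E) = (χ h : E) ^ (p ^ n + 1) := fun h => rfl
  have hker : ∀ h, ν h = 1 ↔ (h : G) ∈ W := fun h => by
    rw [c.mem_W, ← hν, Units.ext_iff, Subtype.ext_iff]
    rfl
  have hsurj : Function.Surjective ν := fun k => by
    obtain ⟨h, hh⟩ := c.norm_surj ((k : ↥S) : E) (fun e => k.ne_zero (Subtype.ext e)) (k : ↥S).2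
    exact ⟨h, Units.ext (Subtype.ext ((hν h).trans hh))⟩
  have hcardS : Nat.card ↥S = p ^ n := by
    have hk : Nat.card ↥ν.ker = Nat.card ↥W :=
      Nat.card_congr
        { toFun := fun h => ⟨(h.1 : G), (hker h.1).1 h.2⟩
          invFun := fun w => ⟨⟨w.1, c.W_le w.2⟩, (hker _).2 w.2⟩
          left_inv := fun h => rfl
          right_inv := fun w => rfl }
    have h1 := Subgroup.card_eq_card_quotient_mul_card_subgroup ν.ker
    rw [Nat.card_congr (QuotientGroup.quotientKerEquivOfSurjective ν hsurj).toEquiv, hk,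
      Nat.card_units] at h1
    have h2 := c.card_H
    rw [h1, mul_left_comm, c.card_W, show (p ^ n) ^ 2 - 1 = (p ^ n + 1) * (p ^ n - 1) from by
      simpa using Nat.sq_sub_sq (p ^ n) 1, mul_comm (p ^ n + 1)] at h2
    have h3 := Nat.eq_of_mul_eq_mul_right (show 0 < p ^ n + 1 by omega) h2
    have h4 : 0 < Nat.card ↥S := Nat.card_pos
    omega
  haveI : Fintype ↥S := Fintype.ofFinite _
  obtain ⟨e₁, he₁⟩ : ∃ e : E, e ^ (p ^ n) ≠ e := by
    by_contra hne
    push Not at hne
    have h := Nat.card_congr (Equiv.subtypeUnivEquiv (p := fun e : E => e ∈ S) hne)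
    rw [c.card_E] at h
    have : p ^ n < (p ^ n) ^ 2 := by nlinarith
    exact absurd (h.symm.trans hcardS) (by omega)
  obtain ⟨δ, hδ0, hδ⟩ : ∃ δ : E, δ ≠ 0 ∧ δ ^ (p ^ n) = -δ :=
    ⟨e₁ - e₁ ^ (p ^ n), sub_ne_zero.2 (Ne.symm he₁), by rw [F.sub, F.twice, neg_sub]⟩
  -- coordinates of the elements of `U`
  let co : G → E × E := fun x => (raw π (x • b)).getD (0, 0)
  have hraw_inj : ∀ d d' : Ω, raw π d = raw π d' → d = d' := fun d d' e =>
    π.injective (Option.map_injective Subtype.val_injective e)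
  have hco : ∀ x ∈ U, raw π (x • b) = some (co x) ∧
      (co x).2 + (co x).2 ^ (p ^ n) = (co x).1 ^ (p ^ n + 1) := by
    intro x hx
    cases hπ : π (x • b) with
    | none =>
      exfalso
      have e1 : x • b = a := π.injective (hπ.trans c.pi_a.symm)
      exact c.ne (smul_left_cancel x ((mem_stabilizer_iff.1 (c.le hx)).trans e1.symm))
    | some w =>
      have e : raw π (x • b) = some w.1 := by rw [raw, hπ]; rfl
      have e' : co x = w.1 := by simp only [co, e, Option.getD_some]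
      rw [e']
      exact ⟨e, w.2⟩
  have hmul : ∀ x ∈ U, ∀ y ∈ U, co (x * y) = trRaw (p ^ n) (co x) (co y) := by
    intro x hx y hy
    have h := c.trans x hx (y • b) _ _ (hco y hy).1 (hco x hx).1
    rw [← mul_smul, (hco _ (mul_mem hx hy)).1] at h
    exact Option.some.inj h
  have hscale : ∀ (h : ↥(Hsub G a b)), ∀ x ∈ U,
      co ((h : G) * x * (h : G)⁻¹) = scRaw (p ^ n) (χ h : E) (co x) := by
    intro h x hx
    have hb : (h : G)⁻¹ • b = b := inv_smul_eq_iff.2 (mem_stabilizer_iff.1 h.2.2).symm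
    have e := c.scale h (x • b) _ (hco x hx).1
    show (raw π (((h : G) * x * (h : G)⁻¹) • b)).getD (0, 0) = _
    rw [mul_smul, hb, mul_smul, e, Option.getD_some]
  have hZU : Z ≤ U := c.Z_eq ▸ inf_le_left
  have hZfst : ∀ z ∈ Z, (co z).1 = 0 := fun z hz =>
    (c.mem_Z z (hZU hz)).1 hz _ (hco z (hZU hz)).1
  let ζ : G → ↥S := fun x => if h : (co x).2 / δ ∈ S then ⟨(co x).2 / δ, h⟩ else 0
  have hζ : ∀ x ∈ U, (co x).1 = 0 → ((ζ x : ↥S) : E) = (co x).2 / δ := by
    intro x hx h0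
    have h := (hco x hx).2
    rw [h0, zero_pow (Nat.succ_ne_zero _)] at h
    have hm : (co x).2 / δ ∈ S := by
      show ((co x).2 / δ) ^ (p ^ n) = (co x).2 / δ
      rw [div_pow, hδ, eq_neg_of_add_eq_zero_right h, neg_div_neg_eq]
    simp only [ζ, dif_pos hm]
  let ξ : G → E := fun x => (co x).1
  refine ⟨↥S, inferInstance, inferInstance, S.subtype, δ, ν, ζ, ξ,
    { toLocalData := c.toLocalData
      card_K := hcardS
      card_frame := c.card_E
      nu_surj := hsurj
      nu_ker := hker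
      phi_inj := c.chi_inj
      phi_W := fun h => (c.mem_W h).symm
      zeta_add := fun z hz z' hz' => ?_
      zeta_inj := fun z hz hz0 => ?_
      zeta_surj := fun k => ?_
      zeta_scale := fun h z hz => ?_
      xi_add := fun x hx y hy => ?_
      xi_zero := fun x hx => ?_
      xi_surj := fun e => ?_
      xi_scale := fun h x hx => ?_ },
    fun e => ?_, ⟨hδ0, hδ⟩, hν, fun z hz => ?_, fun x hx w hw => ?_⟩
  · apply Subtype.ext
    rw [Subfield.coe_add, hζ _ (hZU (mul_mem hz hz')) (hZfst _ (mul_mem hz hz')),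
      hζ _ (hZU hz) (hZfst _ hz), hζ _ (hZU hz') (hZfst _ hz'), hmul z (hZU hz) z' (hZU hz'),
      ← add_div]
    simp [trRaw, hZfst z hz, zero_pow F.ne_zero]
  · have e := congrArg (fun k : ↥S => (k : E)) hz0
    simp only [hζ _ (hZU hz) (hZfst _ hz), ZeroMemClass.coe_zero, div_eq_zero_iff, hδ0, or_false] at e
    have hb' : z • b = b := hraw_inj _ _ (by
      rw [(hco z (hZU hz)).1, c.pi_b]
      exact congrArg some (Prod.ext (hZfst z hz) e))
    have huniq := (c.regular b c.ne.symm).unique (y₁ := ⟨z, hZU hz⟩) (y₂ := 1) hb' (one_smul G b)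
    exact congrArg Subtype.val huniq
  · have hk : (k : E) ^ (p ^ n) = k := k.2
    let w : Uni E (p ^ n) := ⟨(0, δ * k), by
      show δ * (k : E) + (δ * k) ^ (p ^ n) = (0 : E) ^ (p ^ n + 1)
      rw [mul_pow, hδ, hk, zero_pow (Nat.succ_ne_zero _)]; ring⟩
    have hne : π.symm (some w) ≠ a := fun e => by
      have := congrArg π e
      rw [Equiv.apply_symm_apply, c.pi_a] at this
      exact Option.some_ne_none _ this
    obtain ⟨u, hu, -⟩ := c.regular _ hne
    have e : raw π ((u : G) • b) = some (0, δ * (k : E)) := by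
      rw [hu, raw, Equiv.apply_symm_apply]; rfl
    have hz : (u : G) ∈ Z := (c.mem_Z _ u.2).2 fun v hv => by
      rw [e, Option.some_inj] at hv; rw [← hv]
    refine ⟨u, hz, Subtype.ext ?_⟩
    rw [hζ _ u.2 (hZfst _ hz), show co (u : G) = (0, δ * (k : E)) from
      Option.some.inj ((hco _ u.2).1.symm.trans e)]
    exact mul_div_cancel_left₀ _ hδ0
  · apply Subtype.ext
    have hu : (h : G) * z * (h : G)⁻¹ ∈ U := c.conj_mem _ h.2.1 z (hZU hz)
    have h0 : (co ((h : G) * z * (h : G)⁻¹)).1 = 0 := by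
      rw [hscale h z (hZU hz)]; simp [scRaw, hZfst z hz]
    rw [Subfield.coe_mul, hν, hζ _ hu h0, hζ _ (hZU hz) (hZfst _ hz), hscale h z (hZU hz)]
    simp [scRaw, mul_div_assoc]
  · show (co (x * y)).1 = (co x).1 + (co y).1
    rw [hmul x hx y hy]; rfl
  · show (co x).1 = 0 ↔ x ∈ Z
    refine ⟨fun h => (c.mem_Z x hx).2 fun w hw => ?_, fun h => hZfst x h⟩
    rw [(hco x hx).1, Option.some_inj] at hw
    rw [← hw]; exact h
  · let w : Uni E (p ^ n) := ⟨(e, (2 : E)⁻¹ * e ^ (p ^ n + 1)), by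
      show (2 : E)⁻¹ * e ^ (p ^ n + 1) + ((2 : E)⁻¹ * e ^ (p ^ n + 1)) ^ (p ^ n) = e ^ (p ^ n + 1)
      rw [mul_pow, F.half, pow_succ e, mul_pow, F.twice]
      linear_combination (e ^ (p ^ n) * e) * (mul_inv_cancel₀ F.two)⟩
    have hne : π.symm (some w) ≠ a := fun he => by
      have := congrArg π he
      rw [Equiv.apply_symm_apply, c.pi_a] at this
      exact Option.some_ne_none _ this
    obtain ⟨u, hu, -⟩ := c.regular _ hne
    refine ⟨u, u.2, ?_⟩
    have h' : raw π ((u : G) • b) = some w.1 := by rw [hu, raw, Equiv.apply_symm_apply]; rfl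
    show (co (u : G)).1 = e
    rw [Option.some.inj ((hco _ u.2).1.symm.trans h')]
  · show (co ((h : G) * x * (h : G)⁻¹)).1 = _
    rw [hscale h x hx]; rfl
  · exact ⟨fun he => ⟨⟨e, he⟩, rfl⟩, fun ⟨k, hk⟩ => hk ▸ k.2⟩
  · rw [(hco z (hZU hz)).1, show S.subtype (ζ z) = (co z).2 / δ from hζ _ (hZU hz) (hZfst z hz),
      mul_div_cancel₀ _ hδ0, ← hZfst z hz]
  · show (co x).1 = w.1
    rw [(hco x hx).1, Option.some_inj] at hw
    rw [hw]

end CfsgLib.Recog.OddUnitary
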