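import Cfsg.Agent.Lib.Recog.OddUnitary.LabelBlock
import Cfsg.Agent.Lib.Recog.OddUnitary.CoordFrame

/-!
Unitary coordinates with their frame and a swap: the setting in which the swap is identified.
-/

set_option autoImplicit false
set_option linter.unusedSectionVars false
set_option linter.style.haveILetI false

namespace CfsgLib.Recog.OddUnitary

open MulAction

universe u v

/-- Coordinates, the frame they give, and a swap normalised on the line of `j`. -/
structure Ctx (G : Type u) {Ω : Type v} [Group G] [MulAction G Ω] (a b : Ω) (U : Subgroup G) (p n : ℕ)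
    (j : G) (Z W : Subgroup G) (K E : Type) [Field K] [Field E] (π : Ω ≃ Option (Uni E (p ^ n)))
    (χ : ↥(Hsub G a b) →* Eˣ) (ι : K →+* E) (δ : E) (ν : ↥(Hsub G a b) →* Kˣ) (ζ : G → K) (ξ : G → E)
    (t : G) : Prop where
  coord : Coord G a b U p n j Z W E π χ
  frame : Frame G a b U p n j Z W K E ν ζ χ ξ
  fixed : ∀ e : E, e ^ (p ^ n) = e ↔ e ∈ Set.range ι
  delta_ne : δ ≠ 0
  delta_pow : δ ^ (p ^ n) = -δ
  nu : ∀ h, ι (ν h : K) = (χ h : E) ^ (p ^ n + 1)
  zeta : ∀ z ∈ Z, raw π (z • b) = some (0, δ * ι (ζ z))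
  xi : ∀ x ∈ U, ∀ w : E × E, raw π (x • b) = some w → ξ x = w.1
  one : frame.OneInvol
  blocks : frame.Blocks
  inv : frame.Inv t

variable {G : Type u} {Ω : Type v} [Group G] [MulAction G Ω] {a b : Ω} {U : Subgroup G} {p n : ℕ} {j : G}
  {Z W : Subgroup G} {K E : Type} [Field K] [Field E] {π : Ω ≃ Option (Uni E (p ^ n))}
  {χ : ↥(Hsub G a b) →* Eˣ} {ι : K →+* E} {δ : E} {ν : ↥(Hsub G a b) →* Kˣ} {ζ : G → K} {ξ : G → E} {t : G}

/-- The centre of the block of a point is its second coordinate, and its norm is that of the point. -/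
def Centred (f : Frame G a b U p n j Z W K E ν ζ χ ξ) (π : Ω ≃ Option (Uni E (p ^ n))) (ι : K →+* E) (δ : E)
    (t : G) : Prop :=
  ∀ (c : Ω) (v : E × E) (m : K) (h : ↥(Hsub G a b)), f.Lbl t c m h → raw π c = some v →
    δ * ι m = v.2 - v.1 ^ (p ^ n + 1) / 2 ∧ ι (ν h : K) * (2 * δ) ^ 2 = (v.1 ^ (p ^ n + 1)) ^ 2

/-- The points of a label lie on one circle. -/
def Circles (f : Frame G a b U p n j Z W K E ν ζ χ ξ) (π : Ω ≃ Option (Uni E (p ^ n))) (t : G) : Prop :=
  ∀ (c c' : Ω) (v v' : E × E) (m : K) (h : ↥(Hsub G a b)), f.Lbl t c m h → f.Lbl t c' m h →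
    raw π c = some v → raw π c' = some v' → v.1 ^ (p ^ n + 1) = v'.1 ^ (p ^ n + 1)

namespace Ctx

variable (C : Ctx G a b U p n j Z W K E π χ ι δ ν ζ ξ t)
include C

theorem frob : Model.Frob E (p ^ n) := by
  haveI : Finite E := Nat.finite_of_card_ne_zero (by
    rw [C.coord.card_E]; exact pow_ne_zero _ (pow_ne_zero _ C.coord.prime.ne_zero))
  haveI : Fintype E := Fintype.ofFinite E
  exact Model.frob_of_card C.coord.prime C.coord.odd C.coord.pos
    (by rw [← Nat.card_eq_fintype_card, C.coord.card_E])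

theorem iota_pow (k : K) : ι k ^ (p ^ n) = ι k := (C.fixed _).2 ⟨k, rfl⟩

theorem raw_inj {c d : Ω} (e : raw π c = raw π d) : c = d :=
  π.injective (Option.map_injective Subtype.val_injective e)

theorem raw_ex {c : Ω} (hc : c ≠ a) : ∃ v : E × E, raw π c = some v ∧ v.2 + v.2 ^ (p ^ n) = v.1 ^ (p ^ n + 1) := by
  cases hπ : π c with
  | none => exact absurd (π.injective (hπ.trans C.coord.pi_a.symm)) hc
  | some w => exact ⟨w.1, by rw [raw, hπ]; rfl, w.2⟩

theorem raw_eqn {c : Ω} {v : E × E} (e : raw π c = some v) : v.2 + v.2 ^ (p ^ n) = v.1 ^ (p ^ n + 1) := by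
  rw [raw, Option.map_eq_some_iff] at e
  obtain ⟨w, -, rfl⟩ := e
  exact w.2

theorem exists_pt {v : E × E} (h : v.2 + v.2 ^ (p ^ n) = v.1 ^ (p ^ n + 1)) :
    ∃ x ∈ U, raw π (x • b) = some v := by
  have hne : π.symm (some ⟨v, h⟩) ≠ a := fun e => by
    have := congrArg π e
    rw [Equiv.apply_symm_apply, C.coord.pi_a] at this
    exact Option.some_ne_none _ this
  obtain ⟨x, hx, e⟩ := C.frame.exists_U hne
  exact ⟨x, hx, by rw [e, raw, Equiv.apply_symm_apply]; rfl⟩

theorem raw_U {x : G} (hx : x ∈ U) : ∃ v : E × E, raw π (x • b) = some v :=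
  (C.raw_ex (fun e => C.frame.ne.symm (MulAction.injective x (e.trans (C.frame.fix_a hx).symm)))).imp
    fun _ h => h.1

theorem raw_mul {x y : G} (hx : x ∈ U) {v w : E × E} (hv : raw π (x • b) = some v)
    (hw : raw π (y • b) = some w) : raw π ((x * y) • b) = some (trRaw (p ^ n) v w) := by
  rw [mul_smul]; exact C.coord.trans x hx (y • b) w v hw hv

theorem raw_inv {x : G} (hx : x ∈ U) {v : E × E} (hv : raw π (x • b) = some v) :
    raw π (x⁻¹ • b) = some (-v.1, v.2 ^ (p ^ n)) := by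
  obtain ⟨w, hw⟩ := C.raw_U (inv_mem hx)
  have h := C.raw_mul hx hv hw
  rw [mul_inv_cancel, one_smul, C.coord.pi_b, Option.some_inj, trRaw, Prod.mk.injEq] at h
  have e1 : w.1 = -v.1 := eq_neg_of_add_eq_zero_right h.1.symm
  have hu := C.raw_eqn hv
  rw [pow_succ] at hu
  rw [hw, Option.some_inj]
  refine Prod.ext e1 ?_
  show w.2 = v.2 ^ (p ^ n)
  linear_combination -h.2 - hu - (v.1 ^ (p ^ n)) * e1

/-- The translate `x⁻¹ y`. -/
theorem raw_diff {x y : G} (hx : x ∈ U) {v w : E × E} (hv : raw π (x • b) = some v)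
    (hw : raw π (y • b) = some w) :
    raw π ((x⁻¹ * y) • b) = some (w.1 - v.1, v.2 ^ (p ^ n) + w.2 - v.1 ^ (p ^ n) * w.1) := by
  rw [C.raw_mul (inv_mem hx) (C.raw_inv hx hv) hw, Option.some_inj, trRaw, C.frob.odd.neg_pow]
  refine Prod.ext ?_ ?_ <;> ring

theorem raw_conj (k : ↥(Hsub G a b)) {x : G} {v : E × E} (hv : raw π (x • b) = some v) :
    raw π (((k : G) * x * (k : G)⁻¹) • b) = some (scRaw (p ^ n) (χ k : E) v) := by
  rw [C.frame.H_smul_pt]; exact C.coord.scale k _ v hv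

theorem raw_zz (k : K) : raw π (C.frame.pt k) = some (0, δ * ι k) := by
  rw [Frame.pt, C.zeta _ (C.frame.zz_mem k), C.frame.zeta_zz]

theorem raw_shift {x z : G} (hz : z ∈ Z) {v : E × E} (hv : raw π (x • b) = some v) :
    raw π ((z * x) • b) = some (v.1, δ * ι (ζ z) + v.2) := by
  rw [C.raw_mul (C.frame.Z_le hz) (C.zeta z hz) hv, Option.some_inj, trRaw,
    zero_pow C.frob.ne_zero]
  refine Prod.ext ?_ ?_ <;> ring

end Ctx

end CfsgLib.Recog.OddUnitary
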