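import Cfsg.Agent.Lib.Recog.OddUnitary.FiveBase
import Cfsg.Agent.Lib.Recog.OddUnitary.Ctx

/-!
The centred labels for `q = 5`.
-/

set_option autoImplicit false
set_option linter.unusedSectionVars false
set_option maxHeartbeats 1000000

namespace CfsgLib.Recog.OddUnitary

open MulAction Five

universe u v

/-- Five is prime, for the local use of the field `ZMod 5`. -/
local instance factFiveCentre : Fact (Nat.Prime 5) := ⟨by norm_num⟩

variable {G : Type u} {Ω : Type v} [Group G] [MulAction G Ω] {a b : Ω} {U : Subgroup G} {p n : ℕ}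
  {j : G} {Z W : Subgroup G} {K E : Type} [Field K] [Field E] {π : Ω ≃ Option (Uni E (p ^ n))}
  {χ : ↥(Hsub G a b) →* Eˣ} {ι : K →+* E} {δ : E} {ν : ↥(Hsub G a b) →* Kˣ} {ζ : G → K} {ξ : G → E} {t : G}

theorem centred_five (C : Ctx G a b U p n j Z W K E π χ ι δ ν ζ ξ t) (hq : p ^ n = 5) :
    Centred C.frame π ι δ t ∧ Circles C.frame π t := by
  classical
  set f := C.frame
  have hE : Nat.card E = 25 := by rw [C.coord.card_E, hq]; norm_num
  obtain ⟨φ, s, pr⟩ := exists_pairs hE C.delta_ne (by rw [← hq]; exact C.delta_pow)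
  obtain ⟨ψ, hψ⟩ := exists_psi f hq
  have hιψ : ι.comp ψ = φ := RingHom.ext_zmod _ _
  have hι : ∀ x, ι (ψ x) = φ x := fun x => by rw [← hιψ]; rfl
  have hιinj : Function.Injective ι := ι.injective
  -- the centre of a point
  let cf : E → P := fun e => (pr.eP_surj e).choose
  have hcf : ∀ e, eP φ δ (cf e) = e := fun e => (pr.eP_surj e).choose_spec
  let α : G → ZMod 5 := fun x => (cf ((raw π (x • b)).getD (0, 0)).2).2
  have hraw : ∀ x ∈ U, ∀ v : P, ξ x = eP φ δ v →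
      raw π (x • b) = some (eP φ δ v, eP φ δ (3 * nmP s v, α x)) := by
    intro x hx v hv
    obtain ⟨w, hw⟩ := C.raw_U hx
    have h1 : w.1 = eP φ δ v := by rw [← C.xi x hx w hw, hv]
    have he := C.raw_eqn hw
    rw [hq, h1, pr.eP_norm] at he
    have hα : α x = (cf w.2).2 := by simp only [α, hw, Option.getD_some]
    rw [hw, Option.some_inj]
    refine Prod.ext h1 ?_
    show w.2 = _
    rw [hα]
    conv_lhs => rw [← hcf w.2]
    rw [← hcf w.2, pr.eP_conj, pr.eP_add] at he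
    have e2 : φ ((cf w.2).1 + (cf w.2).1) = φ (nmP s v) := by
      simpa [eP, cjP] using he
    have hhalf : ∀ x N : ZMod 5, x + x = N → x = 3 * N := by decide
    rw [← hhalf _ _ (φ.injective e2)]
  have hshift : ∀ x ∈ U, ∀ z ∈ Z, ψ (α (z * x)) = ζ z + ψ (α x) := by
    intro x hx z hz
    obtain ⟨k, hk⟩ := hψ.2 (ζ z)
    obtain ⟨v, hv⟩ := pr.eP_surj (ξ x)
    have e1 := C.raw_shift hz (hraw x hx v hv.symm)
    have hzx : ξ (z * x) = eP φ δ v := by
      rw [f.xi_add _ (f.Z_le hz) _ hx, (f.xi_zero _ (f.Z_le hz)).2 hz, zero_add, hv]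
    rw [hraw _ (mul_mem (f.Z_le hz) hx) v hzx, Option.some_inj, Prod.mk.injEq, ← hk, hι] at e1
    have e2 : eP φ δ (3 * nmP s v, α (z * x)) = eP φ δ (3 * nmP s v, k + α x) := by
      rw [e1.2]; simp only [eP, map_add]; ring
    rw [← hk, ← map_add, show α (z * x) = k + α x from congrArg Prod.snd (pr.eP_inj e2)]
  have hconj : ∀ x ∈ U, ∀ k : ↥(Hsub G a b), ψ (α ((k : G) * x * (k : G)⁻¹)) = (ν k : K) * ψ (α x) := by
    intro x hx k
    obtain ⟨T, hT⟩ := hψ.2 (ν k : K)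
    obtain ⟨v, hv⟩ := pr.eP_surj (ξ x)
    obtain ⟨c, hc⟩ := pr.eP_surj (χ k : E)
    have e1 := C.raw_conj k (hraw x hx v hv.symm)
    have hkx : ξ ((k : G) * x * (k : G)⁻¹) = eP φ δ (mulP s c v) := by
      rw [f.xi_scale k x hx, ← hv, ← hc, pr.eP_mul]
    rw [hraw _ (f.conj_U k hx) _ hkx, Option.some_inj, scRaw, Prod.mk.injEq] at e1
    have hTe : (χ k : E) ^ (p ^ n + 1) = eP φ δ (T, 0) := by
      rw [← C.nu k, ← hT, hι]; simp [eP]
    rw [hTe, pr.eP_mul] at e1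
    have e2 := congrArg Prod.snd (pr.eP_inj e1.2)
    simp only [mulP, zero_mul, add_zero] at e2
    rw [← hT, ← map_mul, e2]
  have hα : Alpha f ψ α := ⟨hshift, hconj⟩
  have hν : ∀ (k : ↥(Hsub G a b)) (T : ZMod 5), (χ k : E) ^ 6 = φ T → (ν k : K) = ψ (val false T) := by
    intro k T e
    refine hιinj ?_
    rw [C.nu, hι, hq, e]
    rfl
  obtain ⟨r1, r2, h, X, hr1, hr2, hX⟩ := exists_config f hq pr C.one C.inv C.blocks
  obtain ⟨D, hD⟩ := hψ.2 (ν h : K)
  have hD0 : D ≠ 0 := fun e => (ν h).ne_zero (by rw [← hD, e, map_zero])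
  set F : Fin 3 → ZMod 5 := fun o => -α (X o) with hF
  have hchk : chkC s (reps r1 r2) D F = true := by
    rw [chkC, List.all_eq_true]
    intro i _
    refine oneBase_ok f hq pr C.one C.inv C.blocks hα hν hr1 hr2 hX hD i fun q hmem => ?_
    obtain ⟨hyU, -, hyi, hyα⟩ := pick_spec f hq pr C.one C.inv C.blocks hα hν hr1 hr2 hX hD hmem
    obtain ⟨hxU, -, hxi⟩ := hX i
    set R := reps r1 r2
    have hv : ξ ((X i)⁻¹ * pick f X q) = eP φ δ (vxOf R i q) := by
      rw [f.xi_add _ (inv_mem hxU) _ hyU, f.xi_inv hxU, hxi, hyi, neg_add_eq_sub, pr.eP_sub]; rfl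
    have e := C.raw_diff hxU (hraw _ hxU _ hxi) (hraw _ hyU _ hyi)
    rw [hraw _ (mul_mem (inv_mem hxU) hyU) _ hv, Option.some_inj, Prod.mk.injEq, hq, pr.eP_conj,
      pr.eP_conj, pr.eP_add, pr.eP_mul] at e
    simp only [pr.eP_sub] at e
    have e2 := congrArg Prod.snd (pr.eP_inj e.2)
    simp only [cjP, Prod.snd_add, Prod.snd_sub] at e2
    rw [e2, hyα]
    simp only [aC, hF, cjP]
    ring
  obtain ⟨hF0, hN1, hDs⟩ := goal_of_chkC pr.s_mem hr1 hr2 hD0 hchk
  -- every label is centred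
  have hmain : ∀ (c : Ω) (v : E × E) (m : K) (h' : ↥(Hsub G a b)), f.Lbl t c m h' → raw π c = some v →
      δ * ι m = v.2 - v.1 ^ (p ^ n + 1) / 2 ∧ ∃ (k : ↥(Hsub G a b)) (T : ZMod 5),
        (ν k : K) = ψ T ∧ h' = f.Lam C.inv k * h ∧ v.1 ^ (p ^ n + 1) = φ T ∧
        (ν h' : K) = (ν k : K) * (ν k : K) * ψ D := by
    intro c v m h' l hv
    obtain ⟨x, hx, hxZ, rfl⟩ := f.exists_moved l.moved
    obtain ⟨u, hu⟩ := pr.eP_surj (ξ x)
    have hu0 : u ≠ 0 := fun e => hxZ ((f.xi_zero x hx).1 (by rw [← hu, e, pr.eP_zero]))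
    obtain ⟨k, hk1, hk2, hk3⟩ := label_of f hq pr C.one C.inv C.blocks hα hν hr1 hr2 hX hD hx hu0 hu.symm
    obtain ⟨e1, e2⟩ := f.lbl_unique C.one C.inv l hk2
    have hz : -α (X (cls s u)) = 0 := hF0 _
    rw [hz, mul_zero, add_zero] at e1
    have hvv : v = (eP φ δ u, eP φ δ (3 * nmP s u, α x)) :=
      Option.some.inj (hv.symm.trans (hraw x hx u hu.symm))
    subst hvv
    refine ⟨?_, k, nmP s u, ?_, e2, ?_, e2 ▸ hk3⟩
    · show δ * ι m = eP φ δ (3 * nmP s u, α x) - eP φ δ u ^ (p ^ n + 1) / 2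
      rw [hq, pr.eP_norm, pr.half, e1, hι]
      simp only [eP]; ring
    · rw [hk1]
      congr 1
      show val false (nmP s u * (nmP s (reps r1 r2 (cls s u)) * nmP s (reps r1 r2 (cls s u)) *
        nmP s (reps r1 r2 (cls s u)))) = nmP s u
      rw [hN1, mul_one, mul_one, mul_one]; rfl
    · show eP φ δ u ^ (p ^ n + 1) = φ (nmP s u)
      rw [hq]; exact pr.eP_norm u
  constructor
  · intro c v m h' l hv
    obtain ⟨h1, k, T, hk, -, hn, hν'⟩ := hmain c v m h' l hv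
    refine ⟨h1, ?_⟩
    rw [hν', hk, hn, ← map_mul ψ, ← map_mul ψ, hι, show (2 * δ) ^ 2 = φ (4 * s) by
        rw [map_mul, ← pr.sq, map_ofNat]; ring, ← map_mul φ, ← map_pow φ,
      show T * T * D * (4 * s) = T ^ 2 * (D * 4 * s) by ring, hDs, mul_one]
  · intro c c' v v' m h' l l' hv hv'
    obtain ⟨-, k, T, hk, hh, hn, -⟩ := hmain c v m h' l hv
    obtain ⟨-, k', T', hk', hh', hn', -⟩ := hmain c' v' m h' l' hv'
    have e := mul_right_cancel (hh.symm.trans hh')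
    rw [← f.lam_nu C.inv k, ← f.lam_nu C.inv k'] at e
    have e' := f.lam_inj C.one C.inv C.blocks (ν k).ne_zero (ν k').ne_zero e
    rw [hk, hk'] at e'
    rw [hn, hn', ψ.injective e']

end CfsgLib.Recog.OddUnitary
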