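import Mathlib
import Cfsg.Prelude.Def_LieRecognition
import Cfsg.Prelude.Def_Classical

/-!
Interfaces for the recognition of `PSU(3,q)`, `q` odd, by its action on `q³ + 1` points (S1148).
-/

set_option autoImplicit false

namespace CfsgLib.Recog.OddUnitary

open MulAction

universe u v w

variable {G : Type u} {Ω : Type v} [Group G] [MulAction G Ω]

/-- The two-point stabiliser. -/
abbrev Hsub (G : Type u) {Ω : Type v} [Group G] [MulAction G Ω] (a b : Ω) : Subgroup G :=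
  stabilizer G a ⊓ stabilizer G b

/-- `g` interchanges `a` and `b`. -/
def Swaps (g : G) (a b : Ω) : Prop := g • a = b ∧ g • b = a

/-- The hypotheses of S1148 read on the points. -/
structure Setup (G : Type u) {Ω : Type v} [Group G] [MulAction G Ω] (a b : Ω) (U : Subgroup G) (p n : ℕ) :
    Prop where
  prime : p.Prime
  odd : p ≠ 2
  pos : 1 ≤ n
  finite : Finite G
  finite_pts : Finite Ω
  faithful : FaithfulSMul G Ω
  simple : IsSimpleGroup G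
  two : IsMultiplyPretransitive G Ω 2
  ne : a ≠ b
  card_pts : Nat.card Ω = (p ^ n) ^ 3 + 1
  le : U ≤ stabilizer G a
  conj_mem : ∀ g ∈ stabilizer G a, ∀ u ∈ U, g * u * g⁻¹ ∈ U
  regular : ∀ c : Ω, c ≠ a → ∃! u : U, (u : G) • b = c
  cyclic : IsCyclic ↥(Hsub G a b)
  card_H : Nat.gcd 3 (p ^ n + 1) * Nat.card ↥(Hsub G a b) = (p ^ n) ^ 2 - 1

/-- The local structure at a pair of points. -/
structure LocalData (G : Type u) {Ω : Type v} [Group G] [MulAction G Ω] (a b : Ω) (U : Subgroup G) (p n : ℕ)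
    (j : G) (Z W : Subgroup G) : Prop extends Setup G a b U p n where
  j_mem : j ∈ Hsub G a b
  j_ord : orderOf j = 2
  Z_eq : Z = U ⊓ Subgroup.centralizer {j}
  card_Z : Nat.card Z = p ^ n
  Z_central : ∀ z ∈ Z, ∀ u ∈ U, z * u = u * z
  Z_exp : ∀ z ∈ Z, z ^ p = 1
  W_le : W ≤ Hsub G a b
  j_W : j ∈ W
  card_W : Nat.gcd 3 (p ^ n + 1) * Nat.card W = p ^ n + 1
  W_cent : ∀ w ∈ W, ∀ z ∈ Z, w * z = z * w
  cen_W : ∀ w ∈ W, w ≠ 1 → ∀ u ∈ U, w * u = u * w → u ∈ Z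
  fpf : ∀ h ∈ Hsub G a b, h ∉ W → ∀ u ∈ U, h * u = u * h → u = 1
  swap_W : ∀ t : G, Swaps t a b → ∀ w ∈ W, t * w = w * t
  swap_inv : ∀ t : G, Swaps t a b → ∀ h ∈ Hsub G a b, t * h * t⁻¹ * h ∈ W

/-- Field coordinates on `Z` (`ζ`) and on `U ⧸ Z` (`ξ`), with the torus acting by scalars. -/
structure Frame (G : Type u) {Ω : Type v} [Group G] [MulAction G Ω] (a b : Ω) (U : Subgroup G) (p n : ℕ)
    (j : G) (Z W : Subgroup G) (K E : Type w) [Field K] [Field E] (ν : ↥(Hsub G a b) →* Kˣ)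
    (ζ : G → K) (Φ : ↥(Hsub G a b) →* Eˣ) (ξ : G → E) : Prop extends LocalData G a b U p n j Z W where
  card_K : Nat.card K = p ^ n
  card_frame : Nat.card E = (p ^ n) ^ 2
  nu_surj : Function.Surjective ν
  nu_ker : ∀ h, ν h = 1 ↔ (h : G) ∈ W
  phi_inj : Function.Injective Φ
  phi_W : ∀ h, (Φ h : E) ^ (p ^ n + 1) = 1 ↔ (h : G) ∈ W
  zeta_add : ∀ z ∈ Z, ∀ z' ∈ Z, ζ (z * z') = ζ z + ζ z'
  zeta_inj : ∀ z ∈ Z, ζ z = 0 → z = 1
  zeta_surj : ∀ k : K, ∃ z ∈ Z, ζ z = k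
  zeta_scale : ∀ (h : ↥(Hsub G a b)), ∀ z ∈ Z, ζ ((h : G) * z * (h : G)⁻¹) = (ν h : K) * ζ z
  xi_add : ∀ x ∈ U, ∀ y ∈ U, ξ (x * y) = ξ x + ξ y
  xi_zero : ∀ x ∈ U, ξ x = 0 ↔ x ∈ Z
  xi_surj : ∀ e : E, ∃ x ∈ U, ξ x = e
  xi_scale : ∀ (h : ↥(Hsub G a b)), ∀ x ∈ U, ξ ((h : G) * x * (h : G)⁻¹) = (Φ h : E) * ξ x

/-- The affine points of the unital: `y + y^q = x^(q+1)`. -/
abbrev Uni (E : Type w) [Field E] (q : ℕ) := {v : E × E // v.2 + v.2 ^ q = v.1 ^ (q + 1)}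

/-- The origin. -/
def Uni.zero (E : Type w) [Field E] (q : ℕ) (hq : q ≠ 0) : Uni E q :=
  ⟨(0, 0), by simp [zero_pow hq]⟩

/-- Translation by `u`. -/
def trRaw {E : Type w} [Field E] (q : ℕ) (u v : E × E) : E × E :=
  (u.1 + v.1, u.2 + v.2 + u.1 ^ q * v.1)

/-- Scaling by `k`. -/
def scRaw {E : Type w} [Field E] (q : ℕ) (k : E) (v : E × E) : E × E := (k * v.1, k ^ (q + 1) * v.2)

/-- The inversion exchanging the origin and the point at infinity. -/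
def invRaw {E : Type w} [Field E] (v : E × E) : E × E := (v.1 / v.2, 1 / v.2)

/-- Raw coordinates of a point. -/
def raw {E : Type w} [Field E] {q : ℕ} (π : Ω ≃ Option (Uni E q)) (c : Ω) : Option (E × E) :=
  (π c).map Subtype.val

/-- Unitary coordinates: `U` acts by translations and `H` by scalings. -/
structure Coord (G : Type u) {Ω : Type v} [Group G] [MulAction G Ω] (a b : Ω) (U : Subgroup G) (p n : ℕ)
    (j : G) (Z W : Subgroup G) (E : Type w) [Field E] (π : Ω ≃ Option (Uni E (p ^ n)))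
    (χ : ↥(Hsub G a b) →* Eˣ) : Prop extends LocalData G a b U p n j Z W where
  card_E : Nat.card E = (p ^ n) ^ 2
  pi_a : π a = none
  pi_b : raw π b = some (0, 0)
  trans : ∀ u ∈ U, ∀ (c : Ω) (v w : E × E), raw π c = some v → raw π (u • b) = some w →
    raw π (u • c) = some (trRaw (p ^ n) w v)
  scale : ∀ (h : ↥(Hsub G a b)) (c : Ω) (v : E × E), raw π c = some v →
    raw π ((h : G) • c) = some (scRaw (p ^ n) (χ h : E) v)
  chi_inj : Function.Injective χ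
  chi_j : ∀ hj : j ∈ Hsub G a b, (χ ⟨j, hj⟩ : E) = -1
  mem_Z : ∀ u ∈ U, u ∈ Z ↔ ∀ w : E × E, raw π (u • b) = some w → w.1 = 0
  mem_W : ∀ h : ↥(Hsub G a b), (h : G) ∈ W ↔ (χ h : E) ^ (p ^ n + 1) = 1
  norm_surj : ∀ k : E, k ≠ 0 → k ^ (p ^ n) = k → ∃ h, (χ h : E) ^ (p ^ n + 1) = k

/-- The inversion is realised in `G`. -/
def HasInversion (G : Type u) {Ω : Type v} [Group G] [MulAction G Ω] (a b : Ω) {E : Type w} [Field E] {q : ℕ}
    (π : Ω ≃ Option (Uni E q)) : Prop :=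
  ∃ t : G, Swaps t a b ∧ ∀ (c : Ω) (v : E × E), raw π c = some v → v ≠ (0, 0) →
    raw π (t • c) = some (invRaw v)

/-! The pieces (each proved as a theorem of this type). -/

/-- Piece 1: from the (B,N)-pair to the action on `G ⧸ B`. -/
def SetupExists : Prop :=
  ∀ (G : Type u) [Group G] [Finite G] [IsSimpleGroup G] (P : Cfsg.BNPair G), P.rank = 1 →
    ∀ (p n : ℕ), p.Prime → p ≠ 2 → 1 ≤ n → ∀ U : Subgroup G, U ≤ P.B →
      (∀ b ∈ P.B, ∀ u ∈ U, b * u * b⁻¹ ∈ U) → U ⊔ (P.B ⊓ P.N) = P.B → U ⊓ (P.B ⊓ P.N) = ⊥ →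
      P.B.index = p ^ (3 * n) + 1 → Nat.card U = p ^ (3 * n) → IsCyclic ↥(P.B ⊓ P.N) →
      Nat.gcd 3 (p ^ n + 1) * Nat.card ↥(P.B ⊓ P.N) = p ^ (2 * n) - 1 →
      ∃ a b : G ⧸ P.B, Setup G a b U p n

/-- Piece 1b: elementary consequences of the hypotheses. -/
def SetupFacts : Prop :=
  ∀ (G : Type u) (Ω : Type v) [Group G] [MulAction G Ω] (a b : Ω) (U : Subgroup G) (p n : ℕ),
    Setup G a b U p n →
    Nat.card U = (p ^ n) ^ 3 ∧
    Nat.card G = ((p ^ n) ^ 3 + 1) * (p ^ n) ^ 3 * Nat.card ↥(Hsub G a b) ∧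
    (∀ g ∈ stabilizer G a, ∃ u ∈ U, ∃ h ∈ Hsub G a b, g = u * h) ∧
    (∃ t : G, Swaps t a b) ∧
    ∀ c d : Ω, c ≠ d → ∃! i : G, orderOf i = 2 ∧ i • c = c ∧ i • d = d

/-- Piece 1c: blocks have `q + 1` points. -/
def BlockCard : Prop :=
  ∀ (G : Type u) (Ω : Type v) [Group G] [MulAction G Ω] (a b : Ω) (U : Subgroup G) (p n : ℕ) (j : G)
    (Z W : Subgroup G), LocalData G a b U p n j Z W →
    ∀ (i : G) (c : Ω), orderOf i = 2 → i • c = c → Nat.card {x : Ω // i • x = x} = p ^ n + 1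

/-- Piece 2: the local structure. -/
def LocalExists : Prop :=
  ∀ (G : Type u) (Ω : Type v) [Group G] [MulAction G Ω] (a b : Ω) (U : Subgroup G) (p n : ℕ),
    Setup G a b U p n → ∃ (j : G) (Z W : Subgroup G), LocalData G a b U p n j Z W

/-- Piece 3: the fields. -/
def FrameExists : Prop :=
  ∀ (G : Type u) (Ω : Type v) [Group G] [MulAction G Ω] (a b : Ω) (U : Subgroup G) (p n : ℕ) (j : G)
    (Z W : Subgroup G), LocalData G a b U p n j Z W →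
    ∃ (K E : Type) (_ : Field K) (_ : Field E) (_ : Fintype K) (_ : Fintype E) (ν : ↥(Hsub G a b) →* Kˣ)
      (ζ : G → K) (Φ : ↥(Hsub G a b) →* Eˣ) (ξ : G → E), Frame G a b U p n j Z W K E ν ζ Φ ξ

/-- Piece 4: `U` is not abelian. -/
def UNonabelian : Prop :=
  ∀ (G : Type u) (Ω : Type v) [Group G] [MulAction G Ω] (a b : Ω) (U : Subgroup G) (p n : ℕ) (j : G)
    (Z W : Subgroup G) (K E : Type) [Field K] [Field E] (ν : ↥(Hsub G a b) →* Kˣ)
    (ζ : G → K) (Φ : ↥(Hsub G a b) →* Eˣ) (ξ : G → E), Frame G a b U p n j Z W K E ν ζ Φ ξ →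
    ∃ x ∈ U, ∃ y ∈ U, x * y ≠ y * x

/-- Piece 5: the coordinates. -/
def CoordExists : Prop :=
  ∀ (G : Type u) (Ω : Type v) [Group G] [MulAction G Ω] (a b : Ω) (U : Subgroup G) (p n : ℕ) (j : G)
    (Z W : Subgroup G) (K E₀ : Type) [Field K] [Field E₀] (ν : ↥(Hsub G a b) →* Kˣ)
    (ζ : G → K) (Φ : ↥(Hsub G a b) →* E₀ˣ) (ξ : G → E₀), Frame G a b U p n j Z W K E₀ ν ζ Φ ξ →
    (∃ x ∈ U, ∃ y ∈ U, x * y ≠ y * x) →
    ∃ (E : Type) (_ : Field E) (_ : Fintype E) (π : Ω ≃ Option (Uni E (p ^ n)))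
      (χ : ↥(Hsub G a b) →* Eˣ), Coord G a b U p n j Z W E π χ

/-- Piece 6: the inversion. -/
def InversionExists : Prop :=
  ∀ (G : Type u) (Ω : Type v) [Group G] [MulAction G Ω] (a b : Ω) (U : Subgroup G) (p n : ℕ) (j : G)
    (Z W : Subgroup G) (E : Type) [Field E] (π : Ω ≃ Option (Uni E (p ^ n)))
    (χ : ↥(Hsub G a b) →* Eˣ), Coord G a b U p n j Z W E π χ → HasInversion G a b π

/-- Piece 7: a group in these coordinates is `PSU(3,q)`. -/
def ModelIso : Prop :=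
  ∀ (G : Type u) (Ω : Type v) [Group G] [MulAction G Ω] (a b : Ω) (U : Subgroup G) (p n : ℕ) (j : G)
    (Z W : Subgroup G) (E : Type) [Field E] [Fintype E] (π : Ω ≃ Option (Uni E (p ^ n)))
    (χ : ↥(Hsub G a b) →* Eˣ), Coord G a b U p n j Z W E π χ → HasInversion G a b π →
    Nonempty (G ≃* Cfsg.PSU 3 E (p ^ n))

end CfsgLib.Recog.OddUnitary
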