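import Mathlib

/-!
The field with 25 elements as pairs over `ZMod 5`, and the two finite searches for `q = 5`.
-/

set_option autoImplicit false
set_option synthInstance.maxSize 2000
set_option synthInstance.maxHeartbeats 200000

namespace CfsgLib.Recog.OddUnitary.Five

/-- Pairs `a + b δ`. -/
abbrev P : Type := ZMod 5 × ZMod 5

/-- Product when `δ ^ 2 = s`. -/
def mulP (s : ZMod 5) (x y : P) : P := (x.1 * y.1 + s * x.2 * y.2, x.1 * y.2 + x.2 * y.1)

/-- Conjugate. -/
def cjP (x : P) : P := (x.1, -x.2)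

/-- Norm. -/
def nmP (s : ZMod 5) (x : P) : ZMod 5 := x.1 * x.1 - s * x.2 * x.2

/-- The eighth roots of one, and zero. -/
def axis (x : P) : Bool := decide (x.1 * x.2 = 0)

/-- Multiple. -/
def sm (c : ZMod 5) (x : P) : P := (c * x.1, c * x.2)

/-- Representatives up to sign of the second class. -/
def repA (s : ZMod 5) : List P :=
  if s = 2 then [(1, 1), (2, 2), (1, 3), (2, 1)] else [(1, 1), (2, 2), (1, 2), (2, 4)]

/-- Representatives up to sign of the third class. -/
def repB (s : ZMod 5) : List P :=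
  if s = 2 then [(1, 2), (2, 4), (1, 4), (2, 3)] else [(1, 3), (2, 1), (1, 4), (2, 3)]

/-- The class of an element. -/
def cls (s : ZMod 5) (x : P) : Fin 3 :=
  if axis x then 0 else if axis (mulP s x (1, -1)) then 1 else 2

/-- The triple of representatives. -/
def reps (r1 r2 : P) : Fin 3 → P := ![(1, 0), r1, r2]

/-- The six points. -/
def pts : List (Fin 3 × ZMod 5) := [(0, 1), (1, 1), (2, 1), (0, 4), (1, 4), (2, 4)]

/-- The five points other than the base point. -/
def others (i : Fin 3) : List (Fin 3 × ZMod 5) :=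
  pts.filter fun q => !decide (q.1 = i ∧ q.2 = 1)

/-- First coordinate of a translate. -/
def vxOf (R : Fin 3 → P) (i : Fin 3) (q : Fin 3 × ZMod 5) : P :=
  ((sm q.2 (R q.1)).1 - (R i).1, (sm q.2 (R q.1)).2 - (R i).2)

/-- Centre of a translate, unitary law. -/
def aC (s : ZMod 5) (R : Fin 3 → P) (F : Fin 3 → ZMod 5) (i : Fin 3) (q : Fin 3 × ZMod 5) : ZMod 5 :=
  F i - F q.1 - (mulP s (cjP (R i)) (sm q.2 (R q.1))).2

/-- Centre of a translate, abelian law. -/
def aA (F : Fin 3 → ZMod 5) (i : Fin 3) (q : Fin 3 × ZMod 5) : ZMod 5 := F i - F q.1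

/-- The scalar of the torus on the centre belonging to a norm. -/
def val (inv : Bool) (T : ZMod 5) : ZMod 5 := if inv then T * T * T else T

/-- Scalar and `n` of a translate with centre `a`. -/
def tn (s : ZMod 5) (inv : Bool) (R : Fin 3 → P) (D : ZMod 5) (F : Fin 3 → ZMod 5) (v : P) (a : ZMod 5) :
    ZMod 5 × ZMod 5 :=
  let o := cls s v
  let N := nmP s (R o)
  let T := val inv (nmP s v * (N * N * N))
  let m := a + T * F o
  (T, T * T * D - m * m)

/-- The translates from one base point are consistent. -/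
def oneBase (l : List (ZMod 5 × ZMod 5)) : Bool :=
  (l.all fun x => !decide (x.2 = 0)) &&
    match l with
    | [] => true
    | h :: t => t.all fun x => decide (x.1 * h.2 = h.1 * x.2)

/-- Test of a configuration with the unitary law. -/
def chkC (s : ZMod 5) (R : Fin 3 → P) (D : ZMod 5) (F : Fin 3 → ZMod 5) : Bool :=
  [0, 1, 2].all fun i => oneBase ((others i).map fun q => tn s false R D F (vxOf R i q) (aC s R F i q))

/-- Test of a configuration with the abelian law. -/
def chkA (s : ZMod 5) (inv : Bool) (R : Fin 3 → P) (D : ZMod 5) (F : Fin 3 → ZMod 5) : Bool :=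
  [0, 1, 2].all fun i => oneBase ((others i).map fun q => tn s inv R D F (vxOf R i q) (aA F i q))

/-- All elements. -/
def all5 : List (ZMod 5) := [0, 1, 2, 3, 4]

/-- The expected conclusion of the unitary search. -/
def goalC (s : ZMod 5) (R : Fin 3 → P) (D : ZMod 5) (F : Fin 3 → ZMod 5) : Bool :=
  decide (F 0 = 0) && decide (F 1 = 0) && decide (F 2 = 0) && decide (nmP s (R 1) = 1) &&
    decide (nmP s (R 2) = 1) && decide (D * 4 * s = 1)

/-- The unitary search. -/
def searchC (s : ZMod 5) : Bool :=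
  (repA s).all fun r1 => (repB s).all fun r2 => [1, 2, 3, 4].all fun D => all5.all fun f0 =>
    all5.all fun f1 => all5.all fun f2 =>
      !chkC s (reps r1 r2) D ![f0, f1, f2] || goalC s (reps r1 r2) D ![f0, f1, f2]

/-- The abelian search. -/
def searchA (s : ZMod 5) (inv : Bool) : Bool :=
  (repA s).all fun r1 => (repB s).all fun r2 => [1, 2, 3, 4].all fun D => all5.all fun f0 =>
    all5.all fun f1 => all5.all fun f2 => !chkA s inv (reps r1 r2) D ![f0, f1, f2]

theorem searchC_two : searchC 2 = true := by decide +kernel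

theorem searchC_three : searchC 3 = true := by decide +kernel

theorem searchA_two : searchA 2 false = true := by decide +kernel

theorem searchA_two_inv : searchA 2 true = true := by decide +kernel

theorem searchA_three : searchA 3 false = true := by decide +kernel

theorem searchA_three_inv : searchA 3 true = true := by decide +kernel

theorem mem_all5 : ∀ x : ZMod 5, x ∈ all5 := by decide

theorem mem_units5 : ∀ x : ZMod 5, x ≠ 0 → x ∈ ([1, 2, 3, 4] : List (ZMod 5)) := by decide

theorem not_chkA {s : ZMod 5} (hs : s = 2 ∨ s = 3) (inv : Bool) {r1 r2 : P} (h1 : r1 ∈ repA s)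
    (h2 : r2 ∈ repB s) {D : ZMod 5} (hD : D ≠ 0) (F : Fin 3 → ZMod 5) :
    chkA s inv (reps r1 r2) D F = false := by
  have h : searchA s inv = true := by
    rcases hs with rfl | rfl <;> cases inv
    exacts [searchA_two, searchA_two_inv, searchA_three, searchA_three_inv]
  simp only [searchA, List.all_eq_true, Bool.not_eq_true'] at h
  have := h r1 h1 r2 h2 D (mem_units5 D hD) (F 0) (mem_all5 _) (F 1) (mem_all5 _) (F 2) (mem_all5 _)
  rwa [show ![F 0, F 1, F 2] = F from by funext i; fin_cases i <;> rfl] at this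

theorem goal_of_chkC {s : ZMod 5} (hs : s = 2 ∨ s = 3) {r1 r2 : P} (h1 : r1 ∈ repA s)
    (h2 : r2 ∈ repB s) {D : ZMod 5} (hD : D ≠ 0) {F : Fin 3 → ZMod 5}
    (hc : chkC s (reps r1 r2) D F = true) :
    (∀ o, F o = 0) ∧ (∀ o, nmP s (reps r1 r2 o) = 1) ∧ D * 4 * s = 1 := by
  have h : searchC s = true := by
    rcases hs with rfl | rfl
    exacts [searchC_two, searchC_three]
  simp only [searchC, List.all_eq_true] at h
  have hg := h r1 h1 r2 h2 D (mem_units5 D hD) (F 0) (mem_all5 _) (F 1) (mem_all5 _) (F 2) (mem_all5 _)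
  rw [show ![F 0, F 1, F 2] = F from by funext i; fin_cases i <;> rfl, hc] at hg
  simp only [Bool.not_true, Bool.false_or, goalC, Bool.and_eq_true, decide_eq_true_iff] at hg
  obtain ⟨⟨⟨⟨⟨a0, a1⟩, a2⟩, n1⟩, n2⟩, hDs⟩ := hg
  refine ⟨fun o => by fin_cases o <;> assumption, fun o => ?_, hDs⟩
  fin_cases o
  · simp [reps, nmP]
  · exact n1
  · exact n2

/-- One class per axis translate. -/
theorem cls_eq : ∀ s : ZMod 5, s = 2 ∨ s = 3 → ∀ x y : P, x ≠ 0 → y ≠ 0 →
    (cls s x = cls s y ↔ axis (mulP s y (cjP x)) = true) := by decide +kernel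

theorem cls_one : ∀ s : ZMod 5, s = 2 ∨ s = 3 → ∀ x : P, x ≠ 0 → cls s x = 1 →
    x ∈ repA s ∨ sm 4 x ∈ repA s := by decide +kernel

theorem cls_two : ∀ s : ZMod 5, s = 2 ∨ s = 3 → ∀ x : P, x ≠ 0 → cls s x = 2 →
    x ∈ repB s ∨ sm 4 x ∈ repB s := by decide +kernel

theorem cls_reps : ∀ s : ZMod 5, s = 2 ∨ s = 3 → ∀ r1 ∈ repA s, ∀ r2 ∈ repB s, ∀ o : Fin 3,
    reps r1 r2 o ≠ 0 ∧ cls s (reps r1 r2 o) = o := by decide +kernel

theorem vx_ne : ∀ s : ZMod 5, s = 2 ∨ s = 3 → ∀ r1 ∈ repA s, ∀ r2 ∈ repB s, ∀ i : Fin 3,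
    ∀ q ∈ others i, vxOf (reps r1 r2) i q ≠ 0 := by decide +kernel

theorem nmP_ne : ∀ s : ZMod 5, s = 2 ∨ s = 3 → ∀ x : P, x ≠ 0 → nmP s x ≠ 0 := by decide +kernel

theorem solve_T : ∀ T N M : ZMod 5, N ≠ 0 → T * N = M → T = M * (N * N * N) := by decide +kernel

theorem others_sign : ∀ i : Fin 3, ∀ q ∈ others i, q.2 = 1 ∨ q.2 = 4 := by decide

end CfsgLib.Recog.OddUnitary.Five
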