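import Cfsg.Agent.Lib.Recog.OddUnitary.LabelBlock
import Cfsg.Agent.Lib.Recog.OddUnitary.FiveArith

/-!
`q = 5`: the representatives of one label and the conditions of the finite search.
-/

set_option autoImplicit false
set_option linter.unusedSectionVars false

namespace CfsgLib.Recog.OddUnitary.Five

open MulAction

universe u v

/-- Five is prime, for the local use of the field `ZMod 5`. -/
local instance factFive : Fact (Nat.Prime 5) := ⟨by norm_num⟩

theorem card_units5 : Nat.card {a : ZMod 5 // a ≠ 0} = 4 := by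
  rw [Nat.card_eq_fintype_card]; decide

theorem two_or_three : ∀ s : ZMod 5, s ≠ 0 → (∀ a, a * a ≠ s) → s = 2 ∨ s = 3 := by decide

section Field

variable {E : Type} [Field E]

/-- The pair model of the field with 25 elements. -/
structure Pairs (φ : ZMod 5 →+* E) (δ : E) (s : ZMod 5) : Prop where
  s_mem : s = 2 ∨ s = 3
  sq : δ * δ = φ s
  conj : δ ^ 5 = -δ
  ne : δ ≠ 0
  fix : ∀ a, φ a ^ 5 = φ a
  add5 : ∀ x y : E, (x + y) ^ 5 = x ^ 5 + y ^ 5
  two : (2 : E) ≠ 0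
  card : Nat.card E = 25

/-- The element of a pair. -/
def eP (φ : ZMod 5 →+* E) (δ : E) (x : P) : E := φ x.1 + δ * φ x.2

theorem charP_five (hE : Nat.card E = 25) : CharP E 5 := by
  haveI : Finite E := Nat.finite_of_card_ne_zero (by rw [hE]; norm_num)
  haveI : Fintype E := Fintype.ofFinite E
  exact charP_of_card_eq_prime_pow (f := 2) (by rw [← Nat.card_eq_fintype_card, hE]; norm_num)

/-- A root of unity of order dividing `m` is in any set of `m` such roots. -/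
theorem mem_of_roots [Finite E] {ι : Type*} [Finite ι] {g : ι → Eˣ} (hg : Function.Injective g) {m : ℕ} (hm : 0 < m)
    (hι : Nat.card ι = m) (hpow : ∀ i, g i ^ m = 1) {u : Eˣ} (hu : u ^ m = 1) : ∃ i, g i = u := by
  classical
  haveI := Fintype.ofFinite ι
  haveI := Fintype.ofFinite Eˣ
  have hsub : Finset.univ.image g ⊆ Finset.univ.filter fun x : Eˣ => x ^ m = 1 := fun x hx => by
    obtain ⟨i, -, rfl⟩ := Finset.mem_image.1 hx
    exact Finset.mem_filter.2 ⟨Finset.mem_univ _, hpow i⟩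
  have e := Finset.eq_of_subset_of_card_le hsub (by
    rw [Finset.card_image_of_injective _ hg, Finset.card_univ, ← Nat.card_eq_fintype_card, hι]
    exact IsCyclic.card_pow_eq_one_le hm)
  have hm' : u ∈ Finset.univ.filter fun x : Eˣ => x ^ m = 1 := Finset.mem_filter.2 ⟨Finset.mem_univ _, hu⟩
  rw [← e] at hm'
  obtain ⟨i, -, hi⟩ := Finset.mem_image.1 hm'
  exact ⟨i, hi⟩

theorem exists_delta (hE : Nat.card E = 25) : ∃ δ : E, δ ≠ 0 ∧ δ ^ 5 = -δ := by
  haveI := charP_five hE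
  haveI : Finite E := Nat.finite_of_card_ne_zero (by rw [hE]; norm_num)
  haveI : Fintype E := Fintype.ofFinite E
  obtain ⟨g, hg⟩ := IsCyclic.exists_generator (α := Eˣ)
  have hord : orderOf g = 24 := by
    rw [orderOf_eq_card_of_forall_mem_zpowers hg, Nat.card_units, hE]
  refine ⟨((g ^ 3 : Eˣ) : E), Units.ne_zero _, ?_⟩
  have h1 : (g ^ 12 : Eˣ) ≠ 1 := fun e => by
    have h := orderOf_dvd_of_pow_eq_one e
    rw [hord] at h
    exact absurd h (by norm_num)
  have h2 : ((g ^ 12 : Eˣ) : E) ^ 2 = 1 := by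
    rw [← Units.val_pow_eq_pow_val, ← pow_mul, show 12 * 2 = orderOf g by rw [hord], pow_orderOf_eq_one,
      Units.val_one]
  rcases sq_eq_one_iff.1 h2 with e | e
  · exact absurd (Units.ext e) h1
  · rw [← Units.val_pow_eq_pow_val, ← pow_mul, show 3 * 5 = 12 + 3 from rfl, pow_add, Units.val_mul, e,
      neg_one_mul]

theorem exists_pairs (hE : Nat.card E = 25) {δ : E} (hδ : δ ≠ 0) (hδ5 : δ ^ 5 = -δ) :
    ∃ (φ : ZMod 5 →+* E) (s : ZMod 5), Pairs φ δ s := by
  haveI := charP_five hE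
  haveI : Finite E := Nat.finite_of_card_ne_zero (by rw [hE]; norm_num)
  let φ : ZMod 5 →+* E := ZMod.castHom dvd_rfl E
  have hfix : ∀ a, φ a ^ 5 = φ a := fun a => by rw [← map_pow, ZMod.pow_card]
  have two : (2 : E) ≠ 0 := fun h => by
    have h2 : ((2 : ℕ) : E) = 0 := by simpa using h
    rw [CharP.cast_eq_zero_iff E 5 2] at h2
    norm_num at h2
  have hd4 : δ ^ 4 = -1 := mul_right_cancel₀ hδ (by rw [neg_one_mul, ← hδ5]; ring)
  let g : {a : ZMod 5 // a ≠ 0} → Eˣ := fun a => Units.mk0 (φ a.1) ((map_ne_zero φ).2 a.2)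
  have hg : Function.Injective g := fun a b e =>
    Subtype.ext (φ.injective (congrArg Units.val e))
  have hu : (Units.mk0 (δ * δ) (mul_ne_zero hδ hδ)) ^ 4 = 1 := Units.ext (by
    rw [Units.val_pow_eq_pow_val, Units.val_mk0, Units.val_one, mul_pow, hd4]; ring)
  obtain ⟨⟨s, hs0⟩, hs⟩ := mem_of_roots hg (show 0 < 4 by norm_num) card_units5 (fun a => Units.ext (by
      rw [Units.val_pow_eq_pow_val, Units.val_mk0, Units.val_one, ← map_pow,
        show a.1 ^ 4 = 1 from ZMod.pow_card_sub_one_eq_one a.2, map_one])) hu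
  have hs' : δ * δ = φ s := (congrArg Units.val hs).symm
  refine ⟨φ, s, ?_, hs', hδ5, hδ, hfix, fun x y => add_pow_char x y 5, two, hE⟩
  refine two_or_three s hs0 fun a ha => hδ ?_
  rw [← ha, map_mul] at hs'
  rcases mul_self_eq_mul_self_iff.1 hs' with e | e
  · have h5 := hfix a
    rw [← e, hδ5] at h5
    exact (mul_eq_zero.1 (show (2 : E) * δ = 0 by linear_combination -h5)).resolve_left two
  · have h5 := hfix a
    rw [show φ a = -δ by rw [e, neg_neg], Odd.neg_pow (by decide), hδ5] at h5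
    exact (mul_eq_zero.1 (show (2 : E) * δ = 0 by linear_combination h5)).resolve_left two

variable {φ : ZMod 5 →+* E} {δ : E} {s : ZMod 5}

namespace Pairs

variable (pr : Pairs φ δ s)
include pr

theorem eP_add (x y : P) : eP φ δ x + eP φ δ y = eP φ δ (x + y) := by
  simp only [eP, Prod.fst_add, Prod.snd_add, map_add]; ring

theorem eP_zero : eP φ δ 0 = 0 := by simp [eP]

theorem eP_mul (x y : P) : eP φ δ x * eP φ δ y = eP φ δ (mulP s x y) := by
  simp only [eP, mulP, map_add, map_mul, ← pr.sq]; ring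

theorem eP_conj (x : P) : eP φ δ x ^ 5 = eP φ δ (cjP x) := by
  simp only [eP, cjP, pr.add5, mul_pow, pr.conj, pr.fix, map_neg]; ring

theorem eP_norm (x : P) : eP φ δ x ^ 6 = φ (nmP s x) := by
  rw [pow_succ, pr.eP_conj, pr.eP_mul]
  simp only [eP, mulP, cjP, nmP]
  rw [show x.1 * x.2 + -x.2 * x.1 = 0 by ring, map_zero, mul_zero, add_zero]
  congr 1; ring

theorem eP_inj : Function.Injective (eP φ δ) := by
  intro x y e
  have h5 := congrArg (· ^ 5) e
  simp only [pr.eP_conj] at h5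
  simp only [eP, cjP, map_neg] at e h5
  have h1 : φ x.1 = φ y.1 := mul_left_cancel₀ pr.two (by linear_combination e + h5)
  have h2 : φ x.2 = φ y.2 := mul_left_cancel₀ (mul_ne_zero pr.two pr.ne) (by linear_combination e - h5)
  exact Prod.ext (φ.injective h1) (φ.injective h2)

theorem eP_surj : Function.Surjective (eP φ δ) := by
  haveI : Finite E := Nat.finite_of_card_ne_zero (by rw [pr.card]; norm_num)
  exact ((Nat.bijective_iff_injective_and_card _).2 ⟨pr.eP_inj, by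
    rw [pr.card, Nat.card_eq_fintype_card, Fintype.card_prod, ZMod.card]⟩).2

theorem eP_neg (x : P) : eP φ δ (sm 4 x) = -eP φ δ x := by
  simp only [eP, sm, map_mul, show (4 : ZMod 5) = -1 from by decide, map_neg, map_one]; ring

theorem eP_sm_one (x : P) : sm 1 x = x := by simp [sm]

theorem eP_sub (x y : P) : eP φ δ x - eP φ δ y = eP φ δ (x.1 - y.1, x.2 - y.2) := by
  simp only [eP, map_sub]; ring

theorem half (a : ZMod 5) : φ a / 2 = φ (3 * a) := by
  rw [div_eq_iff pr.two, show (2 : E) = φ 2 from (map_ofNat φ 2).symm, ← map_mul,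
    show 3 * a * 2 = (3 * 2 : ZMod 5) * a by ring, show (3 * 2 : ZMod 5) = 1 by decide, one_mul]

end Pairs

end Field

section Group

variable {G : Type u} {Ω : Type v} [Group G] [MulAction G Ω] {a b : Ω} {U : Subgroup G} {p n : ℕ} {j : G}
  {Z W : Subgroup G} {K E : Type} [Field K] [Field E] {ν : ↥(Hsub G a b) →* Kˣ} {ζ : G → K}
  {Φ : ↥(Hsub G a b) →* Eˣ} {ξ : G → E}

theorem exists_psi (f : Frame G a b U p n j Z W K E ν ζ Φ ξ) (hq : p ^ n = 5) :
    ∃ ψ : ZMod 5 →+* K, Function.Bijective ψ := by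
  have hK : Nat.card K = 5 := by rw [f.card_K, hq]
  haveI : Finite K := Nat.finite_of_card_ne_zero (by rw [hK]; norm_num)
  haveI : Fintype K := Fintype.ofFinite K
  haveI : CharP K 5 := charP_of_card_eq_prime_pow (f := 1) (by rw [← Nat.card_eq_fintype_card, hK]; norm_num)
  exact ⟨ZMod.castHom dvd_rfl K, (Nat.bijective_iff_injective_and_card _).2
    ⟨(ZMod.castHom dvd_rfl K).injective, by rw [hK, Nat.card_zmod]⟩⟩

variable (f : Frame G a b U p n j Z W K E ν ζ Φ ξ) (hq : p ^ n = 5) {φ : ZMod 5 →+* E} {δ : E} {s : ZMod 5}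
  (pr : Pairs φ δ s)
include f hq

theorem card_W_five : Nat.card W = 2 := by
  have h := f.card_W
  rw [hq] at h
  norm_num at h
  omega

theorem card_H_five : Nat.card ↥(Hsub G a b) = 8 := by
  have h := f.card_H
  rw [hq, show Nat.gcd 3 (5 + 1) = 3 from rfl, show (5 : ℕ) ^ 2 - 1 = 3 * 8 from rfl] at h
  exact Nat.eq_of_mul_eq_mul_left (by norm_num) h

theorem W_five {w : G} (hw : w ∈ W) : w = 1 ∨ w = j := by
  classical
  haveI := f.finite
  haveI := Fintype.ofFinite W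
  by_contra hne
  push Not at hne
  have hsub : ({⟨1, one_mem W⟩, ⟨j, f.j_W⟩, ⟨w, hw⟩} : Finset W) ⊆ Finset.univ := Finset.subset_univ _
  have h := Finset.card_le_card hsub
  rw [Finset.card_univ, ← Nat.card_eq_fintype_card, card_W_five f hq, Finset.card_insert_of_notMem (by
    simp [Subtype.ext_iff, f.j_ne.symm, Ne.symm hne.1]), Finset.card_insert_of_notMem (by
    simp [Subtype.ext_iff, Ne.symm hne.2]), Finset.card_singleton] at h
  omega

theorem phi_j : (Φ ⟨j, f.j_mem⟩ : E) = -1 := by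
  have h2 : (Φ ⟨j, f.j_mem⟩ : E) ^ 2 = 1 := by
    rw [← Units.val_pow_eq_pow_val, ← map_pow, show (⟨j, f.j_mem⟩ : ↥(Hsub G a b)) ^ 2 = 1 from
      Subtype.ext (by rw [Subgroup.coe_pow, pow_two, f.j_sq, Subgroup.coe_one]), map_one, Units.val_one]
  refine (sq_eq_one_iff.1 h2).resolve_left fun e => f.j_ne ?_
  have := f.phi_inj (a₁ := ⟨j, f.j_mem⟩) (a₂ := 1) (by rw [map_one]; exact Units.ext e)
  exact congrArg Subtype.val this

theorem xi_j {x : G} (hx : x ∈ U) : ξ (j * x * j⁻¹) = -ξ x := by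
  rw [f.xi_scale ⟨j, f.j_mem⟩ x hx, phi_j f hq, neg_one_mul]

include pr

/-- The torus image is the axis. -/
theorem exists_phi {v r : P} (hv : v ≠ 0) (hr : r ≠ 0) (e : cls s r = cls s v) :
    ∃ k : ↥(Hsub G a b), eP φ δ v = (Φ k : E) * eP φ δ r := by
  haveI : Finite E := Nat.finite_of_card_ne_zero (by rw [pr.card]; norm_num)
  haveI := f.finite
  have hax := (cls_eq s pr.s_mem r v hr hv).1 e
  set w := mulP s v (cjP r) with hw
  set N := nmP s r
  have hN : N ≠ 0 := nmP_ne s pr.s_mem r hr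
  set c : P := sm (N * N * N) w with hc
  have hN4 : ∀ N : ZMod 5, N ≠ 0 → N * N * N * N = 1 := by decide
  have hcr : eP φ δ c * eP φ δ r = eP φ δ v := by
    rw [pr.eP_mul]
    congr 1
    have e1 : mulP s c r = sm (N * N * N * N) v := by
      simp only [hc, hw, mulP, sm, cjP, N, nmP, Prod.mk.injEq]
      constructor <;> ring
    rw [e1, hN4 N hN, pr.eP_sm_one]
  have hc0 : eP φ δ c ≠ 0 := fun h0 => by
    rw [h0, zero_mul] at hcr
    exact hv (pr.eP_inj (hcr.symm.trans pr.eP_zero.symm))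
  have h8 : eP φ δ c ^ 8 = 1 := by
    have hax' : c.1 * c.2 = 0 := by
      simp only [axis, decide_eq_true_iff] at hax
      simp only [hc, sm]
      linear_combination (N * N * N * (N * N * N)) * hax
    have hne : c ≠ 0 := fun h => hc0 (by rw [h, pr.eP_zero])
    have hp8 : ∀ x : ZMod 5, x ≠ 0 → x ^ 8 = 1 := by decide
    rcases mul_eq_zero.1 hax' with h | h
    · have h' : c.2 ≠ 0 := fun h2 => hne (Prod.ext h h2)
      have hs0 : s ^ 4 = 1 := by rcases pr.s_mem with h | h <;> rw [h] <;> decide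
      rw [eP, h, map_zero, zero_add, mul_pow, ← map_pow, hp8 _ h', map_one, mul_one,
        show δ ^ 8 = (δ * δ) ^ 4 by ring, pr.sq, ← map_pow, hs0, map_one]
    · have h' : c.1 ≠ 0 := fun h1 => hne (Prod.ext h1 h)
      rw [eP, h, map_zero, mul_zero, add_zero, ← map_pow, hp8 _ h', map_one]
  obtain ⟨k, hk⟩ := mem_of_roots (g := fun k : ↥(Hsub G a b) => Φ k) f.phi_inj (show 0 < 8 by norm_num)
    (card_H_five f hq) (fun k => by
      rw [← map_pow, ← card_H_five f hq, pow_card_eq_one', map_one])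
    (u := Units.mk0 _ hc0) (Units.ext (by rw [Units.val_pow_eq_pow_val, Units.val_mk0, Units.val_one, h8]))
  exact ⟨k, by rw [← hcr, hk, Units.val_mk0]⟩

variable {t : G} (h1 : f.OneInvol) (ht : f.Inv t) (h2 : f.Blocks)
include h1 ht h2

/-- One label with a point over `1` and one in each other class. -/
theorem exists_config : ∃ (r1 r2 : P) (h : ↥(Hsub G a b)) (X : Fin 3 → G), r1 ∈ repA s ∧ r2 ∈ repB s ∧
    ∀ o, X o ∈ U ∧ f.Lbl t (X o • b) 0 h ∧ ξ (X o) = eP φ δ (reps r1 r2 o) := by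
  classical
  haveI := f.finite_pts
  haveI := Fintype.ofFinite Ω
  obtain ⟨x, hx, hxi⟩ := f.xi_surj (eP φ δ (1, 0))
  have hxZ : x ∉ Z := fun hz => by
    have h0 := (f.xi_zero x hx).2 hz
    rw [hxi, ← pr.eP_zero] at h0
    exact absurd (pr.eP_inj h0) (by decide)
  obtain ⟨m, h, l⟩ := f.exists_lbl h1 ht ((f.moved_iff hx).2 hxZ)
  have l0 := f.lbl_shift h1 ht l (f.zz_mem (-m))
  rw [f.zeta_zz, neg_add_cancel] at l0
  set x0 := f.zz (-m) * x with hx0def
  have hx0 : x0 ∈ U := mul_mem (f.zz_U _) hx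
  have hx0i : ξ x0 = eP φ δ (1, 0) := by
    rw [hx0def, f.xi_add _ (f.zz_U _) _ hx, (f.xi_zero _ (f.zz_U _)).2 (f.zz_mem _), zero_add, hxi]
  -- every class meets the label
  have hall : ∀ o : Fin 3, ∃ (y : G) (r : P), y ∈ U ∧ f.Lbl t (y • b) 0 h ∧ ξ y = eP φ δ r ∧ r ≠ 0 ∧
      cls s r = o := by
    intro o
    by_contra hne
    let S := {c : Ω // f.iEl (t := t) (0 : K) h • c = c}
    have hS : Nat.card S = 6 := by rw [h2 _ (x0 • b) l0.invol l0.fixes, hq]
    have hpt : ∀ c : S, ∃ (y : G) (r : P), y ∈ U ∧ y • b = c.1 ∧ ξ y = eP φ δ r ∧ r ≠ 0 ∧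
        f.Lbl t (y • b) 0 h := by
      intro c
      have lc := f.lbl_of_fix h1 ht l0 c.2
      obtain ⟨y, hy, hyZ, hyb⟩ := f.exists_moved lc.moved
      obtain ⟨r, hr⟩ := pr.eP_surj (ξ y)
      exact ⟨y, r, hy, hyb, hr.symm,
        fun e => hyZ ((f.xi_zero y hy).1 (by rw [← hr, e, pr.eP_zero])), hyb ▸ lc⟩
    choose y r hy hyb hyr hr0 hyl using hpt
    haveI : Fintype S := Fintype.ofFinite S
    have himg : ∀ c : S, cls s (r c) ≠ o := fun c e => hne ⟨y c, r c, hy c, hyl c, hyr c, hr0 c, e⟩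
    have hfib : ∀ o' ∈ Finset.univ.erase o,
        (Finset.univ.filter fun c : S => cls s (r c) = o').card ≤ 2 := by
      intro o' _
      by_contra hbig
      push Not at hbig
      obtain ⟨c1, c2, c3, m1, m2, m3, h12, h13, h23⟩ := Finset.two_lt_card_iff.1 hbig
      rw [Finset.mem_filter] at m1 m2 m3
      have key : ∀ c c' : S, cls s (r c) = cls s (r c') → y c' = y c ∨ y c' = j * y c * j⁻¹ := by
        intro c c' e
        obtain ⟨k, hk⟩ := exists_phi f hq pr (hr0 c') (hr0 c) e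
        rw [← hyr, ← hyr] at hk
        rcases W_five f hq (f.coset_unique h1 ht h2 (hy c) (hy c') (hyl c) (hyl c') k hk) with e1 | e1
        · left
          refine f.eq_of_lbl h1 ht (hy c') (hy c) (hyl c') (hyl c) ?_
          rw [hk, show k = 1 from Subtype.ext e1, map_one, Units.val_one, one_mul]
        · right
          have lj : f.Lbl t ((j * y c * j⁻¹) • b) 0 h := by
            rw [f.H_smul_pt ⟨j, f.j_mem⟩]; exact f.lbl_W h1 ht (hyl c) f.j_W
          refine f.eq_of_lbl h1 ht (hy c') (f.conj_U ⟨j, f.j_mem⟩ (hy c)) (hyl c') lj ?_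
          rw [hk, show k = ⟨j, f.j_mem⟩ from Subtype.ext e1, f.xi_scale ⟨j, f.j_mem⟩ _ (hy c)]
      have hinj : ∀ c c' : S, y c = y c' → c = c' := fun c c' e =>
        Subtype.ext (by rw [← hyb c, ← hyb c', e])
      rcases key c1 c2 (m1.2.trans m2.2.symm) with e2 | e2
      · exact h12 (hinj _ _ e2).symm
      rcases key c1 c3 (m1.2.trans m3.2.symm) with e3 | e3
      · exact h13 (hinj _ _ e3).symm
      exact h23 (hinj _ _ (e2.trans e3.symm))
    have hle := Finset.card_le_mul_card_image_of_maps_to (s := (Finset.univ : Finset S))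
      (t := Finset.univ.erase o) (f := fun c => cls s (r c))
      (fun c _ => Finset.mem_erase.2 ⟨himg c, Finset.mem_univ _⟩) 2 hfib
    rw [Finset.card_univ, ← Nat.card_eq_fintype_card, hS, Finset.card_erase_of_mem (Finset.mem_univ o),
      Finset.card_univ, Fintype.card_fin] at hle
    omega
  have hpick : ∀ (o : Fin 3) (L : List P),
      (∀ x : P, x ≠ 0 → cls s x = o → x ∈ L ∨ sm 4 x ∈ L) →
      ∃ (r : P) (y : G), r ∈ L ∧ y ∈ U ∧ f.Lbl t (y • b) 0 h ∧ ξ y = eP φ δ r := by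
    intro o L hL
    obtain ⟨y, r, hy, hyl, hyr, hr0, hro⟩ := hall o
    rcases hL r hr0 hro with e | e
    · exact ⟨r, y, e, hy, hyl, hyr⟩
    · refine ⟨sm 4 r, j * y * j⁻¹, e, f.conj_U ⟨j, f.j_mem⟩ hy, ?_, ?_⟩
      · rw [f.H_smul_pt ⟨j, f.j_mem⟩]; exact f.lbl_W h1 ht hyl f.j_W
      · rw [xi_j f hq hy, hyr, pr.eP_neg]
  obtain ⟨r1, y1, e1, hy1, l1, i1⟩ := hpick 1 (repA s) (cls_one s pr.s_mem)
  obtain ⟨r2, y2, e2, hy2, l2, i2⟩ := hpick 2 (repB s) (cls_two s pr.s_mem)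
  refine ⟨r1, r2, h, ![x0, y1, y2], e1, e2, fun o => ?_⟩
  fin_cases o
  · exact ⟨hx0, l0, hx0i⟩
  · exact ⟨hy1, l1, i1⟩
  · exact ⟨hy2, l2, i2⟩

omit hq pr h1 ht h2 in
/-- The centre coordinate is compatible with shifts and the torus. -/
def Alpha (_f : Frame G a b U p n j Z W K E ν ζ Φ ξ) (ψ : ZMod 5 →+* K) (α : G → ZMod 5) : Prop :=
  (∀ x ∈ U, ∀ z ∈ Z, ψ (α (z * x)) = ζ z + ψ (α x)) ∧
    ∀ x ∈ U, ∀ k : ↥(Hsub G a b), ψ (α ((k : G) * x * (k : G)⁻¹)) = (ν k : K) * ψ (α x)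

variable {ψ : ZMod 5 →+* K} {α : G → ZMod 5} (hα : Alpha f ψ α) {inv : Bool}
  (hν : ∀ (k : ↥(Hsub G a b)) (T : ZMod 5), (Φ k : E) ^ 6 = φ T → (ν k : K) = ψ (val inv T))
  {r1 r2 : P} {h : ↥(Hsub G a b)} {X : Fin 3 → G} (hr1 : r1 ∈ repA s) (hr2 : r2 ∈ repB s)
  (hX : ∀ o, X o ∈ U ∧ f.Lbl t (X o • b) 0 h ∧ ξ (X o) = eP φ δ (reps r1 r2 o)) {D : ZMod 5}
  (hD : ψ D = (ν h : K))
include hα hν hr1 hr2 hX hD

/-- The label of any point off the line. -/
theorem label_of {x : G} (hx : x ∈ U) {v : P} (hv : v ≠ 0) (hxv : ξ x = eP φ δ v) :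
    ∃ k : ↥(Hsub G a b), (ν k : K) = ψ (tn s inv (reps r1 r2) D (fun o => -α (X o)) v (α x)).1 ∧
      f.Lbl t (x • b)
        (ψ (α x + (tn s inv (reps r1 r2) D (fun o => -α (X o)) v (α x)).1 * -α (X (cls s v))))
        (f.Lam ht k * h) ∧
      (ν (f.Lam ht k * h) : K) = (ν k : K) * (ν k : K) * ψ D := by
  set o := cls s v with ho
  obtain ⟨hr0, hro⟩ := cls_reps s pr.s_mem r1 hr1 r2 hr2 o
  obtain ⟨hXU, hXl, hXi⟩ := hX o
  obtain ⟨k, hk⟩ := exists_phi f hq pr hv hr0 (by rw [hro])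
  have hnorm := congrArg (· ^ 6) hk
  simp only [mul_pow, pr.eP_norm] at hnorm
  set N := nmP s (reps r1 r2 o)
  have hN : N ≠ 0 := nmP_ne s pr.s_mem _ hr0
  have hN4 : ∀ N : ZMod 5, N ≠ 0 → N * (N * N * N) = 1 := by decide
  have hk6 : (Φ k : E) ^ 6 = φ (nmP s v * (N * N * N)) := by
    rw [map_mul φ, hnorm, mul_assoc, ← map_mul φ, hN4 N hN, map_one, mul_one]
  have hνk : (ν k : K) = ψ (tn s inv (reps r1 r2) D (fun o => -α (X o)) v (α x)).1 := hν k _ hk6
  refine ⟨k, hνk, ?_, by rw [map_mul, f.nu_Lam ht, Units.val_mul, Units.val_mul, hD]⟩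
  obtain ⟨z, hz, hxz⟩ := f.xi_eq (f.conj_U k hXU) hx (by rw [f.xi_scale k _ hXU, hXi, hxv, hk])
  have hl := f.lbl_shift h1 ht (f.lbl_conj h1 ht hXl k) hz
  rw [← hxz, mul_zero, add_zero] at hl
  have ha := hα.1 _ (f.conj_U k hXU) z hz
  rw [← hxz, hα.2 _ hXU k, hνk] at ha
  rw [map_add, map_mul, map_neg, show ψ (α x) + ψ (tn s inv (reps r1 r2) D (fun o => -α (X o)) v (α x)).1 *
    -ψ (α (X o)) = ζ z by rw [ha]; ring]
  exact hl

omit hν hr1 hr2 hD in
/-- A chosen one of the six points. -/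
def pick (_f : Frame G a b U p n j Z W K E ν ζ Φ ξ) (X : Fin 3 → G) (q : Fin 3 × ZMod 5) : G :=
  if q.2 = 1 then X q.1 else j * X q.1 * j⁻¹

theorem pick_spec {i : Fin 3} {q : Fin 3 × ZMod 5} (hmem : q ∈ others i) :
    pick f X q ∈ U ∧ f.Lbl t (pick f X q • b) 0 h ∧
      ξ (pick f X q) = eP φ δ (sm q.2 (reps r1 r2 q.1)) ∧ α (pick f X q) = α (X q.1) := by
  obtain ⟨hU', hl', hi'⟩ := hX q.1
  rcases others_sign i q hmem with e | e
  · rw [pick, if_pos e, e, pr.eP_sm_one]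
    exact ⟨hU', hl', hi', rfl⟩
  · rw [pick, if_neg (by rw [e]; decide), e]
    refine ⟨f.conj_U ⟨j, f.j_mem⟩ hU', ?_, by rw [xi_j f hq hU', hi', pr.eP_neg], ψ.injective ?_⟩
    · rw [f.H_smul_pt ⟨j, f.j_mem⟩]; exact f.lbl_W h1 ht hl' f.j_W
    · rw [hα.2 _ hU' ⟨j, f.j_mem⟩, f.nu_j, Units.val_one, one_mul]

/-- The translates from one of the three points pass the test. -/
theorem oneBase_ok (i : Fin 3) {A : Fin 3 × ZMod 5 → ZMod 5}
    (hA : ∀ q ∈ others i, α ((X i)⁻¹ * pick f X q) = A q) :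
    oneBase ((others i).map fun q =>
      tn s inv (reps r1 r2) D (fun o => -α (X o)) (vxOf (reps r1 r2) i q) (A q)) = true := by
  obtain ⟨hxU, hxl, hxi⟩ := hX i
  set R := reps r1 r2
  set F := fun o => -α (X o)
  -- data of one translate
  have key : ∀ q ∈ others i, ∃ (k : ↥(Hsub G a b)) (m : K),
      (ν k : K) = ψ (tn s inv R D F (vxOf R i q) (A q)).1 ∧
      f.Lbl t (((X i)⁻¹ * pick f X q) • b) m (f.Lam ht k * h) ∧
      (ν (f.Lam ht k * h) : K) - m * m = ψ (tn s inv R D F (vxOf R i q) (A q)).2 := by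
    intro q hmem
    obtain ⟨hyU, hyl, hyi, hyα⟩ := pick_spec f hq pr h1 ht h2 hα hν hr1 hr2 hX hD hmem
    have hvU : (X i)⁻¹ * pick f X q ∈ U := mul_mem (inv_mem hxU) hyU
    have hvi : ξ ((X i)⁻¹ * pick f X q) = eP φ δ (vxOf R i q) := by
      rw [f.xi_add _ (inv_mem hxU) _ hyU, f.xi_inv hxU, hxi, hyi, neg_add_eq_sub, pr.eP_sub]; rfl
    obtain ⟨k, hk1, hk2, hk3⟩ := label_of f hq pr h1 ht h2 hα hν hr1 hr2 hX hD hvU
      (vx_ne s pr.s_mem r1 hr1 r2 hr2 i q hmem) hvi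
    rw [hA q hmem] at hk1 hk2
    refine ⟨k, _, hk1, hk2, ?_⟩
    rw [hk3, hk1, ← map_mul ψ, ← map_mul ψ, ← map_mul ψ, ← map_sub ψ]
    rfl
  have hne : ∀ q ∈ others i, (tn s inv R D F (vxOf R i q) (A q)).2 ≠ 0 := fun q hmem e => by
    obtain ⟨k, m, -, hl, hn⟩ := key q hmem
    exact f.lbl_n_ne h1 ht hl (by rw [hn, e, map_zero])
  have hrel : ∀ q ∈ others i, ∀ q' ∈ others i,
      (tn s inv R D F (vxOf R i q) (A q)).1 * (tn s inv R D F (vxOf R i q') (A q')).2 =
      (tn s inv R D F (vxOf R i q') (A q')).1 * (tn s inv R D F (vxOf R i q) (A q)).2 := by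
    intro q hmem q' hmem'
    obtain ⟨k, m, hk, hl, hn⟩ := key q hmem
    obtain ⟨k', m', hk', hl', hn'⟩ := key q' hmem'
    obtain ⟨-, hyl, -, -⟩ := pick_spec f hq pr h1 ht h2 hα hν hr1 hr2 hX hD hmem
    obtain ⟨-, hyl', -, -⟩ := pick_spec f hq pr h1 ht h2 hα hν hr1 hr2 hX hD hmem'
    have e := f.block_translate h1 ht hxl hyl hyl' hl hl'
    rw [hn, hn', ← f.lam_nu ht k, ← f.lam_nu ht k', hk, hk'] at e
    have hn0 := (map_ne_zero ψ).2 (hne q hmem)
    have hn0' := (map_ne_zero ψ).2 (hne q' hmem')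
    have hT := (ν k).ne_zero
    have hT' := (ν k').ne_zero
    rw [hk] at hT; rw [hk'] at hT'
    have := f.ratio_eq h1 ht h2 hT hT' hn0 hn0' e
    rw [div_eq_div_iff hn0 hn0', ← map_mul, ← map_mul] at this
    exact ψ.injective this
  unfold oneBase
  rw [Bool.and_eq_true, List.all_eq_true]
  constructor
  · intro x hx
    obtain ⟨q, hmem, rfl⟩ := List.mem_map.1 hx
    simp [hne q hmem]
  · cases hl : others i with
    | nil => rfl
    | cons q0 rest =>
      simp only [List.map_cons, List.all_eq_true, List.mem_map, decide_eq_true_iff]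
      rintro x ⟨q, hmem, rfl⟩
      exact hrel q (by rw [hl]; exact List.mem_cons_of_mem _ hmem) q0 (by rw [hl]; exact List.mem_cons_self ..)

end Group

end CfsgLib.Recog.OddUnitary.Five
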