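import Cfsg.Agent.Lib.Recog.OddUnitary.Ctx
import Cfsg.Agent.Lib.Recog.OddUnitary.Torus

/-!
The labels as functions of the norm, and the normalised swap on the second coordinate.
-/

set_option autoImplicit false
set_option linter.unusedSectionVars false
set_option linter.style.haveILetI false

namespace CfsgLib.Recog.OddUnitary

open MulAction

universe u v

variable {G : Type u} {Ω : Type v} [Group G] [MulAction G Ω] {a b : Ω} {U : Subgroup G} {p n : ℕ} {j : G}
  {Z W : Subgroup G} {K E : Type} [Field K] [Field E] {π : Ω ≃ Option (Uni E (p ^ n))}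
  {χ : ↥(Hsub G a b) →* Eˣ} {ι : K →+* E} {δ : E} {ν : ↥(Hsub G a b) →* Kˣ} {ζ : G → K} {ξ : G → E} {t : G}

namespace Ctx

variable (C : Ctx G a b U p n j Z W K E π χ ι δ ν ζ ξ t)
include C

theorem moved_of_fst {c : Ω} {v : E × E} (hv : raw π c = some v) (h : v.1 ≠ 0) : j • c ≠ c := by
  intro e
  obtain ⟨k, rfl⟩ := C.frame.exists_pt (c := c) (fun e' => by
    subst e'
    rw [raw, C.coord.pi_a] at hv
    cases hv) e
  rw [C.raw_zz, Option.some_inj] at hv
  exact h (by rw [← hv])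

theorem fst_of_moved {c : Ω} {v : E × E} (hv : raw π c = some v) (h : j • c ≠ c) : v.1 ≠ 0 := by
  obtain ⟨x, hx, hxZ, rfl⟩ := C.frame.exists_moved h
  intro e
  exact hxZ ((C.coord.mem_Z x hx).2 fun u hu => by rw [hv, Option.some_inj] at hu; rw [← hu]; exact e)

theorem snd_ne_zero {c : Ω} {v : E × E} (hv : raw π c = some v) (h : v ≠ (0, 0)) : v.2 ≠ 0 := by
  intro e
  have := C.raw_eqn hv
  rw [e, zero_pow C.frob.ne_zero, add_zero] at this
  exact h (Prod.ext ((pow_eq_zero_iff (Nat.succ_ne_zero _)).1 this.symm) e)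

theorem norm_fix' {c : Ω} {v : E × E} (hv : raw π c = some v) :
    (v.1 ^ (p ^ n + 1)) ^ (p ^ n) = v.1 ^ (p ^ n + 1) := by
  rw [← C.raw_eqn hv, C.frob.add, C.frob.twice, add_comm]

theorem exists_norm (k : K) (hk : k ≠ 0) : ∃ h, (χ h : E) ^ (p ^ n + 1) = ι k := by
  obtain ⟨h, hh⟩ := C.frame.nu_surj (Units.mk0 k hk)
  exact ⟨h, by rw [← C.nu, hh, Units.val_mk0]⟩

theorem two_eq : ι (2 : K) = 2 := by rw [show (2 : K) = 1 + 1 from one_add_one_eq_two.symm, map_add, map_one, one_add_one_eq_two]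

/-- `h₀` labels the circle `x^(q+1) = 2`, `y = 1`. -/
structure Unit (C : Ctx G a b U p n j Z W K E π χ ι δ ν ζ ξ t) (h₀ : ↥(Hsub G a b)) : Prop where
  circle : ∀ (c : Ω) (X : E), raw π c = some (X, 1) → X ^ (p ^ n + 1) = 2 → C.frame.Lbl t c 0 h₀
  norm : ι (ν h₀ : K) * δ ^ 2 = 1

variable (hc : Centred C.frame π ι δ t) (hci : Circles C.frame π t)
include hc hci

theorem exists_unit : ∃ h₀, C.Unit h₀ := by
  classical
  haveI : Finite E := C.frame.finite_E
  haveI : Fintype E := Fintype.ofFinite E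
  haveI := C.frame.finite_pts
  have h2 : (2 : E) ≠ 0 := C.frob.two
  obtain ⟨g, hg⟩ := C.exists_norm 2 C.frame.two_ne
  rw [C.two_eq] at hg
  obtain ⟨x, hx, hxv⟩ := C.exists_pt (v := ((χ g : E), 1)) (by rw [one_pow, hg, one_add_one_eq_two])
  have hmoved := C.moved_of_fst hxv (χ g).ne_zero
  obtain ⟨m, h₀, l⟩ := C.frame.exists_lbl C.one C.inv hmoved
  obtain ⟨e1, e2⟩ := hc _ _ m h₀ l hxv
  simp only [hg] at e1 e2
  have hm : m = 0 := by
    apply (map_eq_zero ι).1
    rw [div_self h2, sub_self] at e1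
    exact (mul_eq_zero.1 e1).resolve_left C.delta_ne
  subst hm
  refine ⟨h₀, fun c X hcX hX => ?_, ?_⟩
  · set i := C.frame.iEl (t := t) (0 : K) h₀
    let S := (Polynomial.nthRootsFinset (p ^ n + 1) (2 : E))
    have hfix : ∀ d : {d : Ω // i • d = d}, ∃ X : S, raw π d.1 = some ((X : E), 1) := by
      rintro ⟨d, hd⟩
      have ld := C.frame.lbl_of_fix C.one C.inv l hd
      obtain ⟨v, hv, -⟩ := C.raw_ex (c := d) (fun e' => ld.moved (by rw [e', C.frame.j_a]))
      have hN := hci _ _ v _ _ _ ld l hv hxv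
      simp only [hg] at hN
      obtain ⟨ey, -⟩ := hc _ v _ _ ld hv
      rw [map_zero, mul_zero, hN, div_self h2] at ey
      refine ⟨⟨v.1, (Polynomial.mem_nthRootsFinset (Nat.succ_pos _) _).2 hN⟩, ?_⟩
      rw [hv]
      exact congrArg some (Prod.ext rfl (by linear_combination -ey))
    choose F hF using hfix
    have hinj : Function.Injective F := fun d d' e' => Subtype.ext (C.raw_inj (by rw [hF, hF, e']))
    haveI : Fintype {d : Ω // i • d = d} := Fintype.ofFinite _
    have hle : Fintype.card {d : Ω // i • d = d} ≤ Fintype.card S := Fintype.card_le_of_injective F hinj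
    have hSle : Fintype.card S ≤ p ^ n + 1 := by
      rw [Fintype.card_coe]
      simp only [S, Polynomial.nthRootsFinset_def]
      exact (Multiset.toFinset_card_le _).trans (Polynomial.card_nthRoots _ _)
    have hcard := C.blocks i _ l.invol l.fixes
    rw [Nat.card_eq_fintype_card] at hcard
    have hbij : Function.Bijective F :=
      (Fintype.bijective_iff_injective_and_card F).2 ⟨hinj, by omega⟩
    obtain ⟨d, hd⟩ := hbij.2 ⟨X, (Polynomial.mem_nthRootsFinset (Nat.succ_pos _) _).2 hX⟩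
    have hdc : d.1 = c := C.raw_inj (by rw [hF, hd, hcX])
    exact C.frame.lbl_of_fix C.one C.inv l (hdc ▸ d.2)
  · have h22 : (2 : E) ^ 2 ≠ 0 := pow_ne_zero 2 h2
    exact mul_left_cancel₀ h22 (by linear_combination e2)

variable {h₀ : ↥(Hsub G a b)} (hu : C.Unit h₀)
include hu

theorem lbl_norm {c : Ω} {v : E × E} {m : K} {h : ↥(Hsub G a b)} (l : C.frame.Lbl t c m h)
    (hv : raw π c = some v) (k : K) (hk : ι k * 2 = v.1 ^ (p ^ n + 1)) :
    h = C.frame.lam C.inv k * h₀ := by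
  have h2 : (2 : E) ≠ 0 := C.frob.two
  have hX := C.fst_of_moved hv l.moved
  have hk0 : k ≠ 0 := fun e => pow_ne_zero (p ^ n + 1) hX (by rw [← hk, e, map_zero, zero_mul])
  obtain ⟨g, hg⟩ := C.frame.nu_surj (Units.mk0 k hk0)
  have hg' : (ν g : K) = k := by rw [hg, Units.val_mk0]
  have hgN : (χ g : E) ^ (p ^ n + 1) = ι k := by rw [← C.nu, hg']
  obtain ⟨ey, -⟩ := hc c v m h l hv
  set X : E := v.1 / (χ g : E)
  have hXN : X ^ (p ^ n + 1) = 2 := by
    rw [div_pow, ← hk, hgN, mul_div_cancel_left₀ _ ((map_ne_zero ι).2 hk0)]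
  obtain ⟨x, hx, hxv⟩ := C.exists_pt (v := (X, 1)) (by rw [one_pow, hXN, one_add_one_eq_two])
  have L := C.frame.lbl_zz C.one C.inv (C.frame.lbl_conj C.one C.inv (hu.circle _ X hxv hXN) g) m
  have hcoord : raw π (C.frame.zz m • ((g : G) * x * (g : G)⁻¹) • b) = raw π c := by
    rw [smul_smul, C.raw_shift (C.frame.zz_mem m) (C.raw_conj g hxv), C.frame.zeta_zz, hv, scRaw, hgN]
    refine congrArg some (Prod.ext ?_ ?_)
    · show (χ g : E) * X = v.1
      rw [mul_div_cancel₀ _ (χ g).ne_zero]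
    · show δ * ι m + ι k * 1 = v.2
      field_simp at ey
      exact mul_left_cancel₀ h2 (by linear_combination ey + hk)
  rw [C.raw_inj hcoord] at L
  rw [(C.frame.lbl_unique C.one C.inv l L).2, ← hg', C.frame.lam_nu]

/-- The normalised swap inverts the second coordinate. -/
theorem inv_snd {c : Ω} {v : E × E} (hv : raw π c = some v) (hv0 : v ≠ (0, 0)) :
    ∃ X' : E, raw π (((h₀ : G) * t) • c) = some (X', 1 / v.2) ∧ (v.1 = 0 → X' = 0) ∧
      (v.1 ≠ 0 → X' ≠ 0) := by
  have h2 : (2 : E) ≠ 0 := C.frob.two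
  have hy := C.snd_ne_zero hv hv0
  by_cases hX : v.1 = 0
  · refine ⟨0, ?_, fun _ => rfl, fun h => absurd hX h⟩
    have hca : c ≠ a := fun e => by rw [e, raw, C.coord.pi_a] at hv; cases hv
    have hjc : j • c = c := by
      by_contra hne
      exact C.fst_of_moved hv hne hX
    obtain ⟨k, rfl⟩ := C.frame.exists_pt hca hjc
    rw [C.raw_zz, Option.some_inj] at hv
    subst hv
    have hk : k ≠ 0 := by rintro rfl; exact hv0 (by rw [map_zero, mul_zero])
    rw [mul_smul, C.inv.line k hk, C.frame.H_pt, C.raw_zz, map_mul, map_inv₀]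
    refine congrArg some (Prod.ext rfl ?_)
    show δ * (ι (ν h₀ : K) * (ι k)⁻¹) = 1 / (δ * ι k)
    have : ι k ≠ 0 := (map_ne_zero ι).2 hk
    have := C.delta_ne
    field_simp
    linear_combination hu.norm
  · obtain ⟨m, h, l⟩ := C.frame.exists_lbl C.one C.inv (C.moved_of_fst hv hX)
    have hn := C.frame.lbl_n_ne C.one C.inv l
    obtain ⟨ey, eD⟩ := hc c v m h l hv
    set N : E := v.1 ^ (p ^ n + 1) with hN
    obtain ⟨k₂, hk₂⟩ := (C.fixed N).1 (C.norm_fix' hv)
    set k : K := k₂ / 2 with hk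
    have hk' : ι k * 2 = N := by rw [hk, map_div₀, C.two_eq, hk₂, div_mul_cancel₀ _ h2]
    have hh := C.lbl_norm hc hci hu l hv k hk'
    have hk0 : k ≠ 0 := fun e => pow_ne_zero (p ^ n + 1) hX (by rw [← hN, ← hk', e, map_zero, zero_mul])
    have L := C.frame.lbl_H C.one C.inv (C.frame.lbl_t C.one C.inv l) h₀
    rw [smul_smul] at L
    set n₀ : K := (ν h : K) - m * m with hn₀
    obtain ⟨v', hv', -⟩ := C.raw_ex (c := ((h₀ : G) * t) • c) (fun e' => L.moved (by rw [e', C.frame.j_a]))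
    obtain ⟨ey', -⟩ := hc _ v' _ _ L hv'
    obtain ⟨k₃, hk₃⟩ := (C.fixed _).1 (C.norm_fix' hv')
    have hk₃' : ι (k₃ / 2) * 2 = v'.1 ^ (p ^ n + 1) := by
      rw [map_div₀, C.two_eq, hk₃, div_mul_cancel₀ _ h2]
    have hh' := C.lbl_norm hc hci hu L hv' _ hk₃'
    have hk30 : k₃ / 2 ≠ 0 := fun e => pow_ne_zero (p ^ n + 1) (C.fst_of_moved hv' L.moved) (by
      rw [← hk₃', e, map_zero, zero_mul])
    have hν : (ν h₀ : K) ≠ 0 := (ν h₀).ne_zero
    have hkk : k₃ / 2 = (ν h₀ : K) * k * n₀⁻¹ := by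
      refine C.frame.lam_inj C.one C.inv C.blocks hk30
        (mul_ne_zero (mul_ne_zero hν hk0) (inv_ne_zero hn)) ?_
      haveI := C.frame.cyclic
      letI := IsCyclic.commGroup (α := ↥(Hsub G a b))
      refine mul_right_cancel (hh'.symm.trans ?_)
      rw [hh, C.frame.lam_mul C.inv (mul_ne_zero hν hk0) (inv_ne_zero hn), C.frame.lam_mul C.inv hν hk0,
        C.frame.lam_inv C.inv hn, C.frame.lam_nu]
      ac_rfl
    have hNy : δ ^ 2 * ι n₀ = v.2 * v.2 ^ (p ^ n) := by
      have hyq : v.2 ^ (p ^ n) = N - v.2 := by linear_combination C.raw_eqn hv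
      rw [hyq, hn₀, map_sub, map_mul]
      refine mul_left_cancel₀ (pow_ne_zero 2 h2) ?_
      have e4 : (2 * (δ * ι m)) ^ 2 = (2 * v.2 - N) ^ 2 := by rw [ey]; field_simp
      linear_combination eD - e4
    have hnι : ι n₀ ≠ 0 := (map_ne_zero ι).2 hn
    have hyqne : v.2 ^ (p ^ n) ≠ 0 := pow_ne_zero _ hy
    have hN' : v'.1 ^ (p ^ n + 1) * (v.2 * v.2 ^ (p ^ n)) = N := by
      rw [← hk₃', hkk, ← hNy, ← hk', map_mul, map_mul, map_inv₀]
      field_simp
      linear_combination (ι k) * hu.norm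
    refine ⟨v'.1, ?_, fun h => absurd h hX, fun _ => C.fst_of_moved hv' L.moved⟩
    rw [hv']
    refine congrArg some (Prod.ext rfl ?_)
    show v'.2 = 1 / v.2
    rw [map_mul, map_div₀, map_neg] at ey'
    have hy' : v'.2 * (v.2 * v.2 ^ (p ^ n)) = v.2 ^ (p ^ n) := by
      rw [← hNy] at hN' ⊢
      have hyq : v.2 ^ (p ^ n) = N - v.2 := by linear_combination C.raw_eqn hv
      rw [hyq]
      field_simp at ey ey'
      refine mul_left_cancel₀ h2 ?_
      linear_combination -(δ ^ 2) * ey' - ey + hN' + (-2 * δ * ι m) * hu.norm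
    rw [eq_div_iff hy]
    exact mul_right_cancel₀ hyqne (by linear_combination hy')

end Ctx

end CfsgLib.Recog.OddUnitary
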