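import Cfsg.Agent.Lib.Recog.OddUnitary.Defs

/-!
The line of the involution `j`, and the swap normalised to `c ↦ 1/c` on it.
-/

set_option autoImplicit false
set_option linter.unusedSectionVars false
set_option linter.style.haveILetI false

namespace CfsgLib.Recog.OddUnitary

open MulAction

universe u v

variable {G : Type u} {Ω : Type v} [Group G] [MulAction G Ω] {a b : Ω} {U : Subgroup G} {p n : ℕ} {j : G}
  {Z W : Subgroup G} {K E : Type} [Field K] [Field E] {ν : ↥(Hsub G a b) →* Kˣ} {ζ : G → K}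
  {Φ : ↥(Hsub G a b) →* Eˣ} {ξ : G → E}

namespace Frame

variable (f : Frame G a b U p n j Z W K E ν ζ Φ ξ)
include f

theorem Z_le : Z ≤ U := f.Z_eq.le.trans inf_le_left

theorem comm_H {g h : G} (hg : g ∈ Hsub G a b) (hh : h ∈ Hsub G a b) : g * h = h * g := by
  haveI := f.cyclic
  exact congrArg Subtype.val ((IsCyclic.commGroup (α := ↥(Hsub G a b))).mul_comm ⟨g, hg⟩ ⟨h, hh⟩)

theorem j_sq : j * j = 1 := by rw [← pow_two, ← f.j_ord, pow_orderOf_eq_one]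

theorem j_ne : j ≠ 1 := fun e => by have := f.j_ord; rw [e, orderOf_one] at this; omega

theorem fix_a {g : G} (hg : g ∈ U) : g • a = a := f.le hg

theorem H_a (h : ↥(Hsub G a b)) : (h : G) • a = a := h.2.1

theorem H_b (h : ↥(Hsub G a b)) : (h : G) • b = b := h.2.2

theorem Z_comm_j {z : G} (hz : z ∈ Z) : z * j = j * z :=
  Subgroup.mem_centralizer_singleton_iff.1 (f.Z_eq.le hz).2

theorem conj_U (h : ↥(Hsub G a b)) {x : G} (hx : x ∈ U) : (h : G) * x * (h : G)⁻¹ ∈ U := f.conj_mem _ h.2.1 x hx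

theorem conj_Z (h : ↥(Hsub G a b)) {z : G} (hz : z ∈ Z) : (h : G) * z * (h : G)⁻¹ ∈ Z := by
  rw [f.Z_eq, Subgroup.mem_inf, Subgroup.mem_centralizer_singleton_iff]
  refine ⟨f.conj_U h (f.Z_le hz), ?_⟩
  have h1 : (h : G) * j = j * h := f.comm_H h.2 f.j_mem
  have h1' : (h : G)⁻¹ * j = j * (h : G)⁻¹ := (Commute.inv_left h1).eq
  rw [mul_assoc, h1', ← mul_assoc, mul_assoc (h : G) z j, f.Z_comm_j hz, ← mul_assoc, h1]
  group

theorem U_inj {x y : G} (hx : x ∈ U) (hy : y ∈ U) (e : x • b = y • b) : x = y := by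
  have hne : y • b ≠ a := fun e' => f.ne.symm (MulAction.injective y (e'.trans (f.fix_a hy).symm))
  obtain ⟨w, -, hu⟩ := f.regular _ hne
  exact (congrArg Subtype.val (hu ⟨x, hx⟩ e)).trans (congrArg Subtype.val (hu ⟨y, hy⟩ rfl)).symm

theorem exists_U {c : Ω} (hc : c ≠ a) : ∃ x ∈ U, x • b = c := by
  obtain ⟨x, hx, -⟩ := f.regular c hc
  exact ⟨x, x.2, hx⟩

/-- A point other than `a` fixed by `j` is a translate of `b` by an element of `Z`. -/
theorem mem_line {c : Ω} (hc : c ≠ a) (hj : j • c = c) : ∃ z ∈ Z, z • b = c := by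
  obtain ⟨x, hx, rfl⟩ := f.exists_U hc
  refine ⟨x, ?_, rfl⟩
  rw [f.Z_eq, Subgroup.mem_inf, Subgroup.mem_centralizer_singleton_iff]
  refine ⟨hx, ?_⟩
  have h1 : (j * x * j⁻¹) • b = x • b := by
    rw [mul_smul, mul_smul, show j⁻¹ • b = b from inv_smul_eq_iff.2 (f.H_b ⟨j, f.j_mem⟩).symm, hj]
  have h2 := f.U_inj (f.conj_U ⟨j, f.j_mem⟩ hx) hx h1
  calc x * j = j * x * j⁻¹ * j := by rw [h2]
    _ = j * x := by group

theorem zeta_one : ζ 1 = 0 := by
  have h := f.zeta_add 1 (one_mem Z) 1 (one_mem Z)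
  rw [mul_one] at h
  exact left_eq_add.1 h

theorem zeta_injOn {z z' : G} (hz : z ∈ Z) (hz' : z' ∈ Z) (e : ζ z = ζ z') : z = z' := by
  have h0 := f.zeta_add z'⁻¹ (inv_mem hz') z' hz'
  rw [inv_mul_cancel, f.zeta_one] at h0
  have h1 := f.zeta_inj (z'⁻¹ * z) (mul_mem (inv_mem hz') hz) (by rw [f.zeta_add _ (inv_mem hz') _ hz, e, ← h0])
  exact (inv_mul_eq_one.1 h1).symm

/-- The element of `Z` with coordinate `k`. -/
noncomputable def zz (k : K) : G := (f.zeta_surj k).choose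

theorem zz_mem (k : K) : f.zz k ∈ Z := (f.zeta_surj k).choose_spec.1

theorem zeta_zz (k : K) : ζ (f.zz k) = k := (f.zeta_surj k).choose_spec.2

theorem zz_U (k : K) : f.zz k ∈ U := f.Z_le (f.zz_mem k)

theorem zz_zeta {z : G} (hz : z ∈ Z) : f.zz (ζ z) = z :=
  f.zeta_injOn (f.zz_mem _) hz (f.zeta_zz _)

theorem zz_zero : f.zz 0 = 1 := f.zeta_inj _ (f.zz_mem 0) (f.zeta_zz 0)

theorem zz_add (k l : K) : f.zz (k + l) = f.zz k * f.zz l :=
  f.zeta_injOn (f.zz_mem _) (mul_mem (f.zz_mem k) (f.zz_mem l)) (by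
    rw [f.zeta_add _ (f.zz_mem k) _ (f.zz_mem l), f.zeta_zz, f.zeta_zz, f.zeta_zz])

theorem zz_neg (k : K) : f.zz (-k) = (f.zz k)⁻¹ :=
  eq_inv_of_mul_eq_one_left (by rw [← f.zz_add, neg_add_cancel, f.zz_zero])

theorem H_zz (h : ↥(Hsub G a b)) (k : K) : (h : G) * f.zz k = f.zz ((ν h : K) * k) * h := by
  have h1 : f.zz ((ν h : K) * k) = (h : G) * f.zz k * (h : G)⁻¹ :=
    f.zeta_injOn (f.zz_mem _) (f.conj_Z h (f.zz_mem k)) (by
      rw [f.zeta_zz, f.zeta_scale h _ (f.zz_mem k), f.zeta_zz])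
  rw [h1, inv_mul_cancel_right]

theorem zz_H (h : ↥(Hsub G a b)) (k : K) : f.zz k * h = (h : G) * f.zz (k / (ν h : K)) := by
  rw [f.H_zz, mul_div_cancel₀ k (ν h).ne_zero]

/-- The point of coordinate `k` on the line of `j`. -/
noncomputable def pt (k : K) : Ω := f.zz k • b

theorem pt_zero : f.pt 0 = b := by rw [pt, f.zz_zero, one_smul]

theorem pt_inj {k l : K} (e : f.pt k = f.pt l) : k = l := by
  rw [← f.zeta_zz k, f.U_inj (f.zz_U k) (f.zz_U l) e, f.zeta_zz]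

theorem pt_ne (k : K) : f.pt k ≠ a := fun e =>
  f.ne.symm (MulAction.injective (f.zz k) (e.trans (f.fix_a (f.zz_U k)).symm))

theorem zz_pt (k l : K) : f.zz k • f.pt l = f.pt (k + l) := by rw [pt, pt, smul_smul, f.zz_add]

theorem H_pt (h : ↥(Hsub G a b)) (k : K) : (h : G) • f.pt k = f.pt ((ν h : K) * k) := by
  rw [pt, pt, smul_smul, f.H_zz, mul_smul, f.H_b]

theorem j_pt (k : K) : j • f.pt k = f.pt k := by
  rw [pt, smul_smul, ← f.Z_comm_j (f.zz_mem k), mul_smul, f.H_b ⟨j, f.j_mem⟩]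

theorem j_a : j • a = a := f.H_a ⟨j, f.j_mem⟩

theorem exists_pt {c : Ω} (hc : c ≠ a) (hj : j • c = c) : ∃ k, c = f.pt k := by
  obtain ⟨z, hz, rfl⟩ := f.mem_line hc hj
  exact ⟨ζ z, by rw [pt, f.zz_zeta hz]⟩

theorem nu_j : ν ⟨j, f.j_mem⟩ = 1 := (f.nu_ker _).2 f.j_W

theorem swap_j {t : G} (ht : Swaps t a b) : t * j = j * t := f.swap_W t ht j f.j_W

theorem swap_inv_smul {t : G} (ht : Swaps t a b) : t⁻¹ • a = b ∧ t⁻¹ • b = a :=
  ⟨inv_smul_eq_iff.2 ht.2.symm, inv_smul_eq_iff.2 ht.1.symm⟩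

theorem swap_conj_mem {t : G} (ht : Swaps t a b) (h : ↥(Hsub G a b)) : t * h * t⁻¹ ∈ Hsub G a b := by
  obtain ⟨ha, hb⟩ := f.swap_inv_smul ht
  constructor
  · show (t * h * t⁻¹) • a = a
    rw [mul_smul, mul_smul, ha, f.H_b, ht.2]
  · show (t * h * t⁻¹) • b = b
    rw [mul_smul, mul_smul, hb, f.H_a, ht.1]

theorem swap_sq_mem {t : G} (ht : Swaps t a b) : t * t ∈ Hsub G a b :=
  ⟨show (t * t) • a = a by rw [mul_smul, ht.1, ht.2], show (t * t) • b = b by rw [mul_smul, ht.2, ht.1]⟩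

theorem nu_swap {t : G} (ht : Swaps t a b) (h : ↥(Hsub G a b)) :
    ν ⟨_, f.swap_conj_mem ht h⟩ = (ν h)⁻¹ := by
  rw [eq_inv_iff_mul_eq_one, ← map_mul]
  exact (f.nu_ker _).2 (f.swap_inv t ht h h.2)

end Frame

end CfsgLib.Recog.OddUnitary
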