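import Cfsg.Agent.Lib.Recog.OddUnitary.LabelInj

/-!
Blocks through `b`, obtained by translating the fixed sets of the labelled involutions.
-/

set_option autoImplicit false
set_option linter.unusedSectionVars false
set_option linter.style.haveILetI false

namespace CfsgLib.Recog.OddUnitary

open MulAction
open scoped Classical

universe u v

variable {G : Type u} {Ω : Type v} [Group G] [MulAction G Ω] {a b : Ω} {U : Subgroup G} {p n : ℕ} {j : G}
  {Z W : Subgroup G} {K E : Type} [Field K] [Field E] {ν : ↥(Hsub G a b) →* Kˣ} {ζ : G → K}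
  {Φ : ↥(Hsub G a b) →* Eˣ} {ξ : G → E}

namespace Frame

variable (f : Frame G a b U p n j Z W K E ν ζ Φ ξ) {t : G}
include f

theorem xi_one : ξ 1 = 0 := (f.xi_zero 1 (one_mem U)).2 (one_mem Z)

theorem xi_inv {x : G} (hx : x ∈ U) : ξ x⁻¹ = -ξ x :=
  eq_neg_of_add_eq_zero_left (by rw [← f.xi_add _ (inv_mem hx) _ hx, inv_mul_cancel, f.xi_one])

theorem xi_eq {x y : G} (hx : x ∈ U) (hy : y ∈ U) (e : ξ x = ξ y) : ∃ z ∈ Z, y = z * x := by
  refine ⟨y * x⁻¹, (f.xi_zero _ (mul_mem hy (inv_mem hx))).1 ?_, by group⟩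
  rw [f.xi_add _ hy _ (inv_mem hx), f.xi_inv hx, e, add_neg_cancel]

theorem H_smul_pt (k : ↥(Hsub G a b)) (x : G) : ((k : G) * x * (k : G)⁻¹) • b = (k : G) • x • b := by
  rw [mul_smul, mul_smul, inv_smul_eq_iff.2 (f.H_b k).symm]

variable (h1 : f.OneInvol) (ht : f.Inv t)
include h1 ht

theorem lbl_conj {x : G} {m : K} {h : ↥(Hsub G a b)} (l : f.Lbl t (x • b) m h) (k : ↥(Hsub G a b)) :
    f.Lbl t (((k : G) * x * (k : G)⁻¹) • b) ((ν k : K) * m) (f.Lam ht k * h) := by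
  rw [f.H_smul_pt]; exact f.lbl_H h1 ht l k

theorem lbl_shift {x z : G} {m : K} {h : ↥(Hsub G a b)} (l : f.Lbl t (x • b) m h) (hz : z ∈ Z) :
    f.Lbl t ((z * x) • b) (ζ z + m) h := by
  have := f.lbl_zz h1 ht l (ζ z)
  rwa [f.zz_zeta hz, smul_smul] at this

theorem fix_W {c : Ω} {m : K} {h : ↥(Hsub G a b)} (l : f.Lbl t c m h) {w : G} (hw : w ∈ W) :
    f.iEl (t := t) m h • w • c = w • c := by
  have e1 : Commute (f.zz m) w := (f.W_cent w hw _ (f.zz_mem m)).symm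
  have e2 : Commute (h : G) w := f.comm_H h.2 (f.W_le hw)
  have e3 : Commute t w := f.swap_W t ht.swaps w hw
  have e4 : Commute (f.zz (-m)) w := (f.W_cent w hw _ (f.zz_mem _)).symm
  rw [smul_smul, show f.iEl (t := t) m h * w = w * f.iEl (t := t) m h from
    (((e1.mul_left e2).mul_left e3).mul_left e4).eq, mul_smul, l.fixes]

theorem lbl_W {c : Ω} {m : K} {h : ↥(Hsub G a b)} (l : f.Lbl t c m h) {w : G} (hw : w ∈ W) :
    f.Lbl t (w • c) m h :=
  f.lbl_of_fix h1 ht l (f.fix_W h1 ht l hw)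

theorem eq_of_lbl {x y : G} (hx : x ∈ U) (hy : y ∈ U) {m : K} {h : ↥(Hsub G a b)}
    (l : f.Lbl t (x • b) m h) (l' : f.Lbl t (y • b) m h) (e : ξ x = ξ y) : x = y := by
  obtain ⟨z, hz, rfl⟩ := f.xi_eq hx hy e
  have h3 := (f.lbl_unique h1 ht (f.lbl_shift h1 ht l hz) l').1
  rw [f.zeta_inj z hz (by linear_combination h3), one_mul]

/-- Translating a fixed set back to `b`: the other points keep off the line of `j`. -/
theorem translate_moved {x y : G} (hx : x ∈ U) (hy : y ∈ U) {m : K} {h : ↥(Hsub G a b)}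
    (l : f.Lbl t (x • b) m h) (l' : f.Lbl t (y • b) m h) (hne : x ≠ y) :
    j • (x⁻¹ * y) • b ≠ (x⁻¹ * y) • b := by
  refine (f.moved_iff (mul_mem (inv_mem hx) hy)).2 fun hz => hne (f.eq_of_lbl h1 ht hx hy l l' ?_)
  have := (f.xi_zero _ (mul_mem (inv_mem hx) hy)).2 hz
  rw [f.xi_add _ (inv_mem hx) _ hy, f.xi_inv hx] at this
  linear_combination -this

/-- The block through `b` translated from the block of a label. -/
theorem block_translate {x y y' : G} {m : K} {h : ↥(Hsub G a b)}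
    (l : f.Lbl t (x • b) m h) (l1 : f.Lbl t (y • b) m h) (l2 : f.Lbl t (y' • b) m h)
    {m₁ m₂ : K} {h₁ h₂ : ↥(Hsub G a b)} (L1 : f.Lbl t ((x⁻¹ * y) • b) m₁ h₁)
    (L2 : f.Lbl t ((x⁻¹ * y') • b) m₂ h₂) :
    h₁ * (f.lam ht ((ν h₁ : K) - m₁ * m₁))⁻¹ = h₂ * (f.lam ht ((ν h₂ : K) - m₂ * m₂))⁻¹ := by
  have hfix : ∀ w : G, f.Lbl t (w • b) m h →
      (x⁻¹ * f.iEl (t := t) m h * x) • (x⁻¹ * w) • b = (x⁻¹ * w) • b := fun w lw => by
    rw [mul_smul x⁻¹ w b, mul_smul, mul_smul, smul_inv_smul, lw.fixes]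
  refine f.block_const h1 ht (i := x⁻¹ * f.iEl (t := t) m h * x) ?_ ?_ (hfix y l1) (hfix y' l2) L1 L2
  · have := orderOf_two_conj (g := x⁻¹) l.invol
    rwa [inv_inv] at this
  · have := hfix x l
    rwa [inv_mul_cancel, one_smul] at this

variable (h2 : f.Blocks)
include h2

/-- Each orbit of the torus on `U ⧸ Z` meets a label in one orbit of `W`. -/
theorem coset_unique {x y : G} (hx : x ∈ U) (hy : y ∈ U) {m m' : K} {h : ↥(Hsub G a b)}
    (l : f.Lbl t (x • b) m h) (l' : f.Lbl t (y • b) m' h) (k : ↥(Hsub G a b))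
    (e : ξ y = (Φ k : E) * ξ x) : (k : G) ∈ W := by
  obtain ⟨z, hz, rfl⟩ := f.xi_eq (f.conj_U k hx) hy (by rw [f.xi_scale k x hx, e])
  have h3 := (f.lbl_unique h1 ht (f.lbl_shift h1 ht (f.lbl_conj h1 ht l k) hz) l').2
  have h4 : f.lam ht (ν k : K) = 1 := by rw [f.lam_nu]; simpa using h3
  exact (f.nu_ker k).1 (Units.ext (f.lam_eq_one h1 ht h2 (ν k).ne_zero h4))

/-- The constant of a block fixes the ratio. -/
theorem ratio_eq {h : ↥(Hsub G a b)} {T T' N N' : K} (hT : T ≠ 0) (hT' : T' ≠ 0) (hN : N ≠ 0) (hN' : N' ≠ 0)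
    (e : f.lam ht T * h * (f.lam ht N)⁻¹ = f.lam ht T' * h * (f.lam ht N')⁻¹) : T / N = T' / N' := by
  refine f.lam_inj h1 ht h2 (div_ne_zero hT hN) (div_ne_zero hT' hN') ?_
  haveI := f.cyclic
  letI := IsCyclic.commGroup (α := ↥(Hsub G a b))
  rw [div_eq_mul_inv, div_eq_mul_inv, f.lam_mul ht hT (inv_ne_zero hN), f.lam_mul ht hT' (inv_ne_zero hN'),
    f.lam_inv ht hN, f.lam_inv ht hN']
  rw [mul_right_comm, mul_right_comm _ h] at e
  exact mul_right_cancel e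

end Frame

end CfsgLib.Recog.OddUnitary
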