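import Cfsg.Agent.Lib.Recog.OddUnitary.LabelSwap

/-!
The involutions `z_m h t z_{-m}` under conjugation by `t`.
-/

set_option autoImplicit false
set_option linter.unusedSectionVars false
set_option linter.style.haveILetI false

namespace CfsgLib.Recog.OddUnitary

open MulAction
open scoped Classical

universe u v

variable {G : Type u} {Ω : Type v} [Group G] [MulAction G Ω] {a b : Ω} {U : Subgroup G} {p n : ℕ} {j : G}
  {Z W : Subgroup G} {K E : Type} [Field K] [Field E] {ν : ↥(Hsub G a b) →* Kˣ} {ζ : G → K}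
  {Φ : ↥(Hsub G a b) →* Eˣ} {ξ : G → E}

namespace Frame

variable (f : Frame G a b U p n j Z W K E ν ζ Φ ξ)
include f

theorem H_mul_comm (g h : ↥(Hsub G a b)) : g * h = h * g := Subtype.ext (f.comm_H g.2 h.2)

variable {t : G}

/-- The involution candidate `z_m h t z_{-m}`. -/
noncomputable def iEl (m : K) (h : ↥(Hsub G a b)) : G := f.zz m * h * t * f.zz (-m)

variable (ht : f.Inv t)
include ht

/-- `t * t` in `H`. -/
def tsq : ↥(Hsub G a b) := ⟨t * t, f.swap_sq_mem ht.swaps⟩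

theorem coe_tsq : (f.tsq ht : G) = t * t := rfl

theorem tsq_mem : (f.tsq ht : G) ∈ W := f.sq_mem_W ht

theorem hc_smul {c : K} (hc0 : c ≠ 0) (k : ↥(Hsub G a b)) :
    f.hc ht ((ν k : K) * c) = (f.Lam ht k)⁻¹ * f.hc ht c := by
  have h1 : ((ν k : K) * c) ≠ 0 := mul_ne_zero (ν k).ne_zero hc0
  refine f.hc_unique ht h1 (m := (ν (f.αH ht k) : K) * c⁻¹) (k := c⁻¹ / (ν k : K)) ?_
  have e : f.zz ((ν k : K) * c) = (k : G) * f.zz c * (k : G)⁻¹ := by rw [f.H_zz]; group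
  have e2 : t * (f.αH ht k⁻¹ : G) = (k⁻¹ : ↥(Hsub G a b)) * t := by rw [f.t_H ht, f.αH_αH ht]
  have e3 : f.zz c⁻¹ * (f.αH ht k⁻¹ : G) = (f.αH ht k⁻¹ : G) * f.zz (c⁻¹ / (ν k : K)) := by
    rw [f.zz_H (f.αH ht k⁻¹), f.nu_αH ht k⁻¹, map_inv ν k, inv_inv]
  calc t * f.zz ((ν k : K) * c) * t⁻¹
      = t * k * t⁻¹ * (t * f.zz c * t⁻¹) * (t * (k : G)⁻¹ * t⁻¹) := by rw [e]; group
    _ = (f.αH ht k : G) * (f.zz c⁻¹ * f.hc ht c * t * f.zz c⁻¹) * (f.αH ht k⁻¹ : G) := by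
      rw [f.hc_spec ht hc0, f.coe_αH, f.coe_αH, Subgroup.coe_inv]
    _ = (f.αH ht k : G) * f.zz c⁻¹ * f.hc ht c * t * (f.zz c⁻¹ * (f.αH ht k⁻¹ : G)) := by group
    _ = (f.αH ht k : G) * f.zz c⁻¹ * f.hc ht c * (t * (f.αH ht k⁻¹ : G)) * f.zz (c⁻¹ / (ν k : K)) := by
      rw [e3]; group
    _ = f.zz ((ν (f.αH ht k) : K) * c⁻¹) * ((f.αH ht k * f.hc ht c * k⁻¹ : ↥(Hsub G a b)) : G) * t *
          f.zz (c⁻¹ / (ν k : K)) := by
      rw [e2, f.H_zz]; simp only [Subgroup.coe_mul]; group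
    _ = _ := by
      congr 3
      apply congrArg
      rw [Lam, mul_inv_rev, inv_inv, mul_assoc, mul_assoc, f.H_mul_comm k⁻¹]

theorem hc_eq {c : K} (hc0 : c ≠ 0) : f.hc ht c = (f.lam ht c)⁻¹ * f.hc ht 1 := by
  obtain ⟨k, hk⟩ := f.nu_surj (Units.mk0 c hc0)
  have hk' : (ν k : K) = c := by rw [hk, Units.val_mk0]
  conv_lhs => rw [← mul_one c, ← hk', f.hc_smul ht one_ne_zero]
  rw [← hk', f.lam_nu]

theorem hc_neg {c : K} (hc0 : c ≠ 0) : f.hc ht (-c) = (f.αH ht (f.hc ht c))⁻¹ * (f.tsq ht)⁻¹ := by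
  refine f.hc_unique ht (neg_ne_zero.2 hc0) (m := -c⁻¹) (k := -c⁻¹) ?_
  calc t * f.zz (-c) * t⁻¹ = (t * f.zz c * t⁻¹)⁻¹ := by rw [f.zz_neg]; group
    _ = f.zz (-c⁻¹) * (t⁻¹ * (f.hc ht c : G)⁻¹) * f.zz (-c⁻¹) := by
      rw [f.hc_spec ht hc0, f.zz_neg]; group
    _ = _ := by
      rw [f.H_mul_comm _ (f.tsq ht)⁻¹]
      simp only [Subgroup.coe_mul, Subgroup.coe_inv, f.coe_αH, coe_tsq]
      group

/-- `hc 1` squared cancels `t²`. -/
theorem hc_one_sq : f.hc ht 1 * f.hc ht 1 * f.tsq ht = 1 := by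
  haveI := f.cyclic
  letI := IsCyclic.commGroup (α := ↥(Hsub G a b))
  have hn : (ν (f.hc ht 1) : K) = -1 := by rw [f.nu_hc ht one_ne_zero]; simp
  have h1 := f.hc_neg ht one_ne_zero
  rw [f.hc_eq ht (neg_ne_zero.2 one_ne_zero), ← hn, f.lam_nu, Lam] at h1
  have h2 : f.αH ht (f.hc ht 1) * f.αH ht (f.hc ht 1) * f.tsq ht = 1 := by
    generalize f.αH ht (f.hc ht 1) = s at h1
    generalize f.hc ht 1 = g at h1
    generalize f.tsq ht = w at h1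
    rw [mul_inv_rev, inv_inv, mul_assoc, inv_mul_cancel, mul_one] at h1
    nth_rewrite 1 [h1]
    simp [mul_comm]
  have h3 := congrArg (f.αH ht) h2
  rwa [map_mul, map_mul, f.αH_αH, map_one, f.αH_W ht _ (f.tsq_mem ht)] at h3

theorem tsq_zz_comm (k : K) : f.zz k * (f.tsq ht : G) = (f.tsq ht : G) * f.zz k := (f.tsq_zz ht k).symm

/-- The middle term of `t (z_m h t z_{-m}) t⁻¹`. -/
theorem conj_iEl {m : K} (hm : m ≠ 0) (h : ↥(Hsub G a b)) (hn : (ν h : K) - m * m ≠ 0) :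
    ∃ x y : K, t * f.iEl (t := t) m h * t⁻¹ =
      f.zz x * (h * (f.lam ht ((ν h : K) - m * m))⁻¹ : ↥(Hsub G a b)) * t * f.zz y := by
  haveI := f.cyclic
  letI := IsCyclic.commGroup (α := ↥(Hsub G a b))
  have hD : (ν h : K) ≠ 0 := (ν h).ne_zero
  set A := f.hc ht m
  set B := f.hc ht (-m)
  set c : K := (ν h : K) / m
  have hc0 : c ≠ 0 := div_ne_zero hD hm
  set C := f.hc ht c
  set T := f.tsq ht
  set c' : K := (c⁻¹ + -m⁻¹) / (ν (T * B) : K)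
  have hνTB : (ν (T * B) : K) = -(m⁻¹ * m⁻¹) := by
    rw [map_mul, show ν T = 1 from f.nu_sq ht, one_mul, f.nu_hc ht (neg_ne_zero.2 hm)]; simp
  have hprod : c * c' = (ν h : K) - m * m := by
    simp only [c', c, hνTB]; field_simp; ring
  have hc'0 : c' ≠ 0 := fun e => hn (by rw [← hprod, e, mul_zero])
  set Dd := f.hc ht c'
  have htt : ∀ z : G, t * z * t = t * z * t⁻¹ * (T : G) := fun z => by rw [f.coe_tsq]; group
  have hTt : t * (T : G) = (T : G) * t := by rw [f.coe_tsq]; group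
  have e4 : f.zz m⁻¹ * (f.αH ht h : G) = (f.αH ht h : G) * f.zz c := by
    rw [f.zz_H (f.αH ht h), f.nu_αH ht h, Units.val_inv_eq_inv_val, div_inv_eq_mul, mul_comm m⁻¹, ← div_eq_mul_inv]
  refine ⟨m⁻¹ + ((ν (A * h) : K) * c⁻¹ + (ν (A * h * (C * f.αH ht (T * B))) : K) * c'⁻¹), c'⁻¹ + -m⁻¹, ?_⟩
  calc t * f.iEl (t := t) m h * t⁻¹
      = t * f.zz m * t⁻¹ * (t * h * t⁻¹) * t * (t * f.zz (-m) * t⁻¹) := by rw [iEl]; group
    _ = f.zz m⁻¹ * A * t * (f.zz m⁻¹ * (f.αH ht h : G)) * t * f.zz (-m⁻¹) * B * t * f.zz (-m⁻¹) := by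
      rw [f.hc_spec ht hm, f.hc_spec ht (neg_ne_zero.2 hm), inv_neg, f.coe_αH]; simp only [A, B]; group
    _ = f.zz m⁻¹ * A * (t * (f.αH ht h : G)) * f.zz c * t * f.zz (-m⁻¹) * B * t * f.zz (-m⁻¹) := by
      rw [e4]; group
    _ = f.zz m⁻¹ * A * h * (t * f.zz c * t) * f.zz (-m⁻¹) * B * t * f.zz (-m⁻¹) := by
      rw [f.t_H ht, f.αH_αH ht]; group
    _ = f.zz m⁻¹ * A * h * f.zz c⁻¹ * C * t * f.zz c⁻¹ * ((T : G) * f.zz (-m⁻¹)) * B * t * f.zz (-m⁻¹) := by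
      rw [htt, f.hc_spec ht hc0]; simp only [C]; group
    _ = f.zz m⁻¹ * A * h * f.zz c⁻¹ * C * t * (f.zz (c⁻¹ + -m⁻¹) * ((T * B : ↥(Hsub G a b)) : G)) * t *
          f.zz (-m⁻¹) := by
      rw [← f.tsq_zz_comm ht, f.zz_add, Subgroup.coe_mul]; simp only [T]; group
    _ = f.zz m⁻¹ * A * h * f.zz c⁻¹ * C * (t * ((T * B : ↥(Hsub G a b)) : G)) * f.zz c' * t * f.zz (-m⁻¹) := by
      rw [show f.zz (c⁻¹ + -m⁻¹) * ((T * B : ↥(Hsub G a b)) : G) = ((T * B : ↥(Hsub G a b)) : G) * f.zz c' from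
        f.zz_H (T * B) _]
      group
    _ = f.zz m⁻¹ * A * h * f.zz c⁻¹ * C * (f.αH ht (T * B) : G) * (t * f.zz c' * t) * f.zz (-m⁻¹) := by
      rw [f.t_H ht (T * B)]; group
    _ = f.zz m⁻¹ * A * h * f.zz c⁻¹ * C * (f.αH ht (T * B) : G) * f.zz c'⁻¹ * Dd * (t * (T : G)) *
          (f.zz c'⁻¹ * f.zz (-m⁻¹)) := by
      rw [htt, f.hc_spec ht hc'0, mul_assoc _ (f.zz c'⁻¹) (T : G), f.tsq_zz_comm ht]; simp only [Dd, T]; group
    _ = f.zz m⁻¹ * (((A * h : ↥(Hsub G a b)) : G) * f.zz c⁻¹) * ((C * f.αH ht (T * B) : ↥(Hsub G a b)) : G) *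
          f.zz c'⁻¹ * ((Dd * T : ↥(Hsub G a b)) : G) * t * f.zz (c'⁻¹ + -m⁻¹) := by
      rw [hTt, f.zz_add]; simp only [Subgroup.coe_mul]; group
    _ = f.zz (m⁻¹ + (ν (A * h) : K) * c⁻¹) * (((A * h * (C * f.αH ht (T * B)) : ↥(Hsub G a b)) : G) *
          f.zz c'⁻¹) * ((Dd * T : ↥(Hsub G a b)) : G) * t * f.zz (c'⁻¹ + -m⁻¹) := by
      rw [f.H_zz (A * h), f.zz_add m⁻¹]; simp only [Subgroup.coe_mul]; group
    _ = f.zz (m⁻¹ + ((ν (A * h) : K) * c⁻¹ + (ν (A * h * (C * f.αH ht (T * B))) : K) * c'⁻¹)) *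
          ((A * h * (C * f.αH ht (T * B)) * (Dd * T) : ↥(Hsub G a b)) : G) * t * f.zz (c'⁻¹ + -m⁻¹) := by
      rw [f.H_zz (A * h * (C * f.αH ht (T * B))), ← add_assoc, f.zz_add _ ((ν _ : K) * c'⁻¹)]
      simp only [Subgroup.coe_mul]; group
    _ = _ := by
      congr 3
      apply congrArg
      have hA : f.αH ht (T * B) = A⁻¹ := by
        rw [map_mul, f.αH_W ht _ (f.tsq_mem ht), show B = _ from f.hc_neg ht hm, map_mul, map_inv, map_inv,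
          f.αH_αH, f.αH_W ht _ (f.tsq_mem ht)]
        rw [mul_comm A⁻¹, mul_inv_cancel_left]
      rw [hA, show C = _ from f.hc_eq ht hc0, show Dd = _ from f.hc_eq ht hc'0, ← hprod, f.lam_mul ht hc0 hc'0]
      generalize f.lam ht c = x
      generalize f.lam ht c' = y
      have h1 := f.hc_one_sq ht
      generalize f.hc ht 1 = g at h1
      calc A * h * (x⁻¹ * g * A⁻¹) * (y⁻¹ * g * T) = h * (x⁻¹ * y⁻¹) * (g * g * T) * (A * A⁻¹) := by ac_rfl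
        _ = h * (x * y)⁻¹ := by rw [h1, mul_inv_cancel, mul_one, mul_one, mul_inv]

end Frame

end CfsgLib.Recog.OddUnitary
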