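import Cfsg.Agent.Lib.Recog.OddUnitary.Labels

/-!
`lam` is injective: the swap centralises no element of `H` of norm `-1`.
-/

set_option autoImplicit false
set_option linter.unusedSectionVars false
set_option linter.style.haveILetI false

namespace CfsgLib.Recog.OddUnitary

open MulAction
open scoped Classical

universe u v

variable {G : Type u} {Ω : Type v} [Group G] [MulAction G Ω] {a b : Ω} {U : Subgroup G} {p n : ℕ} {j : G}
  {Z W : Subgroup G} {K E : Type} [Field K] [Field E] {ν : ↥(Hsub G a b) →* Kˣ} {ζ : G → K}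
  {Φ : ↥(Hsub G a b) →* Eˣ} {ξ : G → E}

/-- A free action on a finite type: the order of the group divides the number of points. -/
theorem card_dvd_of_free {A : Type*} {X : Type*} [Group A] [MulAction A X]
    (h : ∀ (g : A) (x : X), g • x = x → g = 1) : Nat.card A ∣ Nat.card X := by
  have hst : ∀ x : X, stabilizer A x = ⊥ := fun x =>
    (Subgroup.eq_bot_iff_forall _).2 fun g hg => h g x hg
  rw [Nat.card_congr (selfEquivOrbitsQuotientProd hst), Nat.card_prod]
  exact Dvd.intro_left _ rfl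

namespace Frame

variable (f : Frame G a b U p n j Z W K E ν ζ Φ ξ) {t : G}
include f

/-- Blocks have `q + 1` points. -/
def Blocks (_f : Frame G a b U p n j Z W K E ν ζ Φ ξ) : Prop :=
  ∀ (i : G) (c : Ω), orderOf i = 2 → i • c = c → Nat.card {x : Ω // i • x = x} = p ^ n + 1

theorem finite_K : Finite K :=
  Nat.finite_of_card_ne_zero (by rw [f.card_K]; exact pow_ne_zero _ f.prime.ne_zero)

theorem two_ne : (2 : K) ≠ 0 := by
  haveI := f.finite_K
  intro h2
  have h3 : addOrderOf (1 : K) ∣ 2 := addOrderOf_dvd_of_nsmul_eq_zero (by rw [nsmul_one]; exact_mod_cast h2)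
  have h4 : addOrderOf (1 : K) = 2 := by
    rcases (Nat.dvd_prime Nat.prime_two).1 h3 with h | h
    · exact absurd (AddMonoid.addOrderOf_eq_one_iff.1 h) one_ne_zero
    · exact h
  have h5 : 2 ∣ Nat.card K := h4 ▸ addOrderOf_dvd_natCard (1 : K)
  rw [f.card_K] at h5
  exact f.odd ((Nat.prime_dvd_prime_iff_eq Nat.prime_two f.prime).1 (Nat.prime_two.dvd_of_dvd_pow h5)).symm

theorem moved_iff {x : G} (hx : x ∈ U) : j • x • b ≠ x • b ↔ x ∉ Z := by
  constructor
  · intro h hz
    exact h (by rw [← f.zz_zeta hz]; exact f.j_pt _)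
  · intro hz e
    obtain ⟨z, hzZ, hzb⟩ := f.mem_line (fun e' => f.ne.symm (MulAction.injective x (e'.trans (f.fix_a hx).symm))) e
    exact hz (f.U_inj (f.Z_le hzZ) hx hzb ▸ hzZ)

theorem exists_moved {c : Ω} (hc : j • c ≠ c) : ∃ x ∈ U, x ∉ Z ∧ x • b = c := by
  obtain ⟨x, hx, rfl⟩ := f.exists_U (c := c) (fun e => hc (by rw [e, f.j_a]))
  exact ⟨x, hx, (f.moved_iff hx).1 hc, rfl⟩

theorem semireg (h : ↥(Hsub G a b)) {c : Ω} (hc : j • c ≠ c) (e : (h : G) • c = c) : h = 1 := by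
  obtain ⟨x, hx, hxZ, rfl⟩ := f.exists_moved hc
  have e1 : ((h : G) * x * (h : G)⁻¹) • b = x • b := by
    rw [mul_smul, mul_smul, inv_smul_eq_iff.2 (f.H_b h).symm, e]
  have e2 : (h : G) * x = x * h := by
    calc (h : G) * x = (h : G) * x * (h : G)⁻¹ * h := by group
      _ = x * h := by rw [f.U_inj (f.conj_U h hx) hx e1]
  by_contra hne
  by_cases hw : (h : G) ∈ W
  · exact hxZ (f.cen_W _ hw (fun e => hne (Subtype.ext e)) x hx e2)
  · exact hxZ (by rw [f.fpf _ h.2 hw x hx e2]; exact one_mem Z)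

theorem exists_off : ∃ c : Ω, j • c ≠ c := by
  obtain ⟨x, hx, he⟩ := f.xi_surj 1
  exact ⟨x • b, (f.moved_iff hx).2 fun hz => one_ne_zero (he ▸ (f.xi_zero x hx).2 hz)⟩

variable (h1 : f.OneInvol) (ht : f.Inv t)
include h1 ht

theorem exists_lbl_zero : ∃ (c : Ω) (h : ↥(Hsub G a b)), f.Lbl t c 0 h := by
  obtain ⟨c, hc⟩ := f.exists_off
  obtain ⟨m, h, l⟩ := f.exists_lbl h1 ht hc
  exact ⟨_, h, neg_add_cancel m ▸ f.lbl_zz h1 ht l (-m)⟩

/-- Every point fixed by the involution of a label has that label. -/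
theorem lbl_of_fix {c d : Ω} {m : K} {h : ↥(Hsub G a b)} (l : f.Lbl t c m h)
    (hd : f.iEl (t := t) m h • d = d) : f.Lbl t d m h := by
  refine ⟨?_, l.invol, hd⟩
  set i := f.iEl (t := t) m h with hi
  have hij : i * j = j * i := f.iEl_comm_j h1 ht m h
  suffices hmoved : ∀ x : Ω, i • x = x → j • x ≠ x from hmoved d hd
  intro x hx hjx
  have hxa : x ≠ a := fun e' => f.not_fix_a h1 l.invol hij l.fixes l.moved (e' ▸ hx)
  obtain ⟨k, rfl⟩ := f.exists_pt hxa hjx
  -- conjugate so that the common point is `a`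
  obtain ⟨g, hg⟩ : ∃ g : G, g • f.pt k = a ∧ g * j = j * g := by
    refine ⟨t * f.zz (-k), ?_, ?_⟩
    · rw [mul_smul, f.zz_pt, neg_add_cancel, f.pt_zero, ht.swaps.2]
    · have e1 : Commute t j := f.t_comm_j ht
      have e2 : Commute (f.zz (-k)) j := f.Z_comm_j (f.zz_mem _)
      exact (e1.mul_left e2).eq
  obtain ⟨hga, hgj⟩ := hg
  refine f.not_fix_a h1 (i := g * i * g⁻¹) (c := g • c) (orderOf_two_conj l.invol) ?_ ?_ ?_ ?_
  · have e1 : Commute g j := hgj
    exact ((e1.mul_left hij).mul_left e1.inv_left).eq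
  · rw [mul_smul, mul_smul, inv_smul_smul, l.fixes]
  · rw [smul_smul, ← hgj, mul_smul]
    exact fun e' => l.moved (MulAction.injective g e')
  · rw [← hga, mul_smul, mul_smul, inv_smul_smul, hx]

variable (h2 : f.Blocks)
include h2

theorem lam_neg_one_ne : f.lam ht (-1) ≠ 1 := by
  intro e
  obtain ⟨h₀, hh₀⟩ := f.nu_surj (-1)
  have e0 : f.αH ht h₀ = h₀ := by
    have : f.lam ht ((ν h₀ : K)) = 1 := by rw [hh₀]; simpa using e
    rw [f.lam_nu, Lam, mul_inv_eq_one] at this
    exact this.symm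
  obtain ⟨c, h, l⟩ := f.exists_lbl_zero h1 ht
  set i := f.iEl (t := t) (0 : K) h with hi
  have hieq : i = (h : G) * t := by rw [hi, iEl, neg_zero, f.zz_zero]; group
  let C : Subgroup ↥(Hsub G a b) := (f.αH ht).eqLocus (MonoidHom.id _)
  have hcomm : ∀ g : C, ((g : ↥(Hsub G a b)) : G) * i = i * ((g : ↥(Hsub G a b)) : G) := by
    rintro ⟨g, hg⟩
    have hg' : f.αH ht g = g := hg
    have : t * (g : G) = (g : G) * t := by rw [f.t_H ht, hg']
    show (g : G) * i = i * (g : G)
    rw [hieq, mul_assoc, this, ← mul_assoc, ← mul_assoc, f.comm_H g.2 h.2]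
  let S : SubMulAction C Ω :=
    { carrier := {x | i • x = x}
      smul_mem' := fun g x hx => by
        show i • ((g : ↥(Hsub G a b)) : G) • x = ((g : ↥(Hsub G a b)) : G) • x
        rw [smul_smul, ← hcomm, mul_smul]; exact congrArg (((g : ↥(Hsub G a b)) : G) • ·) hx }
  have hij : i * j = j * i := f.iEl_comm_j h1 ht 0 h
  have hmoved : ∀ x : Ω, i • x = x → j • x ≠ x := fun x hx => (f.lbl_of_fix h1 ht l hx).moved
  have hfree : ∀ (g : C) (x : S), g • x = x → g = 1 := by
    rintro g ⟨x, hx⟩ e'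
    have e'' : ((g : ↥(Hsub G a b)) : G) • x = x := congrArg Subtype.val e'
    exact Subtype.ext (f.semireg _ (hmoved x hx) e'')
  have hdvd : Nat.card C ∣ p ^ n + 1 := by
    rw [← h2 i c l.invol l.fixes]
    exact card_dvd_of_free (A := C) (X := ↥S) hfree
  let φ : C →* Kˣ := ν.comp C.subtype
  have hker : Nat.card φ.ker = Nat.card W := by
    refine Nat.card_congr
      { toFun := fun g => ⟨((g : C) : ↥(Hsub G a b)), (f.nu_ker _).1 g.2⟩
        invFun := fun w => ⟨⟨⟨w, f.W_le w.2⟩, f.αH_W ht _ w.2⟩, (f.nu_ker _).2 w.2⟩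
        left_inv := fun g => rfl
        right_inv := fun w => rfl }
  have hcard : Nat.card C = Nat.card φ.range * Nat.card W := by
    rw [← hker, Subgroup.card_eq_card_quotient_mul_card_subgroup φ.ker, ← Subgroup.index_eq_card,
      Subgroup.index_ker]
  have h2r : 2 ∣ Nat.card φ.range := by
    have hm : (-1 : Kˣ) ∈ φ.range := ⟨⟨h₀, e0⟩, hh₀⟩
    have ho : orderOf (⟨-1, hm⟩ : φ.range) = 2 := by
      rw [Subgroup.orderOf_mk, orderOf_eq_prime_iff]
      refine ⟨by simp, fun e' => f.two_ne ?_⟩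
      have := congrArg Units.val e'
      simp at this
      linear_combination -this
    exact ho ▸ orderOf_dvd_natCard _
  have hW := f.card_W
  set d := Nat.gcd 3 (p ^ n + 1)
  have hd : d = 1 ∨ d = 3 := (Nat.dvd_prime Nat.prime_three).1 (Nat.gcd_dvd_left 3 _)
  rw [hcard, ← hW] at hdvd
  have hW0 : Nat.card W ≠ 0 := fun e' => by rw [e', mul_zero] at hW; omega
  have : 2 ∣ d := h2r.trans (Nat.dvd_of_mul_dvd_mul_right (Nat.pos_of_ne_zero hW0) hdvd)
  rcases hd with hd | hd <;> rw [hd] at this <;> omega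

theorem lam_eq_one {k : K} (hk : k ≠ 0) (e : f.lam ht k = 1) : k = 1 := by
  obtain ⟨h, hh⟩ := f.nu_surj (Units.mk0 k hk)
  have hh' : (ν h : K) = k := by rw [hh, Units.val_mk0]
  have e2 := e
  rw [← hh', f.lam_nu] at e2
  have e3 := congrArg Units.val (f.nu_Lam ht h)
  rw [e2, map_one, Units.val_one, Units.val_mul, hh'] at e3
  rcases mul_self_eq_one_iff.1 e3.symm with rfl | rfl
  · rfl
  · exact absurd e (f.lam_neg_one_ne h1 ht h2)

theorem lam_inj {k l : K} (hk : k ≠ 0) (hl : l ≠ 0) (e : f.lam ht k = f.lam ht l) : k = l := by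
  have h := f.lam_eq_one h1 ht h2 (mul_ne_zero hk (inv_ne_zero hl))
    (by rw [f.lam_mul ht hk (inv_ne_zero hl), f.lam_inv ht hl, e, mul_inv_cancel])
  exact mul_inv_eq_one₀ hl |>.1 h

end Frame

end CfsgLib.Recog.OddUnitary
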