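import Cfsg.Agent.Lib.Recog.OddUnitary.LabelBasic

/-!
The group of the line of `j`: normal forms, and the swap acting as inversion on it.
-/

set_option autoImplicit false
set_option linter.unusedSectionVars false
set_option linter.style.haveILetI false

namespace CfsgLib.Recog.OddUnitary

open MulAction
open scoped Classical

universe u v

variable {G : Type u} {Ω : Type v} [Group G] [MulAction G Ω] {a b : Ω} {U : Subgroup G} {p n : ℕ} {j : G}
  {Z W : Subgroup G} {K E : Type} [Field K] [Field E] {ν : ↥(Hsub G a b) →* Kˣ} {ζ : G → K}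
  {Φ : ↥(Hsub G a b) →* Eˣ} {ξ : G → E}

namespace Frame

variable (f : Frame G a b U p n j Z W K E ν ζ Φ ξ)
include f

/-- A swap that acts as inversion on the line of `j`. -/
structure Inv (f : Frame G a b U p n j Z W K E ν ζ Φ ξ) (t : G) : Prop where
  swaps : Swaps t a b
  line : ∀ k : K, k ≠ 0 → t • f.pt k = f.pt k⁻¹

theorem exists_inv (hsw : ∃ t : G, Swaps t a b) : ∃ t, f.Inv t := by
  obtain ⟨t, ht⟩ := hsw
  obtain ⟨k₀, hk₀⟩ : ∃ k₀, t • f.pt 1 = f.pt k₀ := by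
    refine f.exists_pt (fun e => ?_) ?_
    · have h1 : f.pt 1 = f.pt 0 :=
        (inv_smul_smul t (f.pt 1)).symm.trans ((congrArg (t⁻¹ • ·) e).trans
          ((f.swap_inv_smul ht).1.trans f.pt_zero.symm))
      exact one_ne_zero (f.pt_inj h1)
    · rw [smul_smul, ← f.swap_j ht, mul_smul, f.j_pt]
  have hk0 : k₀ ≠ 0 := by
    rintro rfl
    exact f.pt_ne 1 (MulAction.injective t (hk₀.trans (f.pt_zero.trans ht.1.symm)))
  obtain ⟨h₀, hh₀⟩ := f.nu_surj (Units.mk0 k₀⁻¹ (inv_ne_zero hk0))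
  refine ⟨h₀ * t, ⟨?_, ?_⟩, fun k hk => ?_⟩
  · rw [mul_smul, ht.1, f.H_b]
  · rw [mul_smul, ht.2, f.H_a]
  obtain ⟨h, hh⟩ := f.nu_surj (Units.mk0 k hk)
  have h1 : f.pt k = (h : G) • f.pt 1 := by rw [f.H_pt, hh, Units.val_mk0, mul_one]
  have h2 : t • f.pt k = f.pt (k⁻¹ * k₀) := by
    rw [h1, show t • (h : G) • f.pt 1 = (t * h * t⁻¹) • t • f.pt 1 by simp [mul_smul], hk₀,
      show (t * h * t⁻¹) • f.pt k₀ = ((⟨_, f.swap_conj_mem ht h⟩ : ↥(Hsub G a b)) : G) • f.pt k₀ from rfl,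
      f.H_pt, f.nu_swap ht, hh]
    simp
  rw [mul_smul, h2, f.H_pt, hh₀, Units.val_mk0]
  congr 1
  field_simp

variable {t : G} (ht : f.Inv t)
include ht

theorem inv_line' (k : K) (hk : k ≠ 0) : t⁻¹ • f.pt k = f.pt k⁻¹ :=
  inv_smul_eq_iff.2 (by rw [ht.line _ (inv_ne_zero hk), inv_inv])

/-- Conjugation by `t` on `H`. -/
def αH : ↥(Hsub G a b) →* ↥(Hsub G a b) :=
  MonoidHom.mk' (fun h => ⟨t * h * t⁻¹, f.swap_conj_mem ht.swaps h⟩)
    fun g h => Subtype.ext (show t * ((g : G) * h) * t⁻¹ = t * g * t⁻¹ * (t * h * t⁻¹) by group)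

theorem coe_αH (h : ↥(Hsub G a b)) : (f.αH ht h : G) = t * h * t⁻¹ := rfl

theorem t_H (h : ↥(Hsub G a b)) : t * h = (f.αH ht h : G) * t := by rw [coe_αH]; group

theorem αH_αH (h : ↥(Hsub G a b)) : f.αH ht (f.αH ht h) = h := by
  apply Subtype.ext
  rw [coe_αH, coe_αH]
  calc t * (t * (h : G) * t⁻¹) * t⁻¹ = t * t * h * (t * t)⁻¹ := by group
    _ = h := by rw [f.comm_H (f.swap_sq_mem ht.swaps) h.2]; group

theorem nu_αH (h : ↥(Hsub G a b)) : ν (f.αH ht h) = (ν h)⁻¹ := f.nu_swap ht.swaps h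

theorem αH_W (h : ↥(Hsub G a b)) (hw : (h : G) ∈ W) : f.αH ht h = h := by
  apply Subtype.ext
  rw [coe_αH, f.swap_W t ht.swaps h hw, mul_inv_cancel_right]

theorem nu_sq : ν ⟨t * t, f.swap_sq_mem ht.swaps⟩ = 1 := by
  have h1 : ((t * t) : G) • f.pt 1 = f.pt 1 := by
    rw [mul_smul, ht.line 1 one_ne_zero, inv_one, ht.line 1 one_ne_zero, inv_one]
  have h2 := f.H_pt ⟨t * t, f.swap_sq_mem ht.swaps⟩ 1
  rw [h1, mul_one] at h2
  exact Units.ext (f.pt_inj h2).symm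

theorem sq_mem_W : t * t ∈ W := (f.nu_ker _).1 (f.nu_sq ht)

theorem t_comm_j : t * j = j * t := f.swap_j ht.swaps

theorem tsq_zz (k : K) : t * t * f.zz k = f.zz k * (t * t) := f.W_cent _ (f.sq_mem_W ht) _ (f.zz_mem k)

/-- Elements commuting with `j` that move `a` have a normal form. -/
theorem decomp {g : G} (hg : g * j = j * g) {m k : K} (hga : g • a = f.pt m) (hk : g • f.pt (-k) = a) :
    ∃ h : ↥(Hsub G a b), g = f.zz m * h * t * f.zz k := by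
  have hmem : (f.zz m)⁻¹ * g * (f.zz k)⁻¹ * t⁻¹ ∈ Hsub G a b := by
    constructor
    · show ((f.zz m)⁻¹ * g * (f.zz k)⁻¹ * t⁻¹) • a = a
      rw [mul_smul, mul_smul, mul_smul, (f.swap_inv_smul ht.swaps).1, ← f.zz_neg k,
        show f.zz (-k) • b = f.pt (-k) from rfl, hk, inv_smul_eq_iff, f.fix_a (f.zz_U m)]
    · show ((f.zz m)⁻¹ * g * (f.zz k)⁻¹ * t⁻¹) • b = b
      rw [mul_smul, mul_smul, mul_smul, (f.swap_inv_smul ht.swaps).2, ← f.zz_neg k, f.fix_a (f.zz_U _),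
        hga, inv_smul_eq_iff]
      rfl
  exact ⟨⟨_, hmem⟩, by group⟩

theorem form_a (m k : K) (h : ↥(Hsub G a b)) : (f.zz m * h * t * f.zz k) • a = f.pt m := by
  rw [mul_smul, mul_smul, mul_smul, f.fix_a (f.zz_U k), ht.swaps.1, f.H_b]; rfl

theorem form_pt (m k : K) (h : ↥(Hsub G a b)) : (f.zz m * h * t * f.zz k) • f.pt (-k) = a := by
  rw [mul_smul, mul_smul, mul_smul, f.zz_pt, add_neg_cancel, f.pt_zero, ht.swaps.2, f.H_a,
    f.fix_a (f.zz_U m)]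

theorem form_inj {m m' k k' : K} {h h' : ↥(Hsub G a b)}
    (e : f.zz m * h * t * f.zz k = f.zz m' * h' * t * f.zz k') : m = m' ∧ k = k' ∧ h = h' := by
  have h1 : m = m' := f.pt_inj (by rw [← f.form_a ht m k h, e, f.form_a ht])
  subst h1
  have h2 : k = k' := neg_injective (f.pt_inj (MulAction.injective (f.zz m * h * t * f.zz k)
    (show (f.zz m * h * t * f.zz k) • f.pt (-k) = (f.zz m * h * t * f.zz k) • f.pt (-k') by
      rw [f.form_pt ht]; rw [e, f.form_pt ht])))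
  subst h2
  exact ⟨rfl, rfl, Subtype.ext (mul_left_cancel (mul_right_cancel (mul_right_cancel e)))⟩

/-- The middle term of `t z t⁻¹`. -/
theorem exists_hc {c : K} (hc : c ≠ 0) :
    ∃ h : ↥(Hsub G a b), t * f.zz c * t⁻¹ = f.zz c⁻¹ * h * t * f.zz c⁻¹ := by
  refine f.decomp ht ?_ ?_ ?_
  · have h1 := f.t_comm_j ht
    have h2 := f.Z_comm_j (f.zz_mem c)
    exact ((Commute.mul_left h1 h2).mul_left (Commute.inv_left h1)).eq
  · rw [mul_smul, mul_smul, (f.swap_inv_smul ht.swaps).1, show f.zz c • b = f.pt c from rfl, ht.line c hc]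
  · rw [mul_smul, mul_smul, show -c⁻¹ = (-c)⁻¹ from (inv_neg).symm, f.inv_line' ht _ (inv_ne_zero (neg_ne_zero.2 hc)),
      inv_inv, f.zz_pt, add_neg_cancel, f.pt_zero, ht.swaps.2]

/-- The middle term of `t z t⁻¹`. -/
noncomputable def hc (c : K) : ↥(Hsub G a b) :=
  if hc : c ≠ 0 then (f.exists_hc ht hc).choose else 1

theorem hc_spec {c : K} (hc0 : c ≠ 0) : t * f.zz c * t⁻¹ = f.zz c⁻¹ * f.hc ht c * t * f.zz c⁻¹ := by
  rw [hc, dif_pos hc0]
  exact (f.exists_hc ht hc0).choose_spec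

theorem hc_unique {c : K} (hc0 : c ≠ 0) {m k : K} {h : ↥(Hsub G a b)}
    (e : t * f.zz c * t⁻¹ = f.zz m * h * t * f.zz k) : f.hc ht c = h :=
  (f.form_inj ht ((f.hc_spec ht hc0).symm.trans e)).2.2

theorem nu_hc {c : K} (hc0 : c ≠ 0) : (ν (f.hc ht c) : K) = -(c⁻¹ * c⁻¹) := by
  have h1 : (t * f.zz c * t⁻¹) • b = b := by
    rw [mul_smul, mul_smul, (f.swap_inv_smul ht.swaps).2, f.fix_a (f.zz_U c), ht.swaps.1]
  rw [f.hc_spec ht hc0, mul_smul, mul_smul, mul_smul, show f.zz c⁻¹ • b = f.pt c⁻¹ from rfl,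
    ht.line _ (inv_ne_zero hc0), inv_inv, f.H_pt, f.zz_pt] at h1
  have h2 := f.pt_inj (h1.trans f.pt_zero.symm)
  field_simp at h2 ⊢
  linear_combination h2

/-- `k ↦ k / α k`. -/
def Lam (h : ↥(Hsub G a b)) : ↥(Hsub G a b) := h * (f.αH ht h)⁻¹

theorem Lam_mul (g h : ↥(Hsub G a b)) : f.Lam ht (g * h) = f.Lam ht g * f.Lam ht h := by
  haveI := f.cyclic
  letI := IsCyclic.commGroup (α := ↥(Hsub G a b))
  simp only [Lam, map_mul, mul_inv_rev]
  ac_rfl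

theorem Lam_W {h : ↥(Hsub G a b)} (hw : (h : G) ∈ W) : f.Lam ht h = 1 := by
  rw [Lam, f.αH_W ht h hw, mul_inv_cancel]

theorem nu_Lam (h : ↥(Hsub G a b)) : ν (f.Lam ht h) = ν h * ν h := by
  rw [Lam, map_mul, map_inv, f.nu_αH, inv_inv]

theorem Lam_congr {g h : ↥(Hsub G a b)} (e : ν g = ν h) : f.Lam ht g = f.Lam ht h := by
  have hw : ((g * h⁻¹ : ↥(Hsub G a b)) : G) ∈ W := (f.nu_ker _).1 (by rw [map_mul, map_inv, e, mul_inv_cancel])
  calc f.Lam ht g = f.Lam ht (g * h⁻¹ * h) := by rw [inv_mul_cancel_right]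
    _ = f.Lam ht h := by rw [Lam_mul, f.Lam_W ht hw, one_mul]

/-- `Lam` as a function of the norm. -/
noncomputable def lam (k : K) : ↥(Hsub G a b) :=
  if hk : k ≠ 0 then f.Lam ht (f.nu_surj (Units.mk0 k hk)).choose else 1

theorem lam_nu (h : ↥(Hsub G a b)) : f.lam ht (ν h : K) = f.Lam ht h := by
  rw [lam, dif_pos (ν h).ne_zero]
  exact f.Lam_congr ht (((f.nu_surj _).choose_spec).trans (Units.mk0_val _ _))

theorem lam_mul {k l : K} (hk : k ≠ 0) (hl : l ≠ 0) : f.lam ht (k * l) = f.lam ht k * f.lam ht l := by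
  obtain ⟨g, hg⟩ := f.nu_surj (Units.mk0 k hk)
  obtain ⟨h, hh⟩ := f.nu_surj (Units.mk0 l hl)
  have hg' : (ν g : K) = k := by rw [hg, Units.val_mk0]
  have hh' : (ν h : K) = l := by rw [hh, Units.val_mk0]
  rw [← hg', ← hh', ← Units.val_mul, ← map_mul, f.lam_nu, f.lam_nu, f.lam_nu, Lam_mul]

theorem lam_one : f.lam ht 1 = 1 := by
  rw [← Units.val_one, ← map_one ν, f.lam_nu, f.Lam_W ht (by simp)]

theorem lam_inv {k : K} (hk : k ≠ 0) : f.lam ht k⁻¹ = (f.lam ht k)⁻¹ :=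
  eq_inv_of_mul_eq_one_left (by rw [← f.lam_mul ht (inv_ne_zero hk) hk, inv_mul_cancel₀ hk, f.lam_one])

end Frame

end CfsgLib.Recog.OddUnitary
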