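import Cfsg.Agent.Lib.Recog.OddUnitary.LabelCalc

/-!
Labels of the points off the line of `j`, their equivariance, and their constancy along blocks.
-/

set_option autoImplicit false
set_option linter.unusedSectionVars false
set_option linter.style.haveILetI false

namespace CfsgLib.Recog.OddUnitary

open MulAction
open scoped Classical

universe u v

variable {G : Type u} {Ω : Type v} [Group G] [MulAction G Ω] {a b : Ω} {U : Subgroup G} {p n : ℕ} {j : G}
  {Z W : Subgroup G} {K E : Type} [Field K] [Field E] {ν : ↥(Hsub G a b) →* Kˣ} {ζ : G → K}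
  {Φ : ↥(Hsub G a b) →* Eˣ} {ξ : G → E}

theorem orderOf_two_conj {g i : G} (hi : orderOf i = 2) : orderOf (g * i * g⁻¹) = 2 :=
  ((MulAut.conj g).orderOf_eq i).trans hi

namespace Frame

variable (f : Frame G a b U p n j Z W K E ν ζ Φ ξ) {t : G}
include f

/-- Through two points there is one involution. -/
def OneInvol (_f : Frame G a b U p n j Z W K E ν ζ Φ ξ) : Prop :=
  ∀ c d : Ω, c ≠ d → ∃! i : G, orderOf i = 2 ∧ i • c = c ∧ i • d = d

variable (h1 : f.OneInvol)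
include h1

theorem invol_eq {i i' : G} {c d : Ω} (hcd : c ≠ d) (hi : orderOf i = 2) (hic : i • c = c) (hid : i • d = d)
    (hi' : orderOf i' = 2) (hic' : i' • c = c) (hid' : i' • d = d) : i = i' :=
  (h1 c d hcd).unique ⟨hi, hic, hid⟩ ⟨hi', hic', hid'⟩

/-- The involutions fixing `a` are the `U`-conjugates of `j`. -/
theorem invol_at_a {i : G} {c : Ω} (hi : orderOf i = 2) (ha : i • a = a) (hc : i • c = c) (hca : c ≠ a) :
    ∃ u ∈ U, u • b = c ∧ i = u * j * u⁻¹ := by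
  obtain ⟨u, hu, rfl⟩ := f.exists_U hca
  refine ⟨u, hu, rfl, f.invol_eq h1 hca.symm hi ha hc (orderOf_two_conj f.j_ord) ?_ ?_⟩
  · rw [mul_smul, mul_smul, inv_smul_eq_iff.2 (f.fix_a hu).symm, f.j_a, f.fix_a hu]
  · rw [mul_smul, mul_smul, inv_smul_smul, f.H_b ⟨j, f.j_mem⟩]

/-- An involution that commutes with `j` and fixes a point moved by `j` does not fix `a`. -/
theorem not_fix_a {i : G} {c : Ω} (hi : orderOf i = 2) (hij : i * j = j * i) (hc : i • c = c) (hjc : j • c ≠ c) :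
    i • a ≠ a := by
  intro ha
  obtain ⟨u, hu, rfl, rfl⟩ := f.invol_at_a h1 hi ha hc (fun e => hjc (by rw [e, f.j_a]))
  have hjj := f.j_sq
  set w := j * u * j⁻¹
  have hw : w ∈ U := f.conj_U ⟨j, f.j_mem⟩ hu
  have hv : u⁻¹ * w ∈ Z := by
    rw [f.Z_eq, Subgroup.mem_inf, Subgroup.mem_centralizer_singleton_iff]
    refine ⟨mul_mem (inv_mem hu) hw, ?_⟩
    have e2 : w * j * w⁻¹ = u * j * u⁻¹ := by
      calc w * j * w⁻¹ = j * (u * j * u⁻¹) * j⁻¹ := by simp only [w]; group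
        _ = u * j * u⁻¹ := by rw [← hij]; group
    calc u⁻¹ * w * j = u⁻¹ * (w * j * w⁻¹) * w := by group
      _ = j * (u⁻¹ * w) := by rw [e2]; group
  set v := u⁻¹ * w
  have hw2 : j * w * j⁻¹ = u := by
    calc j * w * j⁻¹ = (j * j) * u * (j * j)⁻¹ := by simp only [w]; group
      _ = u := by rw [hjj]; group
  have hv2 : v * v = 1 := by
    have h2 : j * v * j⁻¹ = v := by rw [← f.Z_comm_j hv]; group
    have h3 : j * v * j⁻¹ = (j * u * j⁻¹)⁻¹ * (j * w * j⁻¹) := by simp only [v]; group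
    rw [h2, hw2] at h3
    have h4 : v = v⁻¹ := h3.trans (show w⁻¹ * u = (u⁻¹ * w)⁻¹ by group)
    nth_rewrite 1 [h4]
    exact inv_mul_cancel v
  have hvp := f.Z_exp v hv
  obtain ⟨k, hk⟩ := f.prime.odd_of_ne_two f.odd
  rw [hk, pow_succ, pow_mul, pow_two, hv2, one_pow, one_mul] at hvp
  apply hjc
  have : w = u := (inv_mul_eq_one.1 hvp).symm
  calc j • u • b = w • b := by simp only [w]; rw [mul_smul, mul_smul, inv_smul_eq_iff.2 (f.H_b ⟨j, f.j_mem⟩).symm]
    _ = u • b := by rw [this]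

variable (ht : f.Inv t)
include ht

/-- `(m, h)` is the label of `c`. -/
structure Lbl (f : Frame G a b U p n j Z W K E ν ζ Φ ξ) (t : G) (c : Ω) (m : K) (h : ↥(Hsub G a b)) : Prop where
  moved : j • c ≠ c
  invol : orderOf (f.iEl (t := t) m h) = 2
  fixes : f.iEl (t := t) m h • c = c

theorem iEl_comm_j (m : K) (h : ↥(Hsub G a b)) : f.iEl (t := t) m h * j = j * f.iEl (t := t) m h := by
  have e1 : Commute (f.zz m) j := f.Z_comm_j (f.zz_mem m)
  have e2 : Commute (h : G) j := f.comm_H h.2 f.j_mem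
  have e3 : Commute t j := f.t_comm_j ht
  have e4 : Commute (f.zz (-m)) j := f.Z_comm_j (f.zz_mem _)
  exact (((e1.mul_left e2).mul_left e3).mul_left e4).eq

theorem lbl_of_invol {i : G} {c : Ω} (hi : orderOf i = 2) (hij : i * j = j * i) (hc : i • c = c)
    (hjc : j • c ≠ c) : ∃ m h, i = f.iEl (t := t) m h ∧ f.Lbl t c m h := by
  obtain ⟨m, hm⟩ : ∃ m, i • a = f.pt m :=
    f.exists_pt (f.not_fix_a h1 hi hij hc hjc) (by rw [smul_smul, ← hij, mul_smul, f.j_a])
  have hii : i * i = 1 := by rw [← pow_two, ← hi, pow_orderOf_eq_one]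
  have hback : i • f.pt (-(-m)) = a := by rw [neg_neg, ← hm, smul_smul, hii, one_smul]
  obtain ⟨h, hh⟩ := f.decomp ht hij hm hback
  subst hh
  exact ⟨m, h, rfl, hjc, hi, hc⟩

theorem exists_lbl {c : Ω} (hjc : j • c ≠ c) : ∃ m h, f.Lbl t c m h := by
  obtain ⟨i, ⟨hi, hic, hijc⟩, -⟩ := h1 c (j • c) hjc.symm
  have hij : i * j = j * i := by
    have h2 : j * i * j⁻¹ = i := f.invol_eq h1 hjc.symm (orderOf_two_conj hi) (by
        have e : j⁻¹ = j := inv_eq_of_mul_eq_one_right f.j_sq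
        rw [e, mul_smul, mul_smul, hijc, smul_smul, f.j_sq, one_smul]) (by
        rw [mul_smul, mul_smul, inv_smul_smul, hic]) hi hic hijc
    calc i * j = j * i * j⁻¹ * j := by rw [h2]
      _ = j * i := by group
  obtain ⟨m, h, -, hl⟩ := f.lbl_of_invol h1 ht hi hij hic hjc
  exact ⟨m, h, hl⟩

theorem lbl_unique {c : Ω} {m m' : K} {h h' : ↥(Hsub G a b)} (l : f.Lbl t c m h) (l' : f.Lbl t c m' h') :
    m = m' ∧ h = h' := by
  have key : ∀ {m : K} {h : ↥(Hsub G a b)}, f.Lbl t c m h → f.iEl (t := t) m h • j • c = j • c := fun {m h} l => by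
    rw [smul_smul, f.iEl_comm_j h1 ht, mul_smul, l.fixes]
  obtain ⟨h2, -, h3⟩ := f.form_inj ht (f.invol_eq h1 l.moved.symm l.invol l.fixes (key l) l'.invol l'.fixes (key l'))
  exact ⟨h2, h3⟩

theorem iEl_a (m : K) (h : ↥(Hsub G a b)) : f.iEl (t := t) m h • a = f.pt m := f.form_a ht m (-m) h

theorem iEl_b {m : K} (hm : m ≠ 0) (h : ↥(Hsub G a b)) :
    f.iEl (t := t) m h • b = f.pt (m + (ν h : K) * (-m)⁻¹) := by
  rw [iEl, mul_smul, mul_smul, mul_smul, show f.zz (-m) • b = f.pt (-m) from rfl, ht.line _ (neg_ne_zero.2 hm),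
    f.H_pt, f.zz_pt]

theorem lbl_n_ne {c : Ω} {m : K} {h : ↥(Hsub G a b)} (l : f.Lbl t c m h) : (ν h : K) - m * m ≠ 0 := by
  intro e
  have hm : m ≠ 0 := fun e' => (ν h).ne_zero (by rw [e', mul_zero, sub_zero] at e; exact e)
  have hb : f.iEl (t := t) m h • b = b := by
    rw [f.iEl_b h1 ht hm, show m + (ν h : K) * (-m)⁻¹ = 0 by field_simp; linear_combination -e]
    exact f.pt_zero
  refine f.not_fix_a h1 (i := t * f.iEl (t := t) m h * t⁻¹) (c := t • c) (orderOf_two_conj l.invol) ?_ ?_ ?_ ?_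
  · have e2 : Commute t j := f.t_comm_j ht
    exact ((e2.mul_left (f.iEl_comm_j h1 ht m h)).mul_left e2.inv_left).eq
  · rw [mul_smul, mul_smul, inv_smul_smul, l.fixes]
  · rw [smul_smul, ← f.t_comm_j ht, mul_smul]
    exact fun e' => l.moved (MulAction.injective t e')
  · rw [mul_smul, mul_smul, (f.swap_inv_smul ht.swaps).1, hb, ht.swaps.2]

theorem lbl_zz {c : Ω} {m : K} {h : ↥(Hsub G a b)} (l : f.Lbl t c m h) (k : K) :
    f.Lbl t (f.zz k • c) (k + m) h := by
  have e : f.iEl (t := t) (k + m) h = f.zz k * f.iEl (t := t) m h * (f.zz k)⁻¹ := by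
    rw [iEl, iEl, ← f.zz_neg, show -(k + m) = -m + -k by ring, f.zz_add, f.zz_add]; group
  refine ⟨?_, e ▸ orderOf_two_conj l.invol, by rw [e, mul_smul, mul_smul, inv_smul_smul, l.fixes]⟩
  rw [smul_smul, ← f.Z_comm_j (f.zz_mem k), mul_smul]
  exact fun e' => l.moved (MulAction.injective (f.zz k) e')

theorem lbl_H {c : Ω} {m : K} {h : ↥(Hsub G a b)} (l : f.Lbl t c m h) (k : ↥(Hsub G a b)) :
    f.Lbl t ((k : G) • c) ((ν k : K) * m) (f.Lam ht k * h) := by
  have h2 : t * (k : G)⁻¹ = ((f.αH ht k)⁻¹ : ↥(Hsub G a b)) * t := by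
    rw [← Subgroup.coe_inv, f.t_H ht, map_inv]
  have h3 : f.zz (-m) * (k : G)⁻¹ = (k : G)⁻¹ * f.zz ((ν k : K) * -m) := by
    have := f.zz_H k⁻¹ (-m)
    rw [Subgroup.coe_inv, map_inv, Units.val_inv_eq_inv_val, div_inv_eq_mul, mul_comm (-m)] at this
    exact this
  have e : f.iEl (t := t) ((ν k : K) * m) (f.Lam ht k * h) = (k : G) * f.iEl (t := t) m h * (k : G)⁻¹ := by
    symm
    calc (k : G) * f.iEl (t := t) m h * (k : G)⁻¹
        = ((k : G) * f.zz m) * h * t * (f.zz (-m) * (k : G)⁻¹) := by rw [iEl]; group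
      _ = f.zz ((ν k : K) * m) * k * h * (t * (k : G)⁻¹) * f.zz ((ν k : K) * -m) := by rw [f.H_zz, h3]; group
      _ = f.zz ((ν k : K) * m) * ((k * h * (f.αH ht k)⁻¹ : ↥(Hsub G a b)) : G) * t * f.zz ((ν k : K) * -m) := by
        rw [h2]; simp only [Subgroup.coe_mul]; group
      _ = _ := by rw [iEl, Lam, mul_neg, mul_assoc k h, f.H_mul_comm h, ← mul_assoc k]
  refine ⟨?_, e ▸ orderOf_two_conj l.invol, by rw [e, mul_smul, mul_smul, inv_smul_smul, l.fixes]⟩
  rw [smul_smul, ← f.comm_H k.2 f.j_mem, mul_smul]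
  exact fun e' => l.moved (MulAction.injective (k : G) e')

theorem lbl_t {c : Ω} {m : K} {h : ↥(Hsub G a b)} (l : f.Lbl t c m h) :
    f.Lbl t (t • c) (-m / ((ν h : K) - m * m)) (h * (f.lam ht ((ν h : K) - m * m))⁻¹) := by
  have hn := f.lbl_n_ne h1 ht l
  have e2 : Commute t j := f.t_comm_j ht
  have hjc : j • t • c ≠ t • c := by
    rw [smul_smul, ← f.t_comm_j ht, mul_smul]
    exact fun e' => l.moved (MulAction.injective t e')
  obtain ⟨m', h', hi, l'⟩ := f.lbl_of_invol h1 ht (i := t * f.iEl (t := t) m h * t⁻¹) (orderOf_two_conj l.invol)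
    ((e2.mul_left (f.iEl_comm_j h1 ht m h)).mul_left e2.inv_left).eq
    (by rw [mul_smul, mul_smul, inv_smul_smul, l.fixes]) hjc
  by_cases hm : m = 0
  · subst hm
    have e3 : t * f.iEl (t := t) (0 : K) h * t⁻¹ = f.zz 0 * (f.αH ht h : G) * t * f.zz (-0) := by
      rw [iEl, neg_zero, f.zz_zero, f.coe_αH]; group
    obtain ⟨h2, -, h3⟩ := f.form_inj ht (hi.symm.trans e3)
    subst h2; subst h3
    rw [neg_zero, zero_div, mul_zero, sub_zero, f.lam_nu, Lam, mul_inv_rev, inv_inv, f.H_mul_comm (f.αH ht h),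
      mul_inv_cancel_left]
    exact l'
  · obtain ⟨x, y, hxy⟩ := f.conj_iEl ht hm h hn
    obtain ⟨-, -, h3⟩ := f.form_inj ht (hi.symm.trans hxy)
    have h4 : f.pt m' = f.pt (-m / ((ν h : K) - m * m)) := by
      rw [← f.iEl_a h1 ht m' h', ← hi, mul_smul, mul_smul, (f.swap_inv_smul ht.swaps).1, f.iEl_b h1 ht hm,
        ht.line _ ?_]
      · congr 1
        field_simp
        rw [show m ^ 2 + -(ν h : K) = -((ν h : K) - m ^ 2) by ring, div_neg]
      · intro e
        apply hn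
        field_simp at e
        linear_combination -e
    rw [← h3, ← f.pt_inj h4]
    exact l'

/-- Along a block through `b`, the middle label transported by `t` is constant. -/
theorem block_const {i : G} {c c' : Ω} (hi : orderOf i = 2) (hb : i • b = b) (hc : i • c = c) (hc' : i • c' = c')
    {m m' : K} {h h' : ↥(Hsub G a b)} (l : f.Lbl t c m h) (l' : f.Lbl t c' m' h') :
    h * (f.lam ht ((ν h : K) - m * m))⁻¹ = h' * (f.lam ht ((ν h' : K) - m' * m'))⁻¹ := by
  have L := f.lbl_t h1 ht l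
  have L' := f.lbl_t h1 ht l'
  have ha : (t * i * t⁻¹) • a = a := by rw [mul_smul, mul_smul, (f.swap_inv_smul ht.swaps).1, hb, ht.swaps.2]
  have hfix : ∀ x : Ω, i • x = x → (t * i * t⁻¹) • (t • x) = t • x := fun x hx => by
    rw [mul_smul, mul_smul, inv_smul_smul, hx]
  obtain ⟨u, hu, hub, hconj⟩ := f.invol_at_a h1 (orderOf_two_conj hi) ha (hfix c hc) (fun e => L.moved (by rw [e, f.j_a]))
  have h2 := hfix c' hc'
  rw [hconj, mul_smul, mul_smul, smul_eq_iff_eq_inv_smul] at h2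
  obtain ⟨z, hz, hzb⟩ := f.mem_line (c := u⁻¹ • t • c')
    (fun e => L'.moved (by rw [inv_smul_eq_iff.1 e, f.fix_a hu, f.j_a])) h2
  have h3 : t • c' = f.zz (ζ z) • (t • c) := by
    rw [f.zz_zeta hz, ← hub, smul_smul z u, f.Z_central z hz u hu, mul_smul, hzb, smul_inv_smul]
  have L2 := f.lbl_zz h1 ht L (ζ z)
  rw [← h3] at L2
  exact (f.lbl_unique h1 ht L2 L').2

end Frame

end CfsgLib.Recog.OddUnitary
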