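import Mathlib

/-!
The arithmetic used for the local structure.
-/

set_option autoImplicit false

namespace CfsgLib.Recog.OddUnitary.Loc

/-- `p ^ m + 1` divides `p ^ N + 1` only when `N` is an odd multiple of `m`. -/
theorem odd_multiple {p m : ℕ} (hp : 3 ≤ p) (hm : 1 ≤ m) :
    ∀ N : ℕ, p ^ m + 1 ∣ p ^ N + 1 → ∃ k, N = m * (2 * k + 1) := by
  intro N
  induction N using Nat.strong_induction_on with
  | _ N ih =>
    intro h
    have hpos : ∀ e, 0 < p ^ e := fun e => pow_pos (by omega) e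
    rcases lt_trichotomy N m with hlt | rfl | hgt
    · have := Nat.le_of_dvd (by omega) h
      have := Nat.pow_lt_pow_right (show 1 < p by omega) hlt
      omega
    · exact ⟨0, by ring⟩
    have h1 : p ^ m + 1 ∣ p ^ (N - m) - 1 := by
      have e : p ^ (N - m) * (p ^ m + 1) = (p ^ N + 1) + (p ^ (N - m) - 1) := by
        rw [mul_add, mul_one, ← pow_add, show N - m + m = N by omega]
        have := hpos (N - m)
        omega
      exact (Nat.dvd_add_right h).1 (e ▸ Dvd.intro_left _ rfl)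
    by_cases h2 : N - m < m
    · have h3 := Nat.pow_lt_pow_right (show 1 < p by omega) h2
      have h4 : p ^ (N - m) - 1 = 0 := Nat.eq_zero_of_dvd_of_lt h1 (by omega)
      have h5 : p ^ 1 ≤ p ^ (N - m) := Nat.pow_le_pow_right (by omega) (by omega)
      rw [pow_one] at h5
      omega
    have h6 : p ^ m + 1 ∣ p ^ (N - m - m) + 1 := by
      have e : p ^ (N - m - m) * (p ^ m + 1) = (p ^ (N - m) - 1) + (p ^ (N - m - m) + 1) := by
        rw [mul_add, mul_one, ← pow_add, show N - m - m + m = N - m by omega]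
        have := hpos (N - m)
        omega
      exact (Nat.dvd_add_right h1).1 (e ▸ Dvd.intro_left _ rfl)
    obtain ⟨k, hk⟩ := ih (N - m - m) (by omega) h6
    refine ⟨k + 1, ?_⟩
    have : m * (2 * (k + 1) + 1) = m * (2 * k + 1) + m + m := by ring
    omega

/-- Few transpositions force the centraliser of the involution to have order `q`. -/
theorem eq_of_bound {p m n : ℕ} (hp : 3 ≤ p) (hm : 1 ≤ m) (hmn : m < 3 * n)
    (hdvd : p ^ m + 1 ∣ p ^ (3 * n) + 1)
    (hb : (p ^ n) ^ 3 - p ^ m ≤ 2 * (p ^ m - 1) * ((p ^ m + 1) * p ^ m)) : m = n := by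
  obtain ⟨k, hk⟩ := odd_multiple hp hm _ hdvd
  have hk1 : 1 ≤ k := by
    rcases Nat.eq_zero_or_pos k with h | h
    · subst h; omega
    · exact h
  have hle : m ≤ n := by
    have := Nat.mul_le_mul_left m (show 3 ≤ 2 * k + 1 by omega)
    omega
  by_contra hne
  have h1 : 3 * p ^ m ≤ p ^ n := by
    calc 3 * p ^ m ≤ p * p ^ m := Nat.mul_le_mul_right _ hp
      _ = p ^ (m + 1) := by ring
      _ ≤ p ^ n := Nat.pow_le_pow_right (by omega) (by omega)
  have hf : 1 ≤ p ^ m := Nat.one_le_pow _ _ (by omega)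
  generalize p ^ m = f at h1 hb hf
  generalize p ^ n = q at h1 hb
  have h27 : 27 * f ^ 3 ≤ q ^ 3 := by
    calc 27 * f ^ 3 = (3 * f) ^ 3 := by ring
      _ ≤ q ^ 3 := Nat.pow_le_pow_left h1 3
  obtain ⟨g, rfl⟩ := Nat.exists_eq_add_of_le hf
  have hb' : q ^ 3 ≤ 1 + g + 2 * g * ((1 + g + 1) * (1 + g)) := by
    rw [Nat.add_sub_cancel_left] at hb
    omega
  nlinarith [Nat.zero_le (g * g * g), Nat.zero_le (g * g)]

end CfsgLib.Recog.OddUnitary.Loc
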