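import Cfsg.Agent.Lib.Recog.OddUnitary.Defs

/-!
Fixed points of the elements of the two-point stabiliser: the first facts for the local structure.
-/

set_option autoImplicit false
set_option linter.unusedSectionVars false

namespace CfsgLib.Recog.OddUnitary.Loc

open MulAction

universe u v

variable {G : Type u} {Ω : Type v} [Group G] [MulAction G Ω] {a b : Ω} {U : Subgroup G} {p n : ℕ}

theorem mem_H {x : G} : x ∈ Hsub G a b ↔ x • a = a ∧ x • b = b := by
  simp [Subgroup.mem_inf, mem_stabilizer_iff]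

variable (S : Setup G a b U p n)
include S

theorem q_pos : 0 < p ^ n := pow_pos S.prime.pos n

theorem q_ge : 3 ≤ p ^ n := by
  have h3 : 3 ≤ p := by
    have := S.prime.two_le
    have := S.odd
    omega
  exact h3.trans (Nat.le_self_pow (by have := S.pos; omega) p)

theorem q_odd : Odd (p ^ n) := (S.prime.odd_of_ne_two S.odd).pow

theorem H_comm {x y : G} (hx : x ∈ Hsub G a b) (hy : y ∈ Hsub G a b) : Commute x y := by
  have := S.cyclic
  exact congrArg Subtype.val (IsCyclic.commGroup.mul_comm (⟨x, hx⟩ : Hsub G a b) ⟨y, hy⟩)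

theorem u_fix_a {u : G} (hu : u ∈ U) : u • a = a := mem_stabilizer_iff.1 (S.le hu)

theorem u_inj {u v : G} (hu : u ∈ U) (hv : v ∈ U) (h : u • b = v • b) : u = v := by
  have hne : u • b ≠ a := fun h1 => S.ne ((smul_left_cancel u (h1.trans (u_fix_a S hu).symm)).symm)
  obtain ⟨w, -, hw⟩ := S.regular (u • b) hne
  exact congrArg Subtype.val ((hw ⟨u, hu⟩ rfl).trans (hw ⟨v, hv⟩ h.symm).symm)

theorem u_move {u : G} (hu : u ∈ U) (h1 : u ≠ 1) : u • b ≠ b ∧ u • b ≠ a :=
  ⟨fun h => h1 (u_inj S hu (one_mem U) (by rw [h, one_smul])),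
    fun h => S.ne ((smul_left_cancel u (h.trans (u_fix_a S hu).symm)).symm)⟩

theorem exists_u {c : Ω} (hc : c ≠ a) : ∃ u ∈ U, u • b = c := by
  obtain ⟨u, hu, -⟩ := S.regular c hc
  exact ⟨u, u.2, hu⟩

theorem card_U : Nat.card U = (p ^ n) ^ 3 := by
  classical
  have := S.finite_pts
  have := Fintype.ofFinite Ω
  have h : Nat.card {c : Ω // c ≠ a} = Nat.card U := by
    refine (Nat.card_congr (Equiv.ofBijective
      (fun u : U => (⟨(u : G) • b, fun h => S.ne ?_⟩ : {c : Ω // c ≠ a})) ⟨fun u v huv => ?_,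
        fun c => ?_⟩)).symm
    · exact (smul_left_cancel (u : G) (h.trans (u_fix_a S u.2).symm)).symm
    · exact Subtype.ext (u_inj S u.2 v.2 (congrArg Subtype.val huv))
    · obtain ⟨u, hu, he⟩ := exists_u S c.2
      exact ⟨⟨u, hu⟩, Subtype.ext he⟩
  rw [← h, Nat.card_eq_fintype_card, Fintype.card_subtype_compl, Fintype.card_subtype_eq,
    ← Nat.card_eq_fintype_card, S.card_pts]
  rfl

theorem pGroup_U : IsPGroup p U := by
  have := Fact.mk S.prime
  exact IsPGroup.of_card (n := n * 3) (by rw [card_U S, pow_mul])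

theorem commute_iff {x : G} (hx : x ∈ Hsub G a b) {u : G} (hu : u ∈ U) :
    Commute x u ↔ x • u • b = u • b := by
  have hxb := (mem_H.1 hx).2
  constructor
  · intro h
    rw [← mul_smul, h.eq, mul_smul, hxb]
  · intro h
    have hm : x * u * x⁻¹ ∈ U := S.conj_mem x hx.1 u hu
    have e : x * u * x⁻¹ = u := u_inj S hm hu (by
      rw [mul_smul, mul_smul, show x⁻¹ • b = b from inv_smul_eq_iff.2 hxb.symm, h])
    exact mul_inv_eq_iff_eq_mul.1 e

theorem exists_comm_u {x : G} (hx : x ∈ Hsub G a b) {c : Ω} (hc : c ≠ a) (hxc : x • c = c) :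
    ∃ u ∈ U, Commute x u ∧ u • b = c := by
  obtain ⟨u, hu, he⟩ := exists_u S hc
  exact ⟨u, hu, (commute_iff S hx hu).2 (by rw [he, hxc]), he⟩

theorem exists_map {c d c' d' : Ω} (h : c ≠ d) (h' : c' ≠ d') :
    ∃ g : G, g • c = c' ∧ g • d = d' :=
  MulAction.is_two_pretransitive_iff.1 S.two h h'

theorem exists_swap : ∃ t : G, Swaps t a b := exists_map S S.ne S.ne.symm

theorem swap_conj {t : G} (ht : Swaps t a b) {x : G} (hx : x ∈ Hsub G a b) :
    t * x * t⁻¹ ∈ Hsub G a b := by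
  have ha : t⁻¹ • a = b := inv_smul_eq_iff.2 ht.2.symm
  have hb : t⁻¹ • b = a := inv_smul_eq_iff.2 ht.1.symm
  rw [mem_H]
  rw [mem_H] at hx
  simp only [mul_smul, ha, hb, hx.1, hx.2, ht.1, ht.2, and_self]

theorem swap_inv_mem {t : G} (ht : Swaps t a b) : Swaps t⁻¹ a b :=
  ⟨inv_smul_eq_iff.2 ht.2.symm, inv_smul_eq_iff.2 ht.1.symm⟩

theorem swap_mul {t s : G} (ht : Swaps t a b) (hs : Swaps s a b) : t * s ∈ Hsub G a b :=
  mem_H.2 ⟨by rw [mul_smul, hs.1, ht.2], by rw [mul_smul, hs.2, ht.1]⟩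

theorem swap_mul_H {t : G} (ht : Swaps t a b) {h : G} (hh : h ∈ Hsub G a b) :
    Swaps (t * h) a b :=
  ⟨by rw [mul_smul, (mem_H.1 hh).1, ht.1], by rw [mul_smul, (mem_H.1 hh).2, ht.2]⟩

/-- An element fixing `a`, `b` and a further point commutes with every swap of `a` and `b`. -/
theorem swap_comm {x : G} (hx : x ∈ Hsub G a b) {c : Ω} (hca : c ≠ a) (hcb : c ≠ b)
    (hxc : x • c = c) {t : G} (ht : Swaps t a b) : Commute t x := by
  have hx' := mem_H.1 hx
  have hx2 : t⁻¹ * x * t ∈ Hsub G a b := by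
    have := swap_conj S (swap_inv_mem S ht) hx
    rwa [inv_inv] at this
  -- the centraliser of `x` moves every fixed point to `a`, fixing `b`
  have hw : ∀ e : Ω, e ≠ b → x • e = e → ∃ w : G, Commute x w ∧ w • b = b ∧ w • e = a := by
    intro e he hxe
    have he1 : t⁻¹ • e ≠ a := fun h => he (by rw [← smul_inv_smul t e, h, ht.1])
    have hfix : (t⁻¹ * x * t) • (t⁻¹ • e) = t⁻¹ • e := by
      rw [mul_smul, smul_inv_smul, mul_smul, hxe]
    obtain ⟨u, hu, hcu, hue⟩ := exists_comm_u S hx2 he1 hfix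
    refine ⟨t * u⁻¹ * t⁻¹, ?_, ?_, ?_⟩
    · have h1 := hcu.inv_right.map (MulAut.conj t).toMonoidHom
      simp only [MulEquiv.coe_toMonoidHom, MulAut.conj_apply] at h1
      rwa [show t * (t⁻¹ * x * t) * t⁻¹ = x by group] at h1
    · rw [mul_smul, mul_smul, inv_smul_eq_iff.2 ht.1.symm,
        inv_smul_eq_iff.2 (u_fix_a S hu).symm, ht.1]
    · rw [mul_smul, mul_smul, ← hue, inv_smul_smul, ht.2]
  obtain ⟨u, hu, hcu, hue⟩ := exists_comm_u S hx hca hxc
  obtain ⟨w, hcw, hwb, hwc⟩ := hw c hcb hxc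
  set s0 := u⁻¹ * w⁻¹ with hs0
  have hc0 : Commute x s0 := hcu.inv_right.mul_right hcw.inv_right
  have hs0a : s0 • a = b := by
    rw [hs0, mul_smul, inv_smul_eq_iff.2 hwc.symm, ← hue, inv_smul_smul]
  have hfix : x • s0 • b = s0 • b := by rw [← mul_smul, hc0.eq, mul_smul, hx'.2]
  have hne : s0 • b ≠ b := fun h => S.ne (smul_left_cancel s0 (hs0a.trans h.symm))
  obtain ⟨w2, hc2, hw2b, hw2e⟩ := hw _ hne hfix
  have hs : Swaps (w2 * s0) a b := ⟨by rw [mul_smul, hs0a, hw2b], by rw [mul_smul, hw2e]⟩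
  have hc : Commute x (w2 * s0) := hc2.mul_right hc0
  set s := w2 * s0
  have hh : s⁻¹ * t ∈ Hsub G a b := swap_mul S (swap_inv_mem S hs) ht
  have hfin := hc.symm.mul_left (H_comm S hh hx)
  rwa [mul_inv_cancel_left] at hfin

theorem swap_comm_u {x : G} (hx : x ∈ Hsub G a b) {u : G} (hu : u ∈ U) (h1 : u ≠ 1)
    (hc : Commute x u) {t : G} (ht : Swaps t a b) : Commute t x :=
  swap_comm S hx (u_move S hu h1).2 (u_move S hu h1).1 ((commute_iff S hx hu).1 hc) ht

/-- The fixed points of `x ∈ H` are `a` and the orbit of `b` under the centraliser in `U`. -/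
theorem card_fix {x : G} (hx : x ∈ Hsub G a b) :
    Nat.card {c : Ω // x • c = c} =
      Nat.card ↥(U ⊓ Subgroup.centralizer ({x} : Set G)) + 1 := by
  classical
  have := S.finite_pts
  have := S.finite
  have e : Nat.card {c : Ω // x • c = c ∧ c ≠ a} =
      Nat.card ↥(U ⊓ Subgroup.centralizer ({x} : Set G)) := by
    refine (Nat.card_congr (Equiv.ofBijective
      (fun u : ↥(U ⊓ Subgroup.centralizer ({x} : Set G)) =>
        (⟨(u : G) • b, ?_, fun h => S.ne ?_⟩ : {c : Ω // x • c = c ∧ c ≠ a}))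
      ⟨fun u v huv => ?_, fun c => ?_⟩)).symm
    · exact (commute_iff S hx u.2.1).1
        (Subgroup.mem_centralizer_singleton_iff.1 u.2.2).symm
    · exact (smul_left_cancel (u : G) (h.trans (u_fix_a S u.2.1).symm)).symm
    · exact Subtype.ext (u_inj S u.2.1 v.2.1 (congrArg Subtype.val huv))
    · obtain ⟨u, hu, hcu, he⟩ := exists_comm_u S hx c.2.2 c.2.1
      exact ⟨⟨u, hu, Subgroup.mem_centralizer_singleton_iff.2 hcu.eq.symm⟩, Subtype.ext he⟩
  have := Fintype.ofFinite Ω
  rw [← e, Nat.card_eq_fintype_card, Nat.card_eq_fintype_card, Fintype.card_subtype,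
    Fintype.card_subtype,
    show (Finset.univ.filter fun c => x • c = c ∧ c ≠ a) =
      (Finset.univ.filter fun c => x • c = c).erase a by ext c; simp [and_comm],
    Finset.card_erase_add_one (by simp [(mem_H.1 hx).1])]

/-- Membership in a subgroup of the cyclic group `H` is decided by the order. -/
theorem mem_of_pow_card {K : Subgroup G} (hK : K ≤ Hsub G a b) {x : G} (hx : x ∈ Hsub G a b)
    (h : x ^ Nat.card K = 1) : x ∈ K := by
  classical
  have := S.finite
  have := S.cyclic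
  have := Fintype.ofFinite (Hsub G a b)
  have hsub : (Finset.univ.filter fun y : Hsub G a b => (y : G) ∈ K) ⊆
      Finset.univ.filter fun y : Hsub G a b => y ^ Nat.card K = 1 := fun y hy => by
    refine Finset.mem_filter.2 ⟨Finset.mem_univ _, Subtype.ext ?_⟩
    have hy' : (y : G) ∈ K := (Finset.mem_filter.1 hy).2
    rw [SubmonoidClass.coe_pow, OneMemClass.coe_one]
    exact congrArg Subtype.val (pow_card_eq_one' (x := (⟨y, hy'⟩ : K)))
  have hc : Nat.card K = (Finset.univ.filter fun y : Hsub G a b => (y : G) ∈ K).card := by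
    rw [← Nat.card_congr (Subgroup.subgroupOfEquivOfLe hK).toEquiv, Nat.card_eq_fintype_card,
      Fintype.card_subtype]
    rfl
  have heq := Finset.eq_of_subset_of_card_le hsub
    (hc ▸ IsCyclic.card_pow_eq_one_le (α := Hsub G a b) (Nat.card_pos (α := K)))
  have hm : (⟨x, hx⟩ : Hsub G a b) ∈ Finset.univ.filter fun y : Hsub G a b => (y : G) ∈ K := by
    rw [heq]
    exact Finset.mem_filter.2 ⟨Finset.mem_univ _, Subtype.ext h⟩
  exact (Finset.mem_filter.1 hm).2

end CfsgLib.Recog.OddUnitary.Loc
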