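import Cfsg.Agent.Lib.Recog.OddUnitary.LocalBasic

/-!
Counting the involutions with fixed points, and the transpositions they induce.
-/

set_option autoImplicit false
set_option linter.unusedSectionVars false

namespace CfsgLib.Recog.OddUnitary.Loc

open MulAction

universe u v

variable {G : Type u} {Ω : Type v} [Group G] [MulAction G Ω] {a b : Ω} {U : Subgroup G} {p n : ℕ}

variable (S : Setup G a b U p n)
include S

theorem even_card_H : Even (Nat.card ↥(Hsub G a b)) := by
  have h : Even ((p ^ n) ^ 2 - 1) := by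
    refine Nat.Odd.sub_odd ((q_odd S).pow) odd_one
  rw [← S.card_H] at h
  rcases Nat.even_mul.1 h with h' | h'
  · exact absurd h' (Nat.not_even_iff_odd.2 ((by decide : Odd 3).of_dvd_nat (Nat.gcd_dvd_left 3 _)))
  · exact h'

theorem exists_j : ∃ j : G, j ∈ Hsub G a b ∧ orderOf j = 2 := by
  have := S.finite
  have := Fact.mk Nat.prime_two
  obtain ⟨x, hx⟩ := exists_prime_orderOf_dvd_card' (G := ↥(Hsub G a b)) 2 (even_card_H S).two_dvd
  exact ⟨x, x.2, (Subgroup.orderOf_coe x).trans hx⟩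

theorem eq_of_invol {j x : G} (hjH : j ∈ Hsub G a b) (hj : orderOf j = 2) (hx : x ∈ Hsub G a b)
    (hx2 : x * x = 1) (hx1 : x ≠ 1) : x = j := by
  have := S.finite
  have h := mem_of_pow_card S (K := Subgroup.zpowers j) (Subgroup.zpowers_le.2 hjH) hx (by
    rw [Nat.card_zpowers, hj, pow_two, hx2])
  obtain ⟨k, hk⟩ := Subgroup.mem_zpowers_iff.1 h
  rcases Int.even_or_odd k with ⟨i, rfl⟩ | ⟨i, rfl⟩
  · exfalso
    apply hx1
    rw [← hk, ← two_mul, zpow_mul]
    simp [zpow_ofNat, ← hj, pow_orderOf_eq_one]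
  · rw [← hk, zpow_add, zpow_mul]
    simp [zpow_ofNat, ← hj, pow_orderOf_eq_one]

variable {j : G} (hjH : j ∈ Hsub G a b) (hj : orderOf j = 2)

include hjH hj in
theorem j_conj {c d : Ω} {g : G} (hc : g • a = c) (hd : g • b = d) :
    orderOf (g * j * g⁻¹) = 2 ∧ (g * j * g⁻¹) • c = c ∧ (g * j * g⁻¹) • d = d := by
  refine ⟨by rw [← MulAut.conj_apply, MulEquiv.orderOf_eq, hj], ?_, ?_⟩
  · rw [mul_smul, mul_smul, inv_smul_eq_iff.2 hc.symm, (mem_H.1 hjH).1, hc]
  · rw [mul_smul, mul_smul, inv_smul_eq_iff.2 hd.symm, (mem_H.1 hjH).2, hd]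

include hjH hj in
theorem invol_eq {c d : Ω} {g : G} (hc : g • a = c) (hd : g • b = d) {i : G} (hi : orderOf i = 2)
    (hic : i • c = c) (hid : i • d = d) : i = g * j * g⁻¹ := by
  have hii : i * i = 1 := by rw [← pow_two, ← hi, pow_orderOf_eq_one]
  have hi1 : i ≠ 1 := fun h => by rw [h, orderOf_one] at hi; norm_num at hi
  have hm : g⁻¹ * i * g ∈ Hsub G a b := mem_H.2
    ⟨by rw [mul_smul, mul_smul, hc, hic, inv_smul_eq_iff.2 hc.symm],
      by rw [mul_smul, mul_smul, hd, hid, inv_smul_eq_iff.2 hd.symm]⟩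
  have h := eq_of_invol S hjH hj hm
    (by rw [show g⁻¹ * i * g * (g⁻¹ * i * g) = g⁻¹ * (i * i) * g by group, hii]; group)
    (fun h => hi1 (by rw [show i = g * (g⁻¹ * i * g) * g⁻¹ by group, h]; group))
  rw [← h]; group

theorem card_fix_conj (g x : G) :
    Nat.card {c : Ω // (g * x * g⁻¹) • c = c} = Nat.card {c : Ω // x • c = c} := by
  refine Nat.card_congr (Equiv.subtypeEquiv (MulAction.toPerm g⁻¹) fun c => ?_)
  rw [MulAction.toPerm_apply, mul_smul, mul_smul]
  exact eq_inv_smul_iff.symm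

variable [Fintype G] [Fintype Ω] [DecidableEq G] [DecidableEq Ω]

omit S in
/-- The fixed points. -/
abbrev Fx (Ω : Type v) [MulAction G Ω] [Fintype Ω] [DecidableEq Ω] (i : G) : Finset Ω :=
  Finset.univ.filter fun c => i • c = c

include hjH hj in
theorem card_Fx {i : G} (hi : orderOf i = 2) {c d : Ω} (hcd : c ≠ d) (hic : i • c = c)
    (hid : i • d = d) :
    (Fx Ω i).card = Nat.card ↥(U ⊓ Subgroup.centralizer ({j} : Set G)) + 1 := by
  obtain ⟨g, hgc, hgd⟩ := exists_map S S.ne hcd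
  rw [invol_eq S hjH hj hgc hgd hi hic hid, ← card_fix S hjH, ← card_fix_conj S g j,
    Nat.card_eq_fintype_card, Fintype.card_subtype]

include hjH hj in
/-- Ordered pairs in a set closed under the fixed-point sets of involutions. -/
theorem dvd_card_offDiag (T : Finset Ω)
    (hT : ∀ i : G, orderOf i = 2 → ∀ c ∈ T, ∀ d ∈ T, c ≠ d → i • c = c → i • d = d → Fx Ω i ⊆ T) :
    ∃ s : Finset G, (∀ i ∈ s, orderOf i = 2 ∧ ∃ c ∈ T, ∃ d ∈ T, c ≠ d ∧ i • c = c ∧ i • d = d) ∧
      (∀ i : G, orderOf i = 2 → ∀ c ∈ T, ∀ d ∈ T, c ≠ d → i • c = c → i • d = d → i ∈ s) ∧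
      T.card * T.card - T.card = s.card *
        ((Nat.card ↥(U ⊓ Subgroup.centralizer ({j} : Set G)) + 1) *
          Nat.card ↥(U ⊓ Subgroup.centralizer ({j} : Set G))) := by
  classical
  set f := Nat.card ↥(U ⊓ Subgroup.centralizer ({j} : Set G))
  set s : Finset G := Finset.univ.filter fun i =>
    orderOf i = 2 ∧ ∃ c ∈ T, ∃ d ∈ T, c ≠ d ∧ i • c = c ∧ i • d = d
  refine ⟨s, fun i hi => (Finset.mem_filter.1 hi).2, fun i hi c hc d hd hcd h1 h2 =>
    Finset.mem_filter.2 ⟨Finset.mem_univ _, hi, c, hc, d, hd, hcd, h1, h2⟩, ?_⟩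
  have hun : T.offDiag = s.biUnion fun i => (Fx Ω i).offDiag := by
    ext ⟨c, d⟩
    simp only [Finset.mem_offDiag, Finset.mem_biUnion, Finset.mem_filter, Finset.mem_univ, true_and]
    constructor
    · rintro ⟨hc, hd, hcd⟩
      obtain ⟨g, hgc, hgd⟩ := exists_map S S.ne hcd
      obtain ⟨h2, h3, h4⟩ := j_conj S hjH hj hgc hgd
      exact ⟨g * j * g⁻¹, Finset.mem_filter.2
        ⟨Finset.mem_univ _, h2, c, hc, d, hd, hcd, h3, h4⟩, h3, h4, hcd⟩
    · rintro ⟨i, hi, h1, h2, hcd⟩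
      obtain ⟨hi2, c', hc', d', hd', hcd', h3, h4⟩ := (Finset.mem_filter.1 hi).2
      have hsub := hT i hi2 c' hc' d' hd' hcd' h3 h4
      exact ⟨hsub (by simp [h1]), hsub (by simp [h2]), hcd⟩
  rw [← Finset.offDiag_card, hun, Finset.card_biUnion, Finset.sum_congr rfl (fun i hi => ?_),
    Finset.sum_const, smul_eq_mul]
  · obtain ⟨hi2, c', -, d', -, hcd', h3, h4⟩ := (Finset.mem_filter.1 hi).2
    rw [Finset.offDiag_card, card_Fx S hjH hj hi2 hcd' h3 h4, ← Nat.sub_one_mul,
      Nat.add_sub_cancel, mul_comm]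
  · intro i hi i' hi' hne
    rw [Function.onFun, Finset.disjoint_left]
    rintro ⟨c, d⟩ h h'
    simp only [Finset.mem_offDiag, Finset.mem_filter, Finset.mem_univ, true_and] at h h'
    obtain ⟨g, hgc, hgd⟩ := exists_map S S.ne h.2.2
    exact hne ((invol_eq S hjH hj hgc hgd (Finset.mem_filter.1 hi).2.1 h.1 h.2.1).trans
      (invol_eq S hjH hj hgc hgd (Finset.mem_filter.1 hi').2.1 h'.1 h'.2.1).symm)

include hjH hj in
/-- The number of transpositions induced by the involutions with fixed points is bounded by the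
number of involutions interchanging `a` and `b`. -/
theorem transposition_bound :
    (p ^ n) ^ 3 - Nat.card ↥(U ⊓ Subgroup.centralizer ({j} : Set G)) ≤
      Nat.card {t : G // orderOf t = 2 ∧ Swaps t a b} *
        ((Nat.card ↥(U ⊓ Subgroup.centralizer ({j} : Set G)) + 1) *
          Nat.card ↥(U ⊓ Subgroup.centralizer ({j} : Set G))) := by
  classical
  rw [Nat.card_eq_fintype_card (α := {t : G // orderOf t = 2 ∧ Swaps t a b}), Fintype.card_subtype]
  set f := Nat.card ↥(U ⊓ Subgroup.centralizer ({j} : Set G))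
  set κ := (Finset.univ.filter fun t : G => orderOf t = 2 ∧ Swaps t a b).card
  obtain ⟨s, hs, -, hcard⟩ := dvd_card_offDiag S hjH hj (Finset.univ : Finset Ω)
    (fun i _ c _ d _ _ _ _ => Finset.subset_univ _)
  set M := s.sigma fun i => Finset.univ.filter fun c : Ω => i • c ≠ c
  have hΩ : (Finset.univ : Finset Ω).card = (p ^ n) ^ 3 + 1 := by
    rw [Finset.card_univ, ← Nat.card_eq_fintype_card, S.card_pts]
  have hM : M.card = s.card * ((p ^ n) ^ 3 - f) := by
    rw [Finset.card_sigma, Finset.sum_congr rfl (fun i hi => ?_), Finset.sum_const, smul_eq_mul]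
    obtain ⟨hi2, c', -, d', -, hcd', h3, h4⟩ := hs i hi
    have h1 := Finset.card_filter_add_card_filter_not (s := (Finset.univ : Finset Ω))
      (fun c => i • c = c)
    rw [hΩ, card_Fx S hjH hj hi2 hcd' h3 h4] at h1
    show (Finset.univ.filter fun c : Ω => ¬ i • c = c).card = _
    omega
  have hle : M.card ≤ κ * (Finset.univ : Finset Ω).offDiag.card := by
    refine (Finset.card_le_mul_card_image (f := fun x : Σ _ : G, Ω => (x.2, x.1 • x.2)) M κ
      fun cd hcd => ?_).trans (Nat.mul_le_mul_left _ (Finset.card_le_card fun x hx => ?_))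
    · obtain ⟨x, hx, rfl⟩ := Finset.mem_image.1 hcd
      have hmove := (Finset.mem_filter.1 (Finset.mem_sigma.1 hx).2).2
      obtain ⟨g, hgc, hgd⟩ := exists_map S (Ne.symm hmove) S.ne
      refine Finset.card_le_card_of_injOn (fun y => g * y.1 * g⁻¹) (fun y hy => ?_) (fun y hy y' hy' h => ?_)
      · obtain ⟨hyM, hy2⟩ := Finset.mem_filter.1 hy
        simp only [Prod.mk.injEq] at hy2
        obtain ⟨hy1, hy3⟩ := hy2
        obtain ⟨hyo, -⟩ := hs y.1 (Finset.mem_sigma.1 hyM).1
        have hyy : y.1 * y.1 = 1 := by rw [← pow_two, ← hyo, pow_orderOf_eq_one]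
        refine Finset.mem_filter.2 ⟨Finset.mem_univ _,
          by show orderOf (g * y.1 * g⁻¹) = 2; rw [← MulAut.conj_apply, MulEquiv.orderOf_eq, hyo], ?_, ?_⟩
        · rw [mul_smul, mul_smul, inv_smul_eq_iff.2 hgc.symm, ← hy1, hy3, hgd]
        · rw [mul_smul, mul_smul, inv_smul_eq_iff.2 hgd.symm, ← hy3, ← mul_smul y.1 y.1, hyy,
            one_smul, hy1, hgc]
      · have h1 : y.1 = y'.1 := mul_left_cancel (mul_right_cancel h)
        have h2 : y.2 = y'.2 := by
          have e := (Finset.mem_filter.1 hy).2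
          have e' := (Finset.mem_filter.1 hy').2
          simp only [Prod.mk.injEq] at e e'
          rw [e.1, e'.1]
        exact Sigma.ext h1 (heq_of_eq h2)
    · obtain ⟨y, hy, rfl⟩ := Finset.mem_image.1 hx
      exact Finset.mem_offDiag.2 ⟨Finset.mem_univ _, Finset.mem_univ _,
        Ne.symm (Finset.mem_filter.1 (Finset.mem_sigma.1 hy).2).2⟩
  rw [hM, Finset.offDiag_card, hcard, mul_left_comm κ] at hle
  have hspos : 0 < s.card := by
    refine Nat.pos_of_ne_zero fun h0 => ?_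
    rw [h0, zero_mul, hΩ, ← Nat.sub_one_mul, Nat.add_sub_cancel] at hcard
    have h3 : 0 < (p ^ n) ^ 3 := pow_pos (q_pos S) 3
    have h4 := Nat.mul_pos h3 (Nat.succ_pos ((p ^ n) ^ 3))
    rw [Nat.succ_eq_add_one] at h4
    omega
  exact Nat.le_of_mul_le_mul_left hle hspos

end CfsgLib.Recog.OddUnitary.Loc
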