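import Cfsg.Agent.Lib.Recog.OddUnitary.LocalKey

/-!
The kernel of the torus on the centraliser of the involution has index `q - 1`.
-/

set_option autoImplicit false
set_option linter.unusedSectionVars false

namespace CfsgLib.Recog.OddUnitary.Loc

open MulAction

universe u v

variable {G : Type u} {Ω : Type v} [Group G] [MulAction G Ω] {a b : Ω} {U : Subgroup G} {p n : ℕ}

variable (S : Setup G a b U p n)
include S

theorem gcd_three_odd : Odd (Nat.gcd 3 (p ^ n + 1)) :=
  Odd.of_dvd_nat (by decide) (Nat.gcd_dvd_left 3 _)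

theorem mem_Wh_of_pow {j : G} (x : ↥(Hsub G a b))
    (h : x ^ Nat.card (Wh a b U j) = 1) : x ∈ Wh a b U j := by
  have := S.finite
  have hc : Nat.card ((Wh a b U j).map (Hsub G a b).subtype) = Nat.card (Wh a b U j) :=
    Subgroup.card_subtype _ _
  have hm := mem_of_pow_card S (K := (Wh a b U j).map (Hsub G a b).subtype)
    (Subgroup.map_subtype_le _) x.2 (by
      rw [hc, ← SubmonoidClass.coe_pow, h, OneMemClass.coe_one])
  exact (Subgroup.mem_map_iff_mem (Hsub G a b).subtype_injective).1 hm

/-- The fixed points of `j` are fixed by the kernel. -/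
theorem fix_of_mem_Wh {j : G} (hjH : j ∈ Hsub G a b) (x : ↥(Hsub G a b))
    (hx : x ∈ Wh a b U j) {c : Ω} (hc : j • c = c) : (x : G) • c = c := by
  by_cases hca : c = a
  · rw [hca]; exact (mem_H.1 x.2).1
  · obtain ⟨u, hu, hcu, rfl⟩ := exists_comm_u S hjH hca hc
    exact (commute_iff S x.2 hu).1 ((mem_Wh S x).1 hx u
      ⟨hu, Subgroup.mem_centralizer_singleton_iff.2 hcu.eq.symm⟩)

theorem index_eq {j t : G} (hjH : j ∈ Hsub G a b) (ht : Swaps t a b) (hj : orderOf j = 2)
    (hZ : Nat.card (Zs U j) = p ^ n) (hI : p ^ n - 1 ≤ Nat.card (betaHom S ht).ker)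
    (hdvd : Nat.card (betaHom S ht).ker ∣ 2 * (Wh a b U j).index)
    (hcom : ∀ h : ↥(Hsub G a b), h ∈ Wh a b U j → Commute t (h : G))
    (hdiv : (Wh a b U j).index ∣ p ^ n - 1) : (Wh a b U j).index = p ^ n - 1 := by
  classical
  have := S.finite
  have := S.finite_pts
  have := S.cyclic
  have := S.simple
  have := S.faithful
  set q := p ^ n with hq
  have hq3 : 3 ≤ q := q_ge S
  set d := Nat.gcd 3 (q + 1) with hddef
  set W := Wh a b U j
  set I := (betaHom S ht).ker
  set e := W.index with he
  have hepos : 0 < e := Nat.pos_of_ne_zero Subgroup.index_ne_zero_of_finite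
  have hle : Nat.card I ≤ 2 * e := Nat.le_of_dvd (by omega) hdvd
  obtain ⟨k, hk⟩ := hdiv
  by_contra hne
  have hk2 : k = 2 := by
    rcases k with _ | _ | _ | k
    · omega
    · exact absurd (by omega) hne
    · rfl
    · exfalso
      have := Nat.mul_le_mul_left e (show 3 ≤ k + 1 + 1 + 1 by omega)
      omega
  subst hk2
  have hIcard : Nat.card I = e * 2 := by omega
  have hHW : Nat.card ↥(Hsub G a b) = e * Nat.card W := W.index_mul_card.symm
  have hdodd : Odd d := gcd_three_odd S
  have hH := S.card_H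
  rw [← hq, hHW, ← hddef] at hH
  have hdW : d * Nat.card W = 2 * (q + 1) := by
    refine Nat.eq_of_mul_eq_mul_left hepos ?_
    rw [← mul_assoc, mul_comm e d, mul_assoc, hH, ← mul_assoc, ← hk, mul_comm (q - 1),
      ← Nat.sq_sub_sq, one_pow]
  rcases Nat.even_or_odd e with heven | hodd
  · -- an element of order four both inverted and centralised
    have h4I : 4 ∣ Nat.card I := by
      obtain ⟨i, hi⟩ := heven
      exact ⟨i, by omega⟩
    have h4W : 4 ∣ Nat.card W := by
      have hq2 : Even (q + 1) := (q_odd S).add_one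
      obtain ⟨i, hi⟩ := hq2
      have h4 : 4 ∣ d * Nat.card W := ⟨i, by omega⟩
      exact ((show Nat.Coprime 4 d from
        (Nat.coprime_two_left.2 hdodd).pow_left 2)).dvd_of_dvd_mul_left h4
    obtain ⟨g, hg⟩ := IsCyclic.exists_ofOrder_eq_natCard (α := I)
    obtain ⟨i, hi⟩ := h4I
    have hipos : 0 < i := by omega
    set x := g ^ i
    have hx4 : orderOf x = 4 := by
      rw [orderOf_pow' g hipos.ne', hg, hi, Nat.gcd_mul_left_left, Nat.mul_div_cancel _ hipos]
    obtain ⟨i', hi'⟩ := h4W
    have hxW : (x : ↥(Hsub G a b)) ∈ W := by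
      refine mem_Wh_of_pow S _ ?_
      rw [hi', pow_mul, ← SubmonoidClass.coe_pow, ← hx4, pow_orderOf_eq_one, OneMemClass.coe_one,
        one_pow]
    have h1 : t * ((x : ↥(Hsub G a b)) : G) * t⁻¹ * ((x : ↥(Hsub G a b)) : G) = 1 := x.2
    rw [(hcom _ hxW).eq, mul_inv_cancel_right] at h1
    have h2 : x ^ 2 = 1 := Subtype.ext (Subtype.ext (by rw [pow_two]; exact h1))
    have := orderOf_dvd_of_pow_eq_one h2
    rw [hx4] at this
    norm_num at this
  · -- an odd permutation
    obtain ⟨r, o, ho, hro⟩ := Nat.exists_eq_two_pow_mul_odd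
      (n := Nat.card ↥(Hsub G a b)) Nat.card_pos.ne'
    set L := 2 ^ r with hL
    have hr : 1 ≤ r := by
      by_contra h
      obtain rfl : r = 0 := by omega
      have := even_card_H S
      rw [hro, hL, pow_zero, one_mul] at this
      exact Nat.not_even_iff_odd.2 ho this
    obtain ⟨g, hg⟩ := IsCyclic.exists_ofOrder_eq_natCard (α := ↥(Hsub G a b))
    set x := g ^ o
    have hxL : orderOf x = L := by
      rw [orderOf_pow' g ho.pos.ne', hg, hro, Nat.gcd_mul_left_left, Nat.mul_div_cancel _ ho.pos]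
    have hLW : L ∣ Nat.card W := by
      have hcop : Nat.Coprime L e := (Nat.coprime_two_left.2 hodd).pow_left r
      refine hcop.dvd_of_dvd_mul_left ?_
      rw [← hHW, hro]
      exact Dvd.intro _ rfl
    obtain ⟨i, hi⟩ := hLW
    have hxW : x ∈ W := mem_Wh_of_pow S _ (by
      rw [hi, pow_mul, ← hxL, pow_orderOf_eq_one, one_pow])
    have hfix : ∀ k : ℕ, 0 < k → k < L → ∀ c : Ω, ((x : ↥(Hsub G a b)) : G) ^ k • c = c →
        (x : G) • c = c := by
      intro k hk0 hkL c hc
      have hne1 : x ^ k ≠ 1 := pow_ne_one_of_lt_orderOf hk0.ne' (hxL ▸ hkL)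
      obtain ⟨s, -, hs⟩ := (Nat.dvd_prime_pow Nat.prime_two).1
        (by rw [← hL, ← hxL]; exact orderOf_pow_dvd k : orderOf (x ^ k) ∣ 2 ^ r)
      have hs1 : 1 ≤ s := by
        by_contra h
        obtain rfl : s = 0 := by omega
        exact hne1 (orderOf_eq_one_iff.1 hs)
      set y := (x ^ k) ^ 2 ^ (s - 1)
      have hyy : y * y = 1 := by
        rw [← pow_two, ← pow_mul, ← pow_succ, show s - 1 + 1 = s by omega, ← hs, pow_orderOf_eq_one]
      have hy1 : y ≠ 1 := pow_ne_one_of_lt_orderOf (pow_pos two_pos _).ne'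
        (by rw [hs]; exact Nat.pow_lt_pow_right one_lt_two (by omega))
      have hyj : ((y : ↥(Hsub G a b)) : G) = j := eq_of_invol S hjH hj y.2
        (congrArg Subtype.val hyy) fun h => hy1 (Subtype.ext h)
      refine fix_of_mem_Wh S hjH x hxW ?_
      rw [← hyj, SubmonoidClass.coe_pow, SubmonoidClass.coe_pow]
      have : ∀ i : ℕ, (((x : G) ^ k) ^ i) • c = c := fun i => by
        induction i with
        | zero => rw [pow_zero, one_smul]
        | succ i ih => rw [pow_succ, mul_smul, hc, ih]
      exact this _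
    have hFx : Nat.card {c : Ω // (x : G) • c = c} = q + 1 := by
      rw [← hZ, ← card_fix S hjH]
      refine Nat.card_congr (Equiv.subtypeEquivRight fun c => ⟨fun h => ?_, fun h => ?_⟩)
      · -- `j` is a power of `x`
        have hy : (((x : ↥(Hsub G a b)) : G) ^ (2 ^ (r - 1))) = j := by
          have hyy : (x ^ 2 ^ (r - 1)) * (x ^ 2 ^ (r - 1)) = 1 := by
            rw [← pow_two, ← pow_mul, ← pow_succ, show r - 1 + 1 = r by omega, ← hL, ← hxL,
              pow_orderOf_eq_one]
          have hy1 : x ^ 2 ^ (r - 1) ≠ 1 := pow_ne_one_of_lt_orderOf (pow_pos two_pos _).ne'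
            (by rw [hxL, hL]; exact Nat.pow_lt_pow_right one_lt_two (by omega))
          rw [← SubmonoidClass.coe_pow]
          exact eq_of_invol S hjH hj (x ^ 2 ^ (r - 1)).2 (congrArg Subtype.val hyy)
            fun h => hy1 (Subtype.ext h)
        rw [← hy]
        have : ∀ i : ℕ, ((x : G) ^ i) • c = c := fun i => by
          induction i with
          | zero => rw [pow_zero, one_smul]
          | succ i ih => rw [pow_succ, mul_smul, h, ih]
        exact this _
      · exact fix_of_mem_Wh S hjH x hxW h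
    have hG : 2 < Nat.card G := by
      have h1 := Subgroup.card_le_card_group U
      rw [card_U S, ← hq] at h1
      have h2 : q ^ 1 ≤ q ^ 3 := Nat.pow_le_pow_right (by omega) (by norm_num)
      rw [pow_one] at h2
      omega
    refine false_of_long_cycles (G := G) (Ω := Ω) (x := (x : G)) (L := L) hG
      (Even.pow_of_ne_zero (by decide) (by omega)) (pow_pos two_pos r) ?_ hfix ?_
    · rw [← SubmonoidClass.coe_pow, ← hxL, pow_orderOf_eq_one, OneMemClass.coe_one]
    · rw [hFx, S.card_pts, ← hq, Nat.add_sub_add_right]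
      have e1 : q ^ 3 - q = L * (q * d * o) := by
        have h1 : q * (d * (e * Nat.card W)) = q * (q ^ 2 - 1) := by rw [hH]
        rw [← hHW, hro, Nat.mul_sub] at h1
        rw [show q ^ 3 = q * q ^ 2 by ring]
        rw [mul_one] at h1
        rw [← h1]; ring
      rw [e1, Nat.mul_div_cancel_left _ (pow_pos two_pos r)]
      exact ((q_odd S).mul hdodd).mul ho

end CfsgLib.Recog.OddUnitary.Loc
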