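import Mathlib

/-!
A 2-element with long cycles only, an odd number of them, cannot lie in a simple group.
-/

set_option autoImplicit false

namespace CfsgLib.Recog.OddUnitary.Loc

open Equiv

universe u v

variable {G : Type u} {Ω : Type v} [Group G] [MulAction G Ω] [Finite Ω]

/-- An odd permutation in a simple group of order above two is impossible. -/
theorem false_of_long_cycles [IsSimpleGroup G] (hG : 2 < Nat.card G) {x : G} {L : ℕ}
    (hL : Even L) (hLpos : 0 < L) (hx : x ^ L = 1)
    (hfree : ∀ k : ℕ, 0 < k → k < L → ∀ c : Ω, x ^ k • c = c → x • c = c)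
    (hodd : Odd ((Nat.card Ω - Nat.card {c : Ω // x • c = c}) / L)) : False := by
  classical
  have := Fintype.ofFinite Ω
  set σ : Perm Ω := MulAction.toPermHom G Ω x with hσ
  have hσk : ∀ (k : ℕ) (c : Ω), (σ ^ k) c = x ^ k • c := fun k c => by
    rw [hσ, ← map_pow]; rfl
  have hcyc : σ.cycleType = Multiset.replicate σ.cycleType.card L := by
    refine Multiset.eq_replicate_card.2 fun m hm => ?_
    rw [Perm.cycleType_def, Multiset.mem_map] at hm
    obtain ⟨τ, hτ, rfl⟩ := hm
    have hτ' : τ ∈ σ.cycleFactorsFinset := hτ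
    obtain ⟨hcy, heq⟩ := Perm.mem_cycleFactorsFinset_iff.1 hτ'
    obtain ⟨c, hc⟩ := Finset.card_pos.1 (by
      have := hcy.two_le_card_support
      omega : 0 < τ.support.card)
    have hτe : τ = σ.cycleOf c := Perm.cycle_is_cycleOf hc hτ'
    have hpow : ∀ k : ℕ, (τ ^ k) c = x ^ k • c := fun k => by
      rw [hτe, Perm.cycleOf_pow_apply_self, hσk]
    have hmove : x • c ≠ c := by
      have h := Perm.mem_support.1 hc
      rwa [show τ c = x • c from (heq c hc).trans rfl] at h
    have hord := hcy.orderOf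
    have hdvd : orderOf τ ∣ L := by
      rw [orderOf_dvd_iff_pow_eq_one]
      refine hcy.pow_eq_one_iff.2 ⟨c, Perm.mem_support.1 hc, ?_⟩
      rw [hpow, hx, one_smul]
    show τ.support.card = L
    rw [← hord]
    refine le_antisymm (Nat.le_of_dvd hLpos hdvd) (not_lt.1 fun hlt => hmove ?_)
    refine hfree (orderOf τ) (orderOf_pos τ) hlt c ?_
    rw [← hpow, pow_orderOf_eq_one, Perm.one_apply]
  have hsign : Perm.sign σ = -1 := by
    rw [Perm.sign_of_cycleType_eq_replicate hLpos hcyc, if_neg (Nat.not_odd_iff_even.2 hL)]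
    have hcard : Fintype.card (Function.fixedPoints σ) = Nat.card {c : Ω // x • c = c} := by
      rw [← Nat.card_eq_fintype_card]
      exact Nat.card_congr (Equiv.subtypeEquivRight fun c => Iff.rfl)
    rw [hcard, ← Nat.card_eq_fintype_card, hodd.neg_one_pow]
  set ε : G →* ℤˣ := Perm.sign.comp (MulAction.toPermHom G Ω)
  have hne : ε.ker ≠ ⊤ := by
    intro h
    have h1 : x ∈ ε.ker := h ▸ Subgroup.mem_top x
    rw [MonoidHom.mem_ker] at h1
    have h2 : Perm.sign σ = 1 := h1
    rw [hsign] at h2
    exact absurd h2 (by decide)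
  have hbot : ε.ker = ⊥ := ((MonoidHom.normal_ker ε).eq_bot_or_eq_top).resolve_right hne
  have hle := Nat.card_le_card_of_injective ε ((MonoidHom.ker_eq_bot_iff ε).1 hbot)
  rw [Nat.card_eq_fintype_card (α := ℤˣ), Fintype.card_units_int] at hle
  omega

end CfsgLib.Recog.OddUnitary.Loc
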