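import Cfsg.Agent.Lib.Recog.OddUnitary.LocalTorus
import Cfsg.Agent.Lib.Recog.OddUnitary.LocalSign

/-!
The centraliser of the involution in `U` has order `q`, and the kernel of the action of the torus
on it has index `q - 1`.
-/

set_option autoImplicit false
set_option linter.unusedSectionVars false

namespace CfsgLib.Recog.OddUnitary.Loc

open MulAction

universe u v

variable {G : Type u} {Ω : Type v} [Group G] [MulAction G Ω] {a b : Ω} {U : Subgroup G} {p n : ℕ}

variable (S : Setup G a b U p n)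
include S

theorem eq_one_of_fix_all {x : G} (h : ∀ c : Ω, x • c = c) : x = 1 := by
  have := S.faithful
  exact eq_of_smul_eq_smul (α := Ω) fun c => by rw [h, one_smul]

theorem smul_eq_of_commute {x : G} (hx : x ∈ Hsub G a b) (h : ∀ u ∈ U, Commute x u) (c : Ω) :
    x • c = c := by
  by_cases hc : c = a
  · rw [hc]; exact (mem_H.1 hx).1
  · obtain ⟨u, hu, rfl⟩ := exists_u S hc
    exact (commute_iff S hx hu).1 (h u hu)

/-- The basic numerical facts. -/
theorem key : ∃ (j t : G) (hjH : j ∈ Hsub G a b) (ht : Swaps t a b), orderOf j = 2 ∧ t * t = 1 ∧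
    Nat.card (Zs U j) = p ^ n ∧ p ^ n - 1 ≤ Nat.card (betaHom S ht).ker ∧
    Nat.card (betaHom S ht).ker ∣ 2 * (Wh a b U j).index ∧
    (∀ h : ↥(Hsub G a b), h ∈ Wh a b U j → Commute t (h : G)) ∧
    (∀ h : ↥(Hsub G a b), h ∉ Wh a b U j → ∀ z ∈ Zs U j, Commute (h : G) z → z = 1) ∧
    (Wh a b U j).index ∣ p ^ n - 1 := by
  classical
  have := S.finite
  have := S.finite_pts
  have := Fintype.ofFinite G
  have := Fintype.ofFinite Ω
  have := Fact.mk S.prime
  obtain ⟨j, hjH, hj⟩ := exists_j S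
  have hjj : j * j = 1 := by rw [← pow_two, ← hj, pow_orderOf_eq_one]
  have hj1 : j ≠ 1 := fun h => by rw [h, orderOf_one] at hj; norm_num at hj
  obtain ⟨c, hc⟩ : ∃ c : Ω, j • c ≠ c := by
    by_contra h
    push Not at h
    exact hj1 (eq_one_of_fix_all S h)
  obtain ⟨g, hgc, hgd⟩ := exists_map S (Ne.symm hc) S.ne
  set t := g * j * g⁻¹ with htdef
  have ht : Swaps t a b := by
    refine ⟨?_, ?_⟩
    · rw [mul_smul, mul_smul, inv_smul_eq_iff.2 hgc.symm, hgd]
    · rw [mul_smul, mul_smul, inv_smul_eq_iff.2 hgd.symm, ← mul_smul j j, hjj, one_smul, hgc]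
  have htt : t * t = 1 := by
    rw [htdef, show g * j * g⁻¹ * (g * j * g⁻¹) = g * (j * j) * g⁻¹ by group, hjj]; group
  set Z := Zs U j with hZ
  set I := (betaHom S ht).ker
  set C := Ch a b t
  obtain ⟨m, hm⟩ := (IsPGroup.iff_card).1 ((pGroup_U S).to_le (inf_le_left : Z ≤ U))
  have hbound := transposition_bound S hjH hj
  rw [card_swaps S ht htt, show Nat.card ↥(U ⊓ Subgroup.centralizer ({j} : Set G)) = p ^ m from hm]
    at hbound
  obtain ⟨s, -, -, hs⟩ := dvd_card_offDiag S hjH hj (Finset.univ : Finset Ω)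
    (fun i _ c _ d _ _ _ _ => Finset.subset_univ _)
  rw [show Nat.card ↥(U ⊓ Subgroup.centralizer ({j} : Set G)) = p ^ m from hm, Finset.card_univ,
    ← Nat.card_eq_fintype_card, S.card_pts] at hs
  have hp3 : 3 ≤ p := by
    have := S.prime.two_le
    have := S.odd
    omega
  have hq3 := q_ge S
  have hm0 : 1 ≤ m := by
    by_contra h
    obtain rfl : m = 0 := by omega
    have hle : Nat.card I ≤ (p ^ n) ^ 2 - 1 := by
      refine (Subgroup.card_le_card_group I).trans ?_
      rw [← S.card_H]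
      exact Nat.le_mul_of_pos_left _ (Nat.gcd_pos_of_pos_left _ (by norm_num))
    rw [pow_zero] at hbound
    generalize p ^ n = q at hbound hle hq3
    generalize Nat.card I = k at hbound hle
    have h2 : q ^ 3 ≤ 1 + (q ^ 2 - 1) * 2 := by omega
    have h3 : q ^ 2 * 3 ≤ q ^ 3 := by
      rw [pow_succ q 2]
      exact Nat.mul_le_mul_left _ hq3
    have h4 : 9 ≤ q ^ 2 := by
      calc 9 = 3 ^ 2 := by norm_num
        _ ≤ q ^ 2 := Nat.pow_le_pow_left hq3 2
    omega
  have hZne : Z ≠ ⊥ := fun h => by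
    have hm' : Nat.card Z = p ^ m := hm
    rw [h, Subgroup.card_bot] at hm'
    exact absurd hm'.symm (Nat.one_lt_pow (by omega) (by omega)).ne'
  have hCmem : ∀ h : ↥(Hsub G a b), h ∈ C ↔ Commute t (h : G) := fun h => by
    rw [Subgroup.mem_subgroupOf, Subgroup.mem_centralizer_singleton_iff]
    exact ⟨fun e => e.symm, fun e => e.eq.symm⟩
  have hCfree : ∀ h : ↥(Hsub G a b), h ∉ C → ∀ z ∈ U, Commute (h : G) z → z = 1 := by
    intro h hh z hz hc'
    by_contra hz1
    exact hh ((hCmem h).2 (swap_comm_u S h.2 hz hz1 hc' ht))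
  have hIC : Nat.card I ≤ 2 * C.index :=
    Nat.le_of_dvd (Nat.mul_pos two_pos (Nat.pos_of_ne_zero Subgroup.index_ne_zero_of_finite))
      (card_ker_dvd S ht C fun h hh => by
        rw [((hCmem h).1 hh).eq, mul_inv_cancel_right])
  have hCle : C.index ≤ p ^ m - 1 := by
    rw [← hm]
    exact index_le S (fun h z hz => Zs_conj S hjH h.2 hz) hZne
      fun h hh z hz hc' => hCfree h hh z hz.1 hc'
  have hmn : m = n := by
    refine eq_of_bound hp3 hm0 ?_ ?_ ?_
    · by_contra hge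
      have hUZ : Z = U := by
        refine Subgroup.eq_of_le_of_card_ge inf_le_left ?_
        rw [hm, card_U S, ← pow_mul, mul_comm n 3]
        exact Nat.pow_le_pow_right (by omega) (by omega)
      refine hj1 (eq_one_of_fix_all S (smul_eq_of_commute S hjH fun u hu => ?_))
      exact (Subgroup.mem_centralizer_singleton_iff.1 (hUZ ▸ hu : u ∈ Z).2).symm
    · have hdvd : p ^ m + 1 ∣ (p ^ (3 * n) + 1) * p ^ (3 * n) := by
        refine ⟨s.card * p ^ m, ?_⟩
        have e : p ^ (3 * n) = (p ^ n) ^ 3 := by rw [mul_comm 3 n, pow_mul]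
        rw [← Nat.sub_one_mul, Nat.add_sub_cancel, ← e] at hs
        linear_combination hs
      refine Nat.Coprime.dvd_of_dvd_mul_right (Nat.Coprime.pow_right _ ?_) hdvd
      refine (S.prime.coprime_iff_not_dvd.2 fun hd => ?_).symm
      exact S.prime.not_dvd_one ((Nat.dvd_add_right (dvd_pow_self p (by omega))).1 hd)
    · exact hbound.trans (Nat.mul_le_mul_right _ (hIC.trans (Nat.mul_le_mul_left _ hCle)))
  subst hmn
  have hI : p ^ m - 1 ≤ Nat.card I := by
    generalize p ^ m = q at hbound hq3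
    obtain ⟨r, rfl⟩ : ∃ r, q = r + 1 := ⟨q - 1, by omega⟩
    rw [Nat.add_sub_cancel]
    refine Nat.le_of_mul_le_mul_right
      (?_ : r * ((r + 1 + 1) * (r + 1)) ≤ Nat.card I * ((r + 1 + 1) * (r + 1)))
      (Nat.mul_pos (Nat.succ_pos _) (Nat.succ_pos _))
    refine le_trans (le_of_eq ?_) hbound
    symm
    refine Nat.sub_eq_of_eq_add ?_
    ring
  have hsemi : ∀ h : ↥(Hsub G a b), h ∉ Wh a b U j → ∀ z ∈ Z, Commute (h : G) z → z = 1 := by
    intro h hh z hz hc'
    by_contra hz1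
    set Y := Z ⊓ Subgroup.centralizer ({(h : G)} : Set G) with hY
    have hYne : Y ≠ ⊥ := fun e => hz1 (Subgroup.mem_bot.1 (e ▸ Subgroup.mem_inf.2
      ⟨hz, Subgroup.mem_centralizer_singleton_iff.2 hc'.eq.symm⟩))
    have hYinv : ∀ k : ↥(Hsub G a b), ∀ y ∈ Y, (k : G) * y * (k : G)⁻¹ ∈ Y := fun k y hy => by
      refine Subgroup.mem_inf.2 ⟨Zs_conj S hjH k.2 hy.1, Subgroup.mem_centralizer_singleton_iff.2 ?_⟩
      have h1 : Commute (h : G) (k : G) := H_comm S h.2 k.2
      have h2 : Commute (h : G) y := (Subgroup.mem_centralizer_singleton_iff.1 hy.2).symm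
      exact ((h1.mul_right h2).mul_right h1.inv_right).symm.eq
    have h1 : C.index ≤ Nat.card Y - 1 :=
      index_le S hYinv hYne fun k hk y hy hc'' => hCfree k hk y hy.1.1 hc''
    have h2 : 3 * Nat.card Y ≤ p ^ m := by
      have hd : Nat.card Y ∣ p ^ m := hm ▸ Subgroup.card_dvd_of_le inf_le_left
      obtain ⟨i, hi, hYi⟩ := (Nat.dvd_prime_pow S.prime).1 hd
      have hne : i ≠ m := fun e => hh ((mem_Wh S h).2 fun y hy => by
        have hYZ : Y = Z := Subgroup.eq_of_le_of_card_ge inf_le_left (by rw [hYi, e, hm])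
        exact (Subgroup.mem_centralizer_singleton_iff.1 (hYZ.symm ▸ hy : y ∈ Y).2).symm)
      rw [hYi]
      calc 3 * p ^ i ≤ p * p ^ i := Nat.mul_le_mul_right _ hp3
        _ = p ^ (i + 1) := by ring
        _ ≤ p ^ m := Nat.pow_le_pow_right (by omega) (by omega)
    have h3 : 0 < Nat.card Y := Nat.card_pos
    omega
  refine ⟨j, t, hjH, ht, hj, htt, hm, hI, ?_, ?_, hsemi, ?_⟩
  · refine card_ker_dvd S ht _ fun h hh => ?_
    obtain ⟨z, hz, hz1⟩ := (Z.bot_or_exists_ne_one).resolve_left hZne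
    rw [(swap_comm_u S h.2 hz.1 hz1 ((mem_Wh S h).1 hh z hz) ht).eq, mul_inv_cancel_right]
  · intro h hh
    obtain ⟨z, hz, hz1⟩ := (Z.bot_or_exists_ne_one).resolve_left hZne
    exact swap_comm_u S h.2 hz.1 hz1 ((mem_Wh S h).1 hh z hz) ht
  · rw [← hm]
    exact index_dvd S (fun h z hz => Zs_conj S hjH h.2 hz) (fun h hh z hz => (mem_Wh S h).1 hh z hz)
      hsemi

end CfsgLib.Recog.OddUnitary.Loc
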