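import Cfsg.Agent.Lib.Recog.OddUnitary.LocalCount
import Cfsg.Agent.Lib.Recog.OddUnitary.LocalArith

/-!
The centraliser of the involution in `U`, and the torus acting on it.
-/

set_option autoImplicit false
set_option linter.unusedSectionVars false

namespace CfsgLib.Recog.OddUnitary.Loc

open MulAction

universe u v

variable {G : Type u} {Ω : Type v} [Group G] [MulAction G Ω] {a b : Ω} {U : Subgroup G} {p n : ℕ}

variable (S : Setup G a b U p n)

/-- The centraliser of `j` in `U`. -/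
abbrev Zs (U : Subgroup G) (j : G) : Subgroup G := U ⊓ Subgroup.centralizer ({j} : Set G)

/-- The elements of the torus centralising `Zs`. -/
abbrev Wh (a b : Ω) (U : Subgroup G) (j : G) : Subgroup ↥(Hsub G a b) :=
  (Subgroup.centralizer (Zs U j : Set G)).subgroupOf (Hsub G a b)

/-- The elements of the torus centralised by a swap. -/
abbrev Ch (a b : Ω) (t : G) : Subgroup ↥(Hsub G a b) :=
  (Subgroup.centralizer ({t} : Set G)).subgroupOf (Hsub G a b)

/-- `h ↦ (t h t⁻¹) h`. -/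
def betaHom (S : Setup G a b U p n) {t : G} (ht : Swaps t a b) : ↥(Hsub G a b) →* G where
  toFun h := t * (h : G) * t⁻¹ * (h : G)
  map_one' := by simp
  map_mul' h h' := by
    have hc : Commute (h : G) (t * (h' : G) * t⁻¹) := H_comm S h.2 (swap_conj S ht h'.2)
    calc t * ((h * h' : ↥(Hsub G a b)) : G) * t⁻¹ * ((h * h' : ↥(Hsub G a b)) : G)
        = t * (h : G) * t⁻¹ * ((t * (h' : G) * t⁻¹) * (h : G)) * (h' : G) := by push_cast; group
      _ = t * (h : G) * t⁻¹ * (h : G) * (t * (h' : G) * t⁻¹ * (h' : G)) := by rw [← hc.eq]; group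

theorem mem_beta_ker {t : G} (ht : Swaps t a b) (h : ↥(Hsub G a b)) :
    h ∈ (betaHom S ht).ker ↔ t * (h : G) * t⁻¹ * (h : G) = 1 := Iff.rfl

include S

theorem mem_Wh {j : G} (h : ↥(Hsub G a b)) :
    h ∈ Wh a b U j ↔ ∀ z ∈ Zs U j, Commute (h : G) z := by
  rw [Subgroup.mem_subgroupOf, Subgroup.mem_centralizer_iff]
  exact ⟨fun h' z hz => (h' z hz).symm, fun h' z hz => (h' z hz).eq.symm⟩

theorem j_mem_Wh {j : G} (hjH : j ∈ Hsub G a b) : (⟨j, hjH⟩ : ↥(Hsub G a b)) ∈ Wh a b U j :=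
  (mem_Wh S _).2 fun _ hz => (Subgroup.mem_centralizer_singleton_iff.1 hz.2).symm

theorem H_normal (K : Subgroup ↥(Hsub G a b)) : K.Normal :=
  ⟨fun x hx g => by
    rw [show g * x * g⁻¹ = x by
      rw [show g * x = x * g from Subtype.ext (H_comm S g.2 x.2).eq, mul_inv_cancel_right]]
    exact hx⟩

theorem Zs_conj {j : G} (hjH : j ∈ Hsub G a b) {h : G} (hh : h ∈ Hsub G a b) {z : G}
    (hz : z ∈ Zs U j) : h * z * h⁻¹ ∈ Zs U j := by
  refine ⟨S.conj_mem h hh.1 z hz.1, Subgroup.mem_centralizer_singleton_iff.2 ?_⟩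
  have h1 : Commute j h := H_comm S hjH hh
  have h2 : Commute j z := (Subgroup.mem_centralizer_singleton_iff.1 hz.2).symm
  exact ((h1.mul_right h2).mul_right h1.inv_right).symm.eq

/-- Involutions interchanging `a` and `b` correspond to the inverted part of the torus. -/
theorem card_swaps {t : G} (ht : Swaps t a b) (ht2 : t * t = 1) :
    Nat.card {s : G // orderOf s = 2 ∧ Swaps s a b} = Nat.card (betaHom S ht).ker := by
  have hti : t⁻¹ = t := inv_eq_of_mul_eq_one_left ht2
  have := Fact.mk Nat.prime_two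
  refine Nat.card_congr
    { toFun := fun s => ⟨⟨t * s.1, swap_mul S ht s.2.2⟩, ?_⟩
      invFun := fun h => ⟨t * (h.1 : G), ?_, swap_mul_H S ht h.1.2⟩
      left_inv := fun s => Subtype.ext (show t * (t * s.1) = s.1 by rw [← mul_assoc, ht2, one_mul])
      right_inv := fun h => Subtype.ext (Subtype.ext
        (show t * (t * (h.1 : G)) = h.1 by rw [← mul_assoc, ht2, one_mul])) }
  · rw [mem_beta_ker]
    show t * (t * s.1) * t⁻¹ * (t * s.1) = 1
    rw [show t * (t * s.1) * t⁻¹ * (t * s.1) = (t * t) * (s.1 * s.1) by group, ht2, one_mul,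
      ← pow_two]
    exact orderOf_dvd_iff_pow_eq_one.1 (dvd_of_eq s.2.1)
  · refine orderOf_eq_prime ?_ ?_
    · have h1 : t * (h.1 : G) * t⁻¹ * (h.1 : G) = 1 := h.2
      rw [hti] at h1
      rw [pow_two, ← mul_assoc]
      exact h1
    · intro h1
      have hb := (swap_mul_H S ht h.1.2).1
      rw [h1, one_smul] at hb
      exact S.ne hb

/-- A subgroup meeting the inverted part in elements of order at most two has large index. -/
theorem card_ker_dvd {t : G} (ht : Swaps t a b) (K : Subgroup ↥(Hsub G a b))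
    (hK : ∀ h ∈ K, t * (h : G) * t⁻¹ = h) :
    Nat.card (betaHom S ht).ker ∣ 2 * K.index := by
  classical
  have := S.finite
  have := S.cyclic
  have := Fintype.ofFinite ↥(Hsub G a b)
  have := H_normal S K
  set I := (betaHom S ht).ker
  have hsmall : Nat.card (K.subgroupOf I) ≤ 2 := by
    refine le_trans ?_ (IsCyclic.card_pow_eq_one_le (α := ↥(Hsub G a b)) (by norm_num : 0 < 2))
    rw [Nat.card_eq_fintype_card, ← Finset.card_univ]
    refine Finset.card_le_card_of_injOn (fun x => ((x : I) : ↥(Hsub G a b))) (fun x _ => ?_)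
      (fun x _ y _ h => Subtype.ext (Subtype.ext h))
    refine Finset.mem_filter.2 ⟨Finset.mem_univ _, Subtype.ext ?_⟩
    have h1 : t * ((x : I) : ↥(Hsub G a b)).1 * t⁻¹ * ((x : I) : ↥(Hsub G a b)).1 = 1 := (x : I).2
    have h2 : t * ((x : I) : ↥(Hsub G a b)).1 * t⁻¹ = ((x : I) : ↥(Hsub G a b)).1 := hK _ x.2
    rw [h2] at h1
    rw [SubmonoidClass.coe_pow, OneMemClass.coe_one, pow_two]
    exact h1
  have hdvd2 : Nat.card (K.subgroupOf I) ∣ 2 := by
    have hpos : 0 < Nat.card (K.subgroupOf I) := Nat.card_pos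
    interval_cases (Nat.card (K.subgroupOf I)) <;> norm_num
  rw [← (K.subgroupOf I).index_mul_card, mul_comm 2]
  exact Nat.mul_dvd_mul (K.relIndex_dvd_index_of_normal I) hdvd2

/-- Fixed-point-free action on `Y` bounds the index. -/
theorem index_le {Y : Subgroup G} {K : Subgroup ↥(Hsub G a b)}
    (hY : ∀ h : ↥(Hsub G a b), ∀ z ∈ Y, (h : G) * z * (h : G)⁻¹ ∈ Y) (hne : Y ≠ ⊥)
    (hfree : ∀ h : ↥(Hsub G a b), h ∉ K → ∀ z ∈ Y, Commute (h : G) z → z = 1) :
    K.index ≤ Nat.card Y - 1 := by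
  classical
  have := S.finite
  obtain ⟨z, hzY, hz1⟩ := (Y.bot_or_exists_ne_one).resolve_left hne
  have := Fintype.ofFinite Y
  rw [Subgroup.index_eq_card, Nat.card_eq_fintype_card (α := ↥Y),
    show Fintype.card Y - 1 = Fintype.card {y : Y // y ≠ 1} by
      rw [Fintype.card_subtype_compl, Fintype.card_subtype_eq],
    ← Nat.card_eq_fintype_card]
  refine Nat.card_le_card_of_injective (fun c : ↥(Hsub G a b) ⧸ K =>
    (⟨⟨(c.out : G) * z * (c.out : G)⁻¹, hY _ z hzY⟩, fun h => hz1 ?_⟩ : {y : Y // y ≠ 1})) ?_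
  · exact conj_eq_one_iff.1 (congrArg Subtype.val h)
  · intro c c' h
    have h1 : (c.out : G) * z * (c.out : G)⁻¹ = (c'.out : G) * z * (c'.out : G)⁻¹ :=
      congrArg (fun y => ((y : {y : Y // y ≠ 1}).1 : G)) h
    have hm : c.out⁻¹ * c'.out ∈ K := by
      by_contra hn
      refine hz1 (hfree _ hn z hzY ?_)
      show (((c.out⁻¹ * c'.out : ↥(Hsub G a b))) : G) * z = z * _
      push_cast
      refine mul_inv_eq_iff_eq_mul.1 ?_
      rw [show (c.out : G)⁻¹ * (c'.out : G) * z * ((c.out : G)⁻¹ * (c'.out : G))⁻¹ =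
        (c.out : G)⁻¹ * ((c'.out : G) * z * (c'.out : G)⁻¹) * (c.out : G) by group, ← h1]
      group
    rw [← Quotient.out_eq c, ← Quotient.out_eq c']
    exact QuotientGroup.eq.2 hm

/-- A semiregular action on `Y` gives divisibility. -/
theorem index_dvd {Y : Subgroup G} {K : Subgroup ↥(Hsub G a b)}
    (hY : ∀ h : ↥(Hsub G a b), ∀ z ∈ Y, (h : G) * z * (h : G)⁻¹ ∈ Y)
    (hfix : ∀ h ∈ K, ∀ z ∈ Y, Commute ((h : ↥(Hsub G a b)) : G) z)
    (hfree : ∀ h : ↥(Hsub G a b), h ∉ K → ∀ z ∈ Y, Commute (h : G) z → z = 1) :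
    K.index ∣ Nat.card Y - 1 := by
  classical
  have := S.finite
  let A := {y : Y // y ≠ 1}
  let act : MulAction ↥(Hsub G a b) A :=
    { smul := fun h y => ⟨⟨(h : G) * (y.1 : G) * (h : G)⁻¹, hY h _ y.1.2⟩,
        fun e => y.2 (Subtype.ext (conj_eq_one_iff.1 (congrArg Subtype.val e)))⟩
      one_smul := fun y => Subtype.ext (Subtype.ext
        (show ((1 : ↥(Hsub G a b)) : G) * (y.1 : G) * ((1 : ↥(Hsub G a b)) : G)⁻¹ = _ by simp))
      mul_smul := fun h h' y => Subtype.ext (Subtype.ext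
        (show ((h * h' : ↥(Hsub G a b)) : G) * (y.1 : G) * ((h * h' : ↥(Hsub G a b)) : G)⁻¹ =
          (h : G) * ((h' : G) * (y.1 : G) * (h' : G)⁻¹) * (h : G)⁻¹ by push_cast; group)) }
  have hval : ∀ (h : ↥(Hsub G a b)) (y : A),
      (((h • y : A).1 : Y) : G) = (h : G) * (y.1 : G) * (h : G)⁻¹ := fun _ _ => rfl
  have hstab : ∀ y : A, MulAction.stabilizer ↥(Hsub G a b) y = K := fun y => by
    ext h
    rw [MulAction.mem_stabilizer_iff]
    constructor
    · intro e
      by_contra hn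
      have e' := congrArg (fun x : A => ((x.1 : Y) : G)) e
      simp only [hval] at e'
      exact y.2 (Subtype.ext (hfree h hn _ y.1.2 (mul_inv_eq_iff_eq_mul.1 e')))
    · intro hK
      refine Subtype.ext (Subtype.ext ?_)
      rw [hval, (hfix h hK _ y.1.2).eq, mul_inv_cancel_right]
  have := Fintype.ofFinite A
  have := Fintype.ofFinite Y
  have := Fintype.ofFinite (MulAction.orbitRel.Quotient ↥(Hsub G a b) A)
  have hA : Nat.card A = Nat.card Y - 1 := by
    rw [Nat.card_eq_fintype_card, Nat.card_eq_fintype_card, Fintype.card_subtype_compl,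
      Fintype.card_subtype_eq]
  rw [← hA, Nat.card_congr (MulAction.selfEquivSigmaOrbitsQuotientStabilizer ↥(Hsub G a b) A),
    Nat.card_sigma]
  refine Finset.dvd_sum fun ω _ => ?_
  rw [← Subgroup.index_eq_card, hstab]

end CfsgLib.Recog.OddUnitary.Loc
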