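import Cfsg.Agent.Lib.Recog.OddUnitary.Defs

/-!
The action on the cosets of `B` of a group with a split (B,N)-pair of rank one, and elementary
consequences: the order, the involution fixing two given points, and the size of its fixed set.
-/

set_option autoImplicit false
set_option linter.unusedSectionVars false
set_option linter.style.haveILetI false

namespace CfsgLib.Recog.OddUnitary

open MulAction Subgroup

universe u v

/-- In rank one `G` is the union of `B` and one double coset. -/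
theorem rank_one_cells {G : Type u} [Group G] [Finite G] (P : Cfsg.BNPair G) (h1 : P.rank = 1) :
    ∃ s ∈ P.N, s ∉ P.B ∧ ∀ g : G, g ∈ P.B ∨ ∃ x ∈ P.B, ∃ y ∈ P.B, g = x * s * y := by
  obtain ⟨s, hS⟩ : ∃ s, P.S = {s} := by
    rw [← Set.ncard_eq_one, ← Nat.card_coe_set_eq]
    exact h1
  have hs : s ∈ P.S := hS ▸ rfl
  have hsB : s ∉ P.B := fun h => P.conj_ne s hs (by
    ext g
    constructor
    · rintro ⟨b, hb, rfl⟩
      exact P.B.mul_mem (P.B.mul_mem h hb) h
    · intro hg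
      exact ⟨s⁻¹ * g * s⁻¹, P.B.mul_mem (P.B.mul_mem (P.B.inv_mem h) hg) (P.B.inv_mem h), by group⟩)
  refine ⟨s, P.subset hs, hsB, ?_⟩
  let T : Set G := {g | g ∈ P.B ∨ ∃ x ∈ P.B, ∃ y ∈ P.B, g = x * s * y}
  have hss := P.sq_mem s hs
  have hsbs : ∀ b ∈ P.B, s * b * s ∈ T := fun b hb => by
    rcases P.mul_mem_union s hs s (P.subset hs) b hb with h | h <;>
      obtain ⟨x, hx, y, hy, e⟩ := DoubleCoset.mem_doubleCoset.1 h
    · exact Or.inl (e ▸ P.B.mul_mem (P.B.mul_mem hx hss) hy)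
    · exact Or.inr ⟨x, hx, y, hy, e⟩
  have hl : ∀ x ∈ P.B, ∀ g ∈ T, x * g ∈ T := by
    rintro x hx g (hg | ⟨u, hu, v, hv, rfl⟩)
    · exact Or.inl (P.B.mul_mem hx hg)
    · exact Or.inr ⟨x * u, P.B.mul_mem hx hu, v, hv, by group⟩
  have hr : ∀ x ∈ P.B, ∀ g ∈ T, g * x ∈ T := by
    rintro x hx g (hg | ⟨u, hu, v, hv, rfl⟩)
    · exact Or.inl (P.B.mul_mem hg hx)
    · exact Or.inr ⟨u, hu, v * x, P.B.mul_mem hv hx, by group⟩
  let M : Subgroup G :=
    { carrier := T
      one_mem' := Or.inl P.B.one_mem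
      mul_mem' := by
        rintro g h (hg | ⟨x, hx, y, hy, rfl⟩) hh
        · exact hl g hg h hh
        rcases hh with hh | ⟨x', hx', y', hy', rfl⟩
        · exact hr h hh _ (Or.inr ⟨x, hx, y, hy, rfl⟩)
        · rw [show x * s * y * (x' * s * y') = x * (s * (y * x') * s) * y' by group]
          exact hr y' hy' _ (hl x hx _ (hsbs _ (P.B.mul_mem hy hx')))
      inv_mem' := by
        rintro g (hg | ⟨x, hx, y, hy, rfl⟩)
        · exact Or.inl (P.B.inv_mem hg)
        · exact Or.inr ⟨y⁻¹ * (s * s)⁻¹, P.B.mul_mem (P.B.inv_mem hy) (P.B.inv_mem hss),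
            x⁻¹, P.B.inv_mem hx, by group⟩ }
  have hN : P.N ≤ M := by
    rw [← P.closure_sup]
    refine sup_le ((Subgroup.closure_le _).2 fun g hg => ?_) fun g hg => Or.inl hg.1
    rw [hS, Set.mem_singleton_iff] at hg
    exact Or.inr ⟨1, P.B.one_mem, 1, P.B.one_mem, by rw [hg, one_mul, mul_one]⟩
  intro g
  exact (show (⊤ : Subgroup G) ≤ M from P.sup_eq_top ▸ sup_le (fun g hg => Or.inl hg) hN)
    (Subgroup.mem_top g)

theorem setupExists : SetupExists.{u} := by
  intro G _ _ _ P h1 p n hp hp2 hn U hUB hUn hsplit hdisj hind hU hHc hH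
  obtain ⟨s, hsN, hsB, hcell⟩ := rank_one_cells P h1
  set a : G ⧸ P.B := QuotientGroup.mk 1
  set b : G ⧸ P.B := QuotientGroup.mk s
  have hpt : ∀ x g : G, x • (QuotientGroup.mk g : G ⧸ P.B) = QuotientGroup.mk (x * g) := fun _ _ => rfl
  have hstab : stabilizer G a = P.B := by
    ext g
    rw [mem_stabilizer_iff, hpt, mul_one, QuotientGroup.eq, mul_one, P.B.inv_mem_iff]
  have hHb : ∀ h ∈ P.B ⊓ P.N, h • b = b := fun h hh => by
    rw [hpt]
    refine QuotientGroup.eq.2 ?_
    have e := P.conj_mem s⁻¹ (P.N.inv_mem hsN) h⁻¹ ((P.B ⊓ P.N).inv_mem hh)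
    rw [show (h * s)⁻¹ * s = s⁻¹ * h⁻¹ * s⁻¹⁻¹ by group]
    exact e
  have hne : a ≠ b := fun e => hsB (by simpa using QuotientGroup.eq.1 e)
  have hB : ∀ g ∈ P.B, ∃ u ∈ U, ∃ h ∈ P.B ⊓ P.N, g = u * h := by
    intro g hg
    have hnorm : P.B ⊓ P.N ≤ normalizer (U : Set G) := fun h hh => by
      refine mem_normalizer_iff.2 fun u => ⟨fun hu => hUn h hh.1 u hu, fun hu => ?_⟩
      have := hUn h⁻¹ (P.B.inv_mem hh.1) _ hu
      simpa [mul_assoc] using this
    have hg' : g ∈ ((U ⊔ (P.B ⊓ P.N) : Subgroup G) : Set G) := by rw [hsplit]; exact hg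
    rw [Subgroup.coe_mul_of_right_le_normalizer_left U (P.B ⊓ P.N) hnorm] at hg'
    obtain ⟨u, hu, h, hh, rfl⟩ := hg'
    exact ⟨u, hu, h, hh, rfl⟩
  have hsurj : ∀ c : G ⧸ P.B, c ≠ a → ∃ u : U, (u : G) • b = c := by
    intro c hc
    obtain ⟨g, rfl⟩ := QuotientGroup.mk_surjective c
    rcases hcell g with hg | ⟨x, hx, y, hy, rfl⟩
    · exact absurd (QuotientGroup.eq.2 (by simpa using hg)) hc
    obtain ⟨u, hu, h, hh, rfl⟩ := hB x hx
    refine ⟨⟨u, hu⟩, ?_⟩
    show u • b = _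
    conv_lhs => rw [← hHb h hh, ← mul_smul, hpt]
    exact QuotientGroup.eq.2 (by simpa [mul_assoc] using hy)
  have hcard : Nat.card (G ⧸ P.B) = (p ^ n) ^ 3 + 1 := by
    rw [← Subgroup.index_eq_card, hind, ← pow_mul, mul_comm n 3]
  let f : U → {c : G ⧸ P.B // c ≠ a} := fun u => ⟨(u : G) • b, fun e => hne (by
    have hu : ((u : G))⁻¹ • a = a := by
      rw [inv_smul_eq_iff]
      exact (mem_stabilizer_iff.1 (hstab.symm ▸ hUB u.2)).symm
    rw [← hu, ← e, inv_smul_smul])⟩
  have hf : Function.Bijective f := by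
    refine Function.Surjective.bijective_of_nat_card_le
      (fun c => (hsurj c.1 c.2).imp fun u hu => Subtype.ext hu) (le_of_eq ?_)
    have h2 : Nat.card {c : G ⧸ P.B // c ≠ a} + 1 = Nat.card (G ⧸ P.B) := by
      haveI := Fintype.ofFinite (G ⧸ P.B)
      classical
      rw [Nat.card_eq_fintype_card, Nat.card_eq_fintype_card,
        Fintype.card_subtype_compl, Fintype.card_subtype_eq]
      exact Nat.sub_add_cancel Fintype.card_pos
    rw [hcard] at h2
    rw [hU, mul_comm 3 n, pow_mul]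
    omega
  have hHsub : Hsub G a b = P.B ⊓ P.N := by
    refine le_antisymm (fun g hg => ?_) fun h hh => ⟨hstab.ge hh.1, hHb h hh⟩
    obtain ⟨u, hu, h, hh, rfl⟩ := hB g (hstab ▸ hg.1)
    have hu1 : (⟨u, hu⟩ : U) = 1 := by
      apply hf.1
      refine Subtype.ext ?_
      show u • b = (1 : G) • b
      rw [one_smul]
      conv_lhs => rw [← hHb h hh, ← mul_smul]
      exact hg.2
    rw [show u = 1 from congrArg Subtype.val hu1, one_mul]
    exact hh
  have htwo : ∀ c d : G ⧸ P.B, c ≠ d → ∃ g : G, g • a = c ∧ g • b = d := by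
    intro c d hcd
    obtain ⟨g, rfl⟩ := QuotientGroup.mk_surjective c
    obtain ⟨u, hu⟩ := hsurj (g⁻¹ • d) (fun e => hcd (by
      rw [inv_smul_eq_iff] at e
      rw [e, hpt, mul_one]))
    refine ⟨g * u, ?_, by rw [mul_smul, hu, smul_inv_smul]⟩
    rw [mul_smul, show (u : G) • a = a from mem_stabilizer_iff.1 (by rw [hstab]; exact hUB u.2),
      hpt, mul_one]
  refine ⟨a, b,
    { prime := hp, odd := hp2, pos := hn, finite := inferInstance, finite_pts := inferInstance
      faithful := ?_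
      simple := inferInstance
      two := ?_
      ne := hne
      card_pts := hcard
      le := hstab.symm ▸ hUB
      conj_mem := fun g hg u hu => hUn g (hstab ▸ hg) u hu
      regular := fun c hc => ?_
      cyclic := ?_
      card_H := ?_ }⟩
  · have hK : (toPermHom G (G ⧸ P.B)).ker = ⊥ := by
      refine ((MonoidHom.normal_ker _).eq_bot_or_eq_top).resolve_right fun h => hne ?_
      have : s • a = a := by
        have hk : s ∈ (toPermHom G (G ⧸ P.B)).ker := h ▸ mem_top s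
        exact congrArg (fun e : Equiv.Perm (G ⧸ P.B) => e a) (MonoidHom.mem_ker.1 hk)
      rw [hpt, mul_one] at this
      exact this.symm
    exact ⟨fun {g g'} h => (MonoidHom.ker_eq_bot_iff _).1 hK (Equiv.ext h)⟩
  · rw [is_two_pretransitive_iff]
    intro c d c' d' hcd hcd'
    obtain ⟨g, hg1, hg2⟩ := htwo c d hcd
    obtain ⟨g', hg1', hg2'⟩ := htwo c' d' hcd'
    exact ⟨g' * g⁻¹, by rw [← hg1, mul_smul, inv_smul_smul, hg1'],
      by rw [← hg2, mul_smul, inv_smul_smul, hg2']⟩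
  · obtain ⟨u, hu⟩ := hsurj c hc
    exact ⟨u, hu, fun v hv => hf.1 (Subtype.ext (hv.trans hu.symm))⟩
  · rw [hHsub]; exact hHc
  · rw [hHsub, hH, ← pow_mul, mul_comm 2 n]

variable {G : Type u} {Ω : Type v} [Group G] [MulAction G Ω] {a b : Ω} {U : Subgroup G} {p n : ℕ}

theorem Setup.exists_mul (S : Setup G a b U p n) {g : G} (hg : g ∈ stabilizer G a) :
    ∃ u ∈ U, ∃ h ∈ Hsub G a b, g = u * h := by
  obtain ⟨u, hu, -⟩ := S.regular (g • b) (fun e => S.ne (by
    have : g • b = g • a := e.trans hg.symm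
    exact (smul_left_cancel g this).symm))
  have hu' : (u : G) ∈ stabilizer G a := S.le u.2
  refine ⟨u, u.2, (u : G)⁻¹ * g, ⟨(stabilizer G a).mul_mem (inv_mem hu') hg, ?_⟩, by group⟩
  show ((u : G)⁻¹ * g) • b = b
  rw [mul_smul, inv_smul_eq_iff]
  exact hu.symm

theorem Setup.eq_one (S : Setup G a b U p n) {u : G} (hu : u ∈ U) (h : u • b = b) : u = 1 :=
  congrArg Subtype.val ((S.regular b S.ne.symm).unique (y₁ := ⟨u, hu⟩) (y₂ := 1) h (one_smul G b))

theorem Setup.card_compl (S : Setup G a b U p n) : Nat.card {c : Ω // c ≠ a} = (p ^ n) ^ 3 := by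
  haveI := S.finite_pts
  haveI := Fintype.ofFinite Ω
  classical
  have h := S.card_pts
  rw [Nat.card_eq_fintype_card] at h ⊢
  rw [Fintype.card_subtype_compl, Fintype.card_subtype_eq, h]
  omega

theorem Setup.card_U (S : Setup G a b U p n) : Nat.card U = (p ^ n) ^ 3 := by
  haveI := S.finite
  haveI := S.finite_pts
  rw [← S.card_compl]
  refine Nat.card_congr (Equiv.ofBijective (fun u : U => (⟨(u : G) • b, fun e => S.ne ?_⟩ :
    {c : Ω // c ≠ a})) ⟨fun x y e => ?_, fun c => ?_⟩)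
  · exact (smul_left_cancel (u : G) (e.trans (S.le u.2).symm)).symm
  · have h : (x : G) • b = (y : G) • b := congrArg Subtype.val e
    refine (S.regular ((x : G) • b) fun e' => S.ne ?_).unique rfl h.symm
    exact (smul_left_cancel (x : G) (e'.trans (S.le x.2).symm)).symm
  · obtain ⟨u, hu, -⟩ := S.regular c.1 c.2
    exact ⟨u, Subtype.ext hu⟩

theorem Setup.card_stab (S : Setup G a b U p n) :
    Nat.card ↥(stabilizer G a) = (p ^ n) ^ 3 * Nat.card ↥(Hsub G a b) := by
  haveI := S.finite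
  rw [← S.card_U, ← Nat.card_prod]
  refine (Nat.card_congr (Equiv.ofBijective (fun x : ↥U × ↥(Hsub G a b) =>
    (⟨(x.1 : G) * x.2, (stabilizer G a).mul_mem (S.le x.1.2) x.2.2.1⟩ : ↥(stabilizer G a)))
    ⟨fun x y e => ?_, fun g => ?_⟩)).symm
  · have h : (x.1 : G) * x.2 = y.1 * y.2 := congrArg Subtype.val e
    have h' : (y.1 : G)⁻¹ * x.1 = y.2 * (x.2 : G)⁻¹ := by
      rw [inv_mul_eq_iff_eq_mul, ← mul_assoc, eq_mul_inv_iff_mul_eq]
      exact h
    have hfix : ((y.1 : G)⁻¹ * x.1) • b = b := by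
      rw [h']
      exact ((Hsub G a b).mul_mem y.2.2 (inv_mem x.2.2)).2
    have h1 := S.eq_one (U.mul_mem (inv_mem y.1.2) x.1.2) hfix
    rw [inv_mul_eq_one] at h1
    rw [← h1] at h
    exact Prod.ext (Subtype.ext h1.symm) (Subtype.ext (mul_left_cancel h))
  · obtain ⟨u, hu, h, hh, e⟩ := S.exists_mul g.2
    exact ⟨(⟨u, hu⟩, ⟨h, hh⟩), Subtype.ext e.symm⟩

theorem Setup.two_move (S : Setup G a b U p n) {c d c' d' : Ω} (h : c ≠ d) (h' : c' ≠ d') :
    ∃ g : G, g • c = c' ∧ g • d = d' :=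
  is_two_pretransitive_iff.1 S.two h h'

theorem Setup.pretransitive (S : Setup G a b U p n) : IsPretransitive G Ω := by
  haveI := S.two
  exact isPretransitive_of_is_two_pretransitive (G := G) (α := Ω)

theorem Setup.unique_involution (S : Setup G a b U p n) {c d : Ω} (hcd : c ≠ d) :
    ∃! i : G, orderOf i = 2 ∧ i • c = c ∧ i • d = d := by
  haveI := S.finite
  haveI := S.cyclic
  haveI := Fintype.ofFinite ↥(Hsub G a b)
  obtain ⟨g, hga, hgb⟩ := S.two_move S.ne hcd
  have h2 : 2 ∣ Nat.card ↥(Hsub G a b) := by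
    have hq : Odd (p ^ n) := (S.prime.odd_of_ne_two S.odd).pow
    have hd : Nat.Coprime 2 (Nat.gcd 3 (p ^ n + 1)) :=
      (show Nat.Coprime 2 3 by norm_num).coprime_dvd_right (Nat.gcd_dvd_left _ _)
    refine hd.dvd_of_dvd_mul_left ?_
    rw [S.card_H]
    obtain ⟨k, hk⟩ := hq
    rw [hk, show (2 * k + 1) ^ 2 - 1 = 2 * (2 * k * k + 2 * k) from by ring_nf; omega]
    exact dvd_mul_right 2 _
  have huniq : ∀ x y : ↥(Hsub G a b), orderOf x = 2 → orderOf y = 2 → x = y := by
    classical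
    intro x y hx hy
    have hc := IsCyclic.card_orderOf_eq_totient (α := ↥(Hsub G a b)) (d := 2)
      (by rwa [← Nat.card_eq_fintype_card])
    rw [Nat.totient_two] at hc
    exact Finset.card_le_one.1 hc.le x (by simp [hx]) y (by simp [hy])
  obtain ⟨j, hj⟩ := exists_prime_orderOf_dvd_card' (G := ↥(Hsub G a b)) 2 h2
  have hconj : ∀ i : G, orderOf (g⁻¹ * i * g) = orderOf i := fun i => by
    have := orderOf_injective (MulAut.conj g⁻¹).toMonoidHom (MulAut.conj g⁻¹).injective i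
    simpa using this
  refine ⟨g * j * g⁻¹, ⟨?_, ?_, ?_⟩, ?_⟩
  · rw [← hconj]
    simpa [mul_assoc, Subgroup.orderOf_coe] using hj
  · rw [← hga, ← mul_smul, mul_assoc, inv_mul_cancel, mul_one, mul_smul]
    exact congrArg (g • ·) j.2.1
  · rw [← hgb, ← mul_smul, mul_assoc, inv_mul_cancel, mul_one, mul_smul]
    exact congrArg (g • ·) j.2.2
  · rintro i ⟨hi, hic, hid⟩
    have hm : g⁻¹ * i * g ∈ Hsub G a b := by
      refine ⟨?_, ?_⟩
      · show (g⁻¹ * i * g) • a = a
        rw [mul_smul, mul_smul, inv_smul_eq_iff, hga, hic]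
      · show (g⁻¹ * i * g) • b = b
        rw [mul_smul, mul_smul, inv_smul_eq_iff, hgb, hid]
    have := huniq ⟨_, hm⟩ j (by rw [Subgroup.orderOf_mk, hconj, hi]) hj
    rw [← congrArg Subtype.val this]
    group

theorem setupFacts : SetupFacts.{u, v} := by
  intro G Ω _ _ a b U p n S
  haveI := S.finite
  haveI := S.finite_pts
  haveI := S.pretransitive
  refine ⟨S.card_U, ?_, fun g hg => S.exists_mul hg, S.two_move S.ne S.ne.symm,
    fun c d hcd => S.unique_involution hcd⟩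
  rw [← (stabilizer G a).card_mul_index, index_stabilizer_of_transitive, S.card_pts, S.card_stab]
  ring

theorem blockCard : BlockCard.{u, v} := by
  intro G Ω _ _ a b U p n j Z W L i c hi hic
  haveI := L.finite
  haveI := L.finite_pts
  have S := L.toSetup
  -- a second fixed point
  obtain ⟨d, hdi, hdc⟩ : ∃ d, i • d = d ∧ d ≠ c := by
    by_contra hno
    push Not at hno
    have hpg : IsPGroup 2 ↥(zpowers i) := IsPGroup.of_card (n := 1) (by rw [Nat.card_zpowers, hi, pow_one])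
    haveI : Fact (Nat.Prime 2) := ⟨Nat.prime_two⟩
    have hm := hpg.card_modEq_card_fixedPoints Ω
    have hfix : fixedPoints ↥(zpowers i) Ω = {c} := by
      ext x
      rw [mem_fixedPoints, Set.mem_singleton_iff]
      refine ⟨fun h => hno x (h ⟨i, mem_zpowers i⟩), ?_⟩
      rintro rfl g
      exact mem_stabilizer_iff.1 ((zpowers_le.2 (mem_stabilizer_iff.2 hic)) g.2)
    rw [hfix, Nat.card_coe_set_eq, Set.ncard_singleton, S.card_pts] at hm
    have hq : Odd ((p ^ n) ^ 3) := ((S.prime.odd_of_ne_two S.odd).pow).pow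
    obtain ⟨k, hk⟩ := hq
    unfold Nat.ModEq at hm
    omega
  obtain ⟨g, hga, hgb⟩ := S.two_move S.ne hdc.symm
  have hji : g * j * g⁻¹ = i := by
    refine (S.unique_involution hdc.symm).unique ⟨?_, ?_, ?_⟩ ⟨hi, hic, hdi⟩
    · rw [← L.j_ord]
      exact orderOf_injective (MulAut.conj g).toMonoidHom (MulAut.conj g).injective j
    · rw [← hga, ← mul_smul, mul_assoc, inv_mul_cancel, mul_one, mul_smul, L.j_mem.1]
    · rw [← hgb, ← mul_smul, mul_assoc, inv_mul_cancel, mul_one, mul_smul, L.j_mem.2]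
  have e1 : Nat.card {x : Ω // i • x = x} = Nat.card {x : Ω // j • x = x} :=
    (Nat.card_congr ((MulAction.toPerm g).subtypeEquiv fun x => by
      show j • x = x ↔ i • g • x = g • x
      rw [← hji, ← mul_smul, inv_mul_cancel_right, mul_smul, smul_left_cancel_iff])).symm
  rw [e1, ← L.card_Z]
  have hja : j • a = a := L.j_mem.1
  have hjb : j • b = b := L.j_mem.2
  have key : ∀ u ∈ U, (j • u • b = u • b ↔ u ∈ Z) := by
    intro u hu
    rw [L.Z_eq, Subgroup.mem_inf, mem_centralizer_singleton_iff]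
    constructor
    · intro h
      refine ⟨hu, ?_⟩
      have hcu := S.conj_mem j (mem_stabilizer_iff.2 hja) u hu
      have hjinv : j⁻¹ • b = b := inv_smul_eq_iff.2 hjb.symm
      have e : j * u * j⁻¹ = u := congrArg Subtype.val ((S.regular (u • b) fun e => S.ne
        (smul_left_cancel u (e.trans (S.le hu).symm)).symm).unique
          (y₁ := ⟨_, hcu⟩) (y₂ := ⟨u, hu⟩) (by
            show (j * u * j⁻¹) • b = u • b
            rw [mul_smul, mul_smul, hjinv, h]) rfl)
      exact (mul_inv_eq_iff_eq_mul.1 e).symm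
    · rintro ⟨-, e⟩
      rw [← mul_smul, ← e, mul_smul, hjb]
  let f : Option Z → {x : Ω // j • x = x} := fun o => o.elim ⟨a, hja⟩ fun z =>
    ⟨(z : G) • b, (key z (L.Z_eq.le z.2).1).2 z.2⟩
  have hab : ∀ u ∈ U, u • b ≠ a := fun u hu e =>
    S.ne (smul_left_cancel u (e.trans (S.le hu).symm)).symm
  rw [← Finite.card_option (α := Z)]
  refine (Nat.card_congr (Equiv.ofBijective f ⟨?_, ?_⟩)).symm
  · rintro (_ | z) (_ | z') e
    · rfl
    · exact absurd (congrArg Subtype.val e).symm (hab z' (L.Z_eq.le z'.2).1)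
    · exact absurd (congrArg Subtype.val e) (hab z (L.Z_eq.le z.2).1)
    · have h : (z : G) • b = (z' : G) • b := congrArg Subtype.val e
      have := (S.regular _ (hab z (L.Z_eq.le z.2).1)).unique (y₁ := ⟨(z : G), (L.Z_eq.le z.2).1⟩)
        (y₂ := ⟨(z' : G), (L.Z_eq.le z'.2).1⟩) rfl h.symm
      exact congrArg some (Subtype.ext (congrArg (fun u : U => (u : G)) this))
  · rintro ⟨x, hx⟩
    by_cases hxa : x = a
    · exact ⟨none, Subtype.ext hxa.symm⟩
    · obtain ⟨u, rfl, -⟩ := S.regular x hxa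
      exact ⟨some ⟨u, (key u u.2).1 hx⟩, rfl⟩

end CfsgLib.Recog.OddUnitary
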